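import Cfsg.Agent.Lib.Suzuki.Simple
import Cfsg.Agent.Lib.KnownB.SzWord
import Cfsg.Agent.Lib.Recog.SuzukiFPF

/-!
The stabiliser of the ovoid in `SL₄` is the group `Cfsg.Lie.Sz F (2 ^ (m + 1))` of matrices.
-/

set_option autoImplicit false
set_option linter.unusedSectionVars false

namespace CfsgLib.Suzuki

open Matrix Cfsg
open scoped Pointwise LinearAlgebra.Projectivization MatrixGroups

variable {F : Type*} [Field F] [CharP F 2] [Fintype F] {m : ℕ}

/-- Every element is a product of unipotent, diagonal and Weyl elements. -/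
theorem induction_on_sz (hm : 1 ≤ m) (hF : Fintype.card F = 2 ^ (2 * m + 1))
    {S : Subgroup (Cfsg.Sz F m)} (ht : ∀ a b, tG (thSq_of_card hF) a b ∈ S)
    (hh : ∀ s, hG (thSq_of_card hF) s ∈ S) (hw : wG (thSq_of_card hF) ∈ S)
    (g : Cfsg.Sz F m) : g ∈ S := by
  set h := thSq_of_card hF
  have hB : bSub F m ≤ S := fun g hg => by
    obtain ⟨a, b, t, rfl⟩ := exists_of_mem_bSub hm hF hg
    exact mul_mem (ht a b) (hh t)
  rcases mem_ovoid.1 (smul_mem_ovoid g.2 (mem_ovoid.2 (Or.inl rfl))) with e | ⟨x, y, e⟩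
  · exact hB e
  · have hmem : (tG h x y * wG h)⁻¹ * g ∈ bSub F m := by
      show ((tG h x y * wG h)⁻¹ * g) • pInf F = pInf F
      rw [mul_smul, inv_smul_eq_iff, mul_smul]
      show g.1 • pInf F = tSL m x y • wSL F • pInf F
      rw [e, wSL_smul_inf, tSL_smul h]
      simp
    have h' := mul_mem (mul_mem (ht x y) hw) (hB hmem)
    rwa [mul_inv_cancel_left] at h'

theorem he_pos : 0 < 2 ^ (m + 1) := Nat.two_pow_pos _

theorem hee_of_card (hF : Fintype.card F = 2 ^ (2 * m + 1)) (x : F) :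
    (x ^ 2 ^ (m + 1)) ^ 2 ^ (m + 1) = x ^ 2 := by
  rw [← th_def, ← th_def]
  exact thSq_of_card hF x

/-- The inclusion into `GL₄`. -/
def toGLHom (F : Type*) [Field F] (m : ℕ) : Cfsg.Sz F m →* GL (Fin 4) F :=
  Matrix.SpecialLinearGroup.toGL.comp (Cfsg.Sz F m).subtype

theorem toGLHom_injective : Function.Injective (toGLHom F m) := fun g g' e => by
  apply Subtype.ext
  apply Subtype.ext
  exact congrArg (fun u : GL (Fin 4) F => (u : Matrix (Fin 4) (Fin 4) F)) e

theorem toGLHom_mem (hm : 1 ≤ m) (hF : Fintype.card F = 2 ^ (2 * m + 1)) (g : Cfsg.Sz F m) :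
    toGLHom F m g ∈ Lie.Sz F (2 ^ (m + 1)) := by
  set h := thSq_of_card hF
  refine induction_on_sz hm hF (S := (Lie.Sz F (2 ^ (m + 1))).comap (toGLHom F m)) ?_ ?_ ?_ g
  · have hK : ∀ a, toGLHom F m (tG h a 0) ∈ Lie.Sz F (2 ^ (m + 1)) := fun a => by
      refine KnownB.SzW.mem_Sz _ ?_
      have hM : tMat m a (0 : F) = KnownB.SzW.kMat (2 ^ (m + 1)) a := by
        ext i j
        fin_cases i <;> fin_cases j <;> simp [tMat, KnownB.SzW.kMat, th_def, pow_add]
      show KnownB.SzW.IsSzMat _ (tMat m a 0)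
      rw [hM]
      exact KnownB.SzW.isSz_kMat he_pos (hee_of_card hF) a
    have hZ : ∀ c, toGLHom F m (tG h 0 c) ∈ Lie.Sz F (2 ^ (m + 1)) := fun c => by
      let z : GL (Fin 4) F := Matrix.GeneralLinearGroup.mkOfDetNeZero
        (KnownB.SzW.zMat (2 ^ (m + 1)) c)
        (by simp [KnownB.SzW.zMat, Matrix.det_succ_row_zero, Fin.sum_univ_succ])
      have hz : z ∈ Lie.Sz F (2 ^ (m + 1)) :=
        KnownB.SzW.mem_Sz _ (KnownB.SzW.isSz_zMat he_pos (hee_of_card hF) c)
      have hw : toGLHom F m (wG h) ∈ Lie.Sz F (2 ^ (m + 1)) :=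
        KnownB.SzW.mem_Sz _ (KnownB.SzW.isSz_wMat he_pos)
      have e : toGLHom F m (tG h 0 c) = toGLHom F m (wG h) * z * toGLHom F m (wG h) := by
        apply Units.ext
        show tMat m 0 c = (wSL F).1 * KnownB.SzW.zMat _ c * (wSL F).1
        ext i j
        fin_cases i <;> fin_cases j <;>
          simp [tMat, wSL, KnownB.SzW.zMat, Matrix.mul_apply, Fin.sum_univ_four, th_def]
      rw [e]
      exact mul_mem (mul_mem hw hz) hw
    intro a b
    show toGLHom F m (tG h a b) ∈ Lie.Sz F (2 ^ (m + 1))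
    have e : tG h a b = tG h 0 b * tG h a 0 := by
      rw [tG_mul, map_zero, zero_mul, add_zero, add_zero, zero_add]
    rw [e, map_mul]
    exact mul_mem (hZ b) (hK a)
  · intro s
    refine KnownB.SzW.mem_Sz _ ?_
    have hM : hMat m (s : F) = KnownB.SzW.hMat (2 ^ (m + 1)) (s : F) := by
      simp only [hMat, KnownB.SzW.hMat, th_def, pow_succ]
    show KnownB.SzW.IsSzMat _ (hMat m (s : F))
    rw [hM]
    exact KnownB.SzW.isSz_hMat he_pos (hee_of_card hF) s.ne_zero
  · exact KnownB.SzW.mem_Sz _ (KnownB.SzW.isSz_wMat he_pos)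

/-- The ovoid as the vectors carrying a tangent line with the prescribed Plücker coordinates. -/
def Tan (m : ℕ) (v : Fin 4 → F) : Prop :=
  ∃ u : Fin 4 → F, Lie.altForm4 v u = 0 ∧
    ∀ p, v (Lie.pairOf p).1 * u (Lie.pairOf p).2 - v (Lie.pairOf p).2 * u (Lie.pairOf p).1 =
      th m (v p)

theorem tan_smul {v : Fin 4 → F} (hv : Tan m v) {c : F} (hc : c ≠ 0) : Tan m (c • v) := by
  obtain ⟨u, hu, hp⟩ := hv
  refine ⟨(th m c / c) • u, ?_, fun p => ?_⟩
  · simp only [Lie.altForm4, Pi.smul_apply, smul_eq_mul] at hu ⊢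
    linear_combination (c * (th m c / c)) * hu
  · simp only [Pi.smul_apply, smul_eq_mul, map_mul]
    rw [← hp p]
    field_simp

theorem mem_ovoid_iff_tan (h : ThSq F m) {v : Fin 4 → F} (hv : v ≠ 0) :
    Projectivization.mk F v hv ∈ suzukiOvoid F m ↔ Tan m v := by
  constructor
  · intro hp
    rcases mem_ovoid.1 hp with e | ⟨x, y, e⟩
    · obtain ⟨c, rfl⟩ := (Projectivization.mk_eq_mk_iff' F _ _ _ _).1 e
      refine tan_smul ⟨![0, 1, 0, 0], ?_, fun p => ?_⟩ (fun hc => hv (by simp [hc]))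
      · simp [Lie.altForm4, infV]
      · fin_cases p <;> simp [infV, Lie.pairOf]
    · obtain ⟨c, rfl⟩ := (Projectivization.mk_eq_mk_iff' F _ _ _ _).1 e
      refine tan_smul ⟨![y + x * th m x, th m x, 1, 0], ?_, fun p => ?_⟩ (fun hc => hv (by simp [hc]))
      · simp [Lie.altForm4, pv]
        linear_combination (y + x * th m x) * (CharTwo.two_eq_zero (R := F))
      · fin_cases p <;> simp [pv, ovF, Lie.pairOf, CharTwo.sub_eq_add, map_add, map_mul, map_pow, h x, h y]
        all_goals apply sub_eq_zero.1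
        all_goals ring_nf
        all_goals simp [CharTwo.two_eq_zero]
  · intro ht
    by_cases h3 : v 3 = 0
    · obtain ⟨u, hu, hp⟩ := ht
      have p0 := hp 0
      have p1 := hp 1
      have p2 := hp 2
      have p3 := hp 3
      simp [Lie.pairOf, h3] at p0 p1 p2 p3
      simp [Lie.altForm4, h3] at hu
      have hv2 : v 2 = 0 := by
        by_contra h2
        have : u 3 = 0 := p3.resolve_left h2
        rw [this, mul_zero] at p2
        exact h2 ((map_eq_zero (th m)).1 p2.symm)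
      have hv1 : v 1 = 0 := by
        by_contra h1
        have h' : v 1 * u 3 = 0 := by rw [p2, hv2, map_zero]
        have hu3 : u 3 = 0 := (mul_eq_zero.1 h').resolve_left h1
        have hu2 : u 2 = 0 := by
          rw [hu3, hv2] at hu
          simpa [h1] using hu
        rw [hu2, hv2] at p1
        simp at p1
        exact h1 ((map_eq_zero (th m)).1 p1.symm)
      refine mem_ovoid.2 (Or.inl ((Projectivization.mk_eq_mk_iff' F _ _ _ _).2 ⟨v 0, ?_⟩))
      ext i
      fin_cases i <;> simp [infV, h3, hv1, hv2]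
    · obtain ⟨u, hu, hp⟩ := tan_smul ht (inv_ne_zero h3)
      set z := (v 3)⁻¹ • v with hz
      have hz3 : z 3 = 1 := by simp [hz, h3]
      have p0 := hp 0
      have p1 := hp 1
      have p2 := hp 2
      have p3 := hp 3
      simp only [Lie.altForm4] at hu
      simp [Lie.pairOf, hz3] at p0 p1 p2 p3
      rw [hz3] at hu
      have hz0 : z 0 = ovF m (z 2) (z 1) := by
        rw [ovF, ← p1, ← p2]
        have h2 := CharTwo.two_eq_zero (R := F)
        linear_combination (-(z 0) - z 1 * z 2) * p3 + (z 2) * hu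
          + (-(z 0) * u 2 - z 1 * z 2 - z 1 * z 2 * u 2) * h2
      refine mem_ovoid.2 (Or.inr ⟨z 2, z 1, (Projectivization.mk_eq_mk_iff' F _ _ _ _).2 ⟨v 3, ?_⟩⟩)
      rw [show pv m (z 2) (z 1) = z by ext i; fin_cases i <;> simp [pv, hz0, hz3], hz,
        smul_inv_smul₀ h3]

theorem tan_mulVec {A : Matrix (Fin 4) (Fin 4) F} (hA : Recog.Suz.IsSymp A)
    (hstar : Lie.star4 A = A.map (fun x => x ^ 2 ^ (m + 1))) {v : Fin 4 → F} (hv : Tan m v) :
    Tan m (A *ᵥ v) := by
  obtain ⟨u, hu, hp⟩ := hv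
  refine ⟨A *ᵥ u, (hA v u).trans hu, fun p => ?_⟩
  have hr : ∀ i j : Fin 4, A i 0 * A j 3 + A i 1 * A j 2 + A i 2 * A j 1 + A i 3 * A j 0 =
      Recog.Suz.jMat F i j := by
    intro i j
    rw [← congrFun (congrFun (Recog.Suz.isSymp_transpose hA) i) j]
    simp [Recog.Suz.jMat, Matrix.mul_apply, Fin.sum_univ_four]
    ring
  have hs : ∀ r, th m (A p r) = Lie.star4 A p r := fun r => by
    rw [hstar, Matrix.map_apply, th_def]
  have hkl : Recog.Suz.jMat F (Lie.pairOf p).1 (Lie.pairOf p).2 = 0 := by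
    fin_cases p <;> simp [Recog.Suz.jMat, Lie.pairOf]
  have h1 := hr (Lie.pairOf p).1 (Lie.pairOf p).2
  rw [hkl] at h1
  simp only [Matrix.mulVec, dotProduct, Fin.sum_univ_four, map_add, map_mul, hs, ← hp]
  simp only [Lie.star4, Matrix.of_apply]
  simp only [Lie.altForm4] at hu
  generalize (Lie.pairOf p).1 = k at h1 ⊢
  generalize (Lie.pairOf p).2 = l at h1 ⊢
  simp only [Lie.pairOf, Matrix.cons_val_zero, Matrix.cons_val_one, Matrix.cons_val, CharTwo.sub_eq_add]
  linear_combination (v 0 * u 3 + v 3 * u 0) * h1 + (A k 1 * A l 2 + A k 2 * A l 1) * hu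
    + (-(A k 1 * A l 2 * v 0 * u 3) - A k 1 * A l 2 * v 3 * u 0
      - A k 2 * A l 1 * v 0 * u 3 - A k 2 * A l 1 * v 3 * u 0
      + A k 0 * A l 0 * v 0 * u 0 + A k 1 * A l 1 * v 1 * u 1
      + A k 2 * A l 2 * v 2 * u 2 + A k 3 * A l 3 * v 3 * u 3) * (CharTwo.two_eq_zero (R := F))

theorem det_of_isSymp {A : Matrix (Fin 4) (Fin 4) F} (hA : Recog.Suz.IsSymp A) : A.det = 1 := by
  have h := congrArg Matrix.det (Recog.Suz.isSymp_transpose hA)
  have hJ : (Recog.Suz.jMat F).det ≠ 0 := fun e => by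
    simpa [e] using congrArg Matrix.det (Recog.Suz.jMat_sq (F := F))
  rw [Matrix.det_mul, Matrix.det_mul, Matrix.det_transpose] at h
  have h2 : (A.det - 1) * (A.det - 1) = 0 := by
    apply mul_right_cancel₀ hJ
    linear_combination h + (Recog.Suz.jMat F).det * (1 - A.det) * (CharTwo.two_eq_zero (R := F))
  rcases mul_eq_zero.1 h2 with h3 | h3 <;> exact sub_eq_zero.1 h3

theorem range_toGLHom (hm : 1 ≤ m) (hF : Fintype.card F = 2 ^ (2 * m + 1)) :
    (toGLHom F m).range = Lie.Sz F (2 ^ (m + 1)) := by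
  refine le_antisymm (by rintro _ ⟨g, rfl⟩; exact toGLHom_mem hm hF g) fun g hg => ?_
  obtain ⟨hSp, hstar⟩ := Recog.Suz.mem_Sp4_and_star (m := m + 1) rfl hg
  have hsy : Recog.Suz.IsSymp (g : Matrix (Fin 4) (Fin 4) F) := hSp
  let g' : Matrix.SpecialLinearGroup (Fin 4) F := ⟨g, det_of_isSymp hsy⟩
  have h := thSq_of_card hF
  refine ⟨⟨g', mem_Sz_of_mapsTo fun p hp => ?_⟩, Units.ext rfl⟩
  induction p using Projectivization.ind with
  | _ v hv =>
    rw [Projectivization.smul_mk, mem_ovoid_iff_tan h]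
    rw [mem_ovoid_iff_tan h] at hp
    rw [Matrix.SpecialLinearGroup.smul_def]
    exact tan_mulVec hsy hstar hp

/-- The two descriptions of the Suzuki group agree. -/
noncomputable def szEquiv (hm : 1 ≤ m) (hF : Fintype.card F = 2 ^ (2 * m + 1)) :
    Cfsg.Sz F m ≃* Lie.Sz F (2 ^ (m + 1)) :=
  (MonoidHom.ofInjective toGLHom_injective).trans (MulEquiv.subgroupCongr (range_toGLHom hm hF))

/-- The Suzuki group preserves the symplectic form. -/
theorem isSymp_of_mem_sz (hm : 1 ≤ m) (hF : Fintype.card F = 2 ^ (2 * m + 1))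
    {g : Matrix.SpecialLinearGroup (Fin 4) F} (hg : g ∈ Cfsg.Sz F m) : Recog.Suz.IsSymp g.1 :=
  (Recog.Suz.mem_Sp4_and_star (m := m + 1) rfl (toGLHom_mem hm hF ⟨g, hg⟩)).1

end CfsgLib.Suzuki
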