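import Cfsg.Agent.Lib.Suzuki.Simple

/-!
The Sylow 2-subgroup of a Suzuki group: structure, normaliser and trivial intersections.
-/

set_option autoImplicit false
set_option linter.unusedSectionVars false

namespace CfsgLib.Suzuki

open Matrix Cfsg
open scoped Pointwise LinearAlgebra.Projectivization

variable {F : Type*} [Field F] [CharP F 2] [Fintype F] {m : ℕ}

theorem card_units_odd (hF : Fintype.card F = 2 ^ (2 * m + 1)) : ¬ 2 ∣ Fintype.card F - 1 := by
  have : 1 ≤ 2 ^ (2 * m) := Nat.one_le_two_pow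
  rw [hF, pow_succ]
  omega

theorem orbit_pInf (hF : Fintype.card F = 2 ^ (2 * m + 1)) :
    MulAction.orbit (Cfsg.Sz F m) (pInf F) = suzukiOvoid F m := by
  set h := thSq_of_card hF
  ext p
  constructor
  · rintro ⟨g, rfl⟩
    exact smul_mem_ovoid g.2 (mem_ovoid.2 (Or.inl rfl))
  · intro hp
    rcases mem_ovoid.1 hp with rfl | ⟨x, y, rfl⟩
    · exact MulAction.mem_orbit_self _
    · refine ⟨tG h x y * wG h, ?_⟩
      show (tSL m x y * wSL F) • pInf F = _
      rw [mul_smul, wSL_smul_inf, tSL_smul h]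
      simp

theorem index_bSub (hF : Fintype.card F = 2 ^ (2 * m + 1)) :
    (bSub F m).index = Fintype.card F ^ 2 + 1 := by
  rw [bSub, MulAction.index_stabilizer, orbit_pInf hF, card_ovoid, Nat.card_eq_fintype_card]

theorem card_bSub (hm : 1 ≤ m) (hF : Fintype.card F = 2 ^ (2 * m + 1)) :
    Nat.card (bSub F m) = Fintype.card F ^ 2 * (Fintype.card F - 1) := by
  have h1 := Subgroup.card_mul_index (bSub F m)
  rw [index_bSub hF, card_sz hm hF] at h1
  exact Nat.eq_of_mul_eq_mul_right (by positivity) h1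

theorem not_dvd_index_uSub (hm : 1 ≤ m) (hF : Fintype.card F = 2 ^ (2 * m + 1)) :
    ¬ 2 ∣ (uSub (thSq_of_card hF)).index := by
  have h1 := Subgroup.card_mul_index (uSub (thSq_of_card hF))
  rw [card_sz hm hF, card_uSub, Nat.card_eq_fintype_card, mul_assoc] at h1
  have h2 := Nat.eq_of_mul_eq_mul_left (pow_pos (Fintype.card_pos (α := F)) 2) h1
  rw [h2, Nat.prime_two.dvd_mul]
  rintro (h | h)
  · exact card_units_odd hF h
  · have : 2 ∣ Fintype.card F ^ 2 := dvd_pow (hF ▸ dvd_pow_self 2 (by omega)) two_ne_zero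
    omega

/-- `U` as a Sylow 2-subgroup. -/
noncomputable def uSylow (hm : 1 ≤ m) (hF : Fintype.card F = 2 ^ (2 * m + 1)) :
    Sylow 2 (Cfsg.Sz F m) :=
  haveI : Fact (Nat.Prime 2) := ⟨Nat.prime_two⟩
  (isPGroup_uSub hF).toSylow (not_dvd_index_uSub hm hF)

theorem uSylow_coe (hm : 1 ≤ m) (hF : Fintype.card F = 2 ^ (2 * m + 1)) :
    ((uSylow hm hF : Sylow 2 (Cfsg.Sz F m)) : Subgroup (Cfsg.Sz F m)) = uSub (thSq_of_card hF) :=
  rfl

theorem exists_conj_sylow (hm : 1 ≤ m) (hF : Fintype.card F = 2 ^ (2 * m + 1))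
    (P : Sylow 2 (Cfsg.Sz F m)) :
    ∃ g : Cfsg.Sz F m, (P : Subgroup (Cfsg.Sz F m)) =
      (uSub (thSq_of_card hF)).map (MulAut.conj g).toMonoidHom := by
  have : Fact (Nat.Prime 2) := ⟨Nat.prime_two⟩
  obtain ⟨g, hg⟩ := MulAction.exists_smul_eq (Cfsg.Sz F m) (uSylow hm hF) P
  exact ⟨g, by rw [← hg]; rfl⟩

theorem tG_smul (h : ThSq F m) (a b x y : F) :
    tG h a b • pFin m x y = pFin m (x + a) (y + b + th m a * x) := tSL_smul h a b x y

theorem tG_smul_inf (h : ThSq F m) (a b : F) : tG h a b • pInf F = pInf F := tSL_smul_inf a b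

theorem eq_one_of_mem_uSub_of_fix {h : ThSq F m} {u : Cfsg.Sz F m} (hu : u ∈ uSub h) {x y : F}
    (hfix : u • pFin m x y = pFin m x y) : u = 1 := by
  obtain ⟨a, b, rfl⟩ := hu
  rw [tG_smul] at hfix
  obtain ⟨h1, h2⟩ := pFin_inj hfix
  have ha : a = 0 := by simpa using h1
  subst ha
  simp at h2
  rw [h2, tG_zero]

/-- Unipotent elements fix no other point: intersections of conjugates of `U` are trivial. -/
theorem mem_bSub_of_conj {h : ThSq F m} {g u : Cfsg.Sz F m} (hu : u ∈ uSub h) (hu1 : u ≠ 1)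
    (hg : g * u * g⁻¹ ∈ bSub F m) : g ∈ bSub F m := by
  have h1 : u • (g⁻¹ • pInf F) = g⁻¹ • pInf F := by
    have h2 : (g * u * g⁻¹) • pInf F = pInf F := hg
    rw [mul_smul, mul_smul] at h2
    exact (inv_smul_eq_iff.2 h2.symm).symm
  rcases mem_ovoid.1 (smul_mem_ovoid (g⁻¹).2 (mem_ovoid.2 (Or.inl rfl))) with e | ⟨x, y, e⟩
  · exact (Subgroup.inv_mem_iff _).1 (show g⁻¹ ∈ bSub F m from e)
  · refine absurd ?_ hu1
    have e' : g⁻¹ • pInf F = pFin m x y := e
    exact eq_one_of_mem_uSub_of_fix hu (e' ▸ h1)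

theorem conj_mem_uSub (hm : 1 ≤ m) (hF : Fintype.card F = 2 ^ (2 * m + 1)) {g u : Cfsg.Sz F m}
    (hg : g ∈ bSub F m) (hu : u ∈ uSub (thSq_of_card hF)) :
    g * u * g⁻¹ ∈ uSub (thSq_of_card hF) := by
  set h := thSq_of_card hF
  obtain ⟨a, b, s, rfl⟩ := exists_of_mem_bSub hm hF hg
  obtain ⟨c, d, rfl⟩ := hu
  have h1 : hG h s * tG h c d * (hG h s)⁻¹ ∈ uSub h := by
    rw [hG_conj]; exact ⟨_, _, rfl⟩
  have h2 : tG h a b ∈ uSub h := ⟨_, _, rfl⟩
  have := mul_mem (mul_mem h2 h1) (inv_mem h2)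
  simpa [mul_assoc] using this

theorem normalizer_uSub (hm : 1 ≤ m) (hF : Fintype.card F = 2 ^ (2 * m + 1)) :
    Subgroup.normalizer ((uSub (thSq_of_card hF)) : Set (Cfsg.Sz F m)) = bSub F m := by
  set h := thSq_of_card hF
  ext g
  rw [Subgroup.mem_normalizer_iff]
  constructor
  · intro hg
    refine mem_bSub_of_conj (h := h) (u := tG h 1 0) ⟨1, 0, rfl⟩ ?_ ?_
    · rw [Ne, tG_eq_one]; simp
    · exact uSub_le_bSub h ((hg _).1 ⟨1, 0, rfl⟩)
  · intro hg u
    refine ⟨fun hu => conj_mem_uSub hm hF hg hu, fun hu => ?_⟩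
    have := conj_mem_uSub hm hF (inv_mem hg) hu
    simpa [mul_assoc] using this

/-- The subgroup of elements `tG 0 b`. -/
def zSub (h : ThSq F m) : Subgroup (Cfsg.Sz F m) where
  carrier := {g | ∃ b, g = tG h 0 b}
  mul_mem' := by
    rintro _ _ ⟨a, rfl⟩ ⟨b, rfl⟩
    exact ⟨b + a, by rw [tG_mul, map_zero, zero_mul, add_zero, add_zero]⟩
  one_mem' := ⟨0, (tG_zero h).symm⟩
  inv_mem' := by
    rintro _ ⟨a, rfl⟩
    exact ⟨a, by rw [tG_inv, map_zero, zero_mul, add_zero]⟩

theorem zSub_le (h : ThSq F m) : zSub h ≤ uSub h := fun _ ⟨b, hb⟩ => ⟨0, b, hb⟩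

theorem card_zSub (h : ThSq F m) : Nat.card (zSub h) = Nat.card F := by
  refine (Nat.card_eq_of_bijective (fun b : F => (⟨tG h 0 b, b, rfl⟩ : zSub h)) ⟨?_, ?_⟩).symm
  · intro p q e
    exact (tG_inj h (congrArg Subtype.val e)).2
  · rintro ⟨_, b, rfl⟩
    exact ⟨b, rfl⟩

theorem tG_sq (h : ThSq F m) (a b : F) : tG h a b * tG h a b = tG h 0 (th m a * a) := by
  rw [tG_mul, CharTwo.add_self_eq_zero]
  congr 1
  linear_combination b * (CharTwo.two_eq_zero (R := F))

theorem tG_commutator (h : ThSq F m) (a b c d : F) :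
    tG h a b * tG h c d * (tG h a b)⁻¹ * (tG h c d)⁻¹ = tG h 0 (th m a * c + th m c * a) := by
  simp only [tG_inv, tG_mul]
  have e1 : c + (a + (c + a)) = 0 := by
    linear_combination (a + c) * (CharTwo.two_eq_zero (R := F))
  rw [e1]
  congr 1
  rw [map_add, map_add, map_add]
  linear_combination (b + d + th m c * c + th m a * a + th m a * c) *
    (CharTwo.two_eq_zero (R := F))

theorem orderOf_tG_of_ne_zero (h : ThSq F m) {a : F} (ha : a ≠ 0) (b : F) :
    orderOf (tG h a b) = 4 := by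
  have : Fact (Nat.Prime 2) := ⟨Nat.prime_two⟩
  refine orderOf_eq_prime_pow (p := 2) (n := 1) ?_ ?_
  · rw [pow_one, sq, tG_sq, tG_eq_one, mul_eq_zero]
    simpa using ha
  · rw [show (2 : ℕ) ^ (1 + 1) = 2 * 2 by norm_num, pow_mul, sq, sq, tG_sq, tG_sq, map_zero,
      zero_mul, tG_zero]

theorem th_mul_self_injective (h : ThSq F m) :
    Function.Injective (fun s : Fˣ => th m (s : F) * (s : F)) := by
  intro s t e
  have key : ∀ z : F, th m z * z = 1 → z = 1 := fun z hz => by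
    have := congrArg (th m) hz
    rw [map_mul, h, map_one] at this
    linear_combination this - z * hz
  have hs : (t : F) ≠ 0 := t.ne_zero
  have hth : th m (t : F) ≠ 0 := by simpa using hs
  have := key ((s : F) / (t : F)) (by
    rw [map_div₀]; field_simp; linear_combination e)
  exact Units.ext ((div_eq_one_iff_eq hs).1 this)

theorem exists_th_mul_self (h : ThSq F m) {b : F} (hb : b ≠ 0) :
    ∃ s : Fˣ, th m (s : F) * (s : F) = b := by
  let f : Fˣ → Fˣ := fun s =>
    Units.mk0 (th m (s : F) * (s : F)) (mul_ne_zero (by simp) s.ne_zero)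
  have hf : Function.Injective f := fun s t e => th_mul_self_injective h (congrArg Units.val e)
  obtain ⟨s, hs⟩ := Finite.surjective_of_injective hf (Units.mk0 b hb)
  exact ⟨s, congrArg Units.val hs⟩

theorem exists_ne_zero_one (hm : 1 ≤ m) (hF : Fintype.card F = 2 ^ (2 * m + 1)) :
    ∃ a : F, a ≠ 0 ∧ a ≠ 1 := by
  obtain ⟨s, hs⟩ := exists_unit_ne_one hm hF
  exact ⟨s, s.ne_zero, fun e => hs (Units.ext e)⟩

/-- The centre of `U`. -/
theorem center_uSub (hm : 1 ≤ m) (hF : Fintype.card F = 2 ^ (2 * m + 1)) :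
    (Subgroup.center (uSub (thSq_of_card hF))).map (uSub (thSq_of_card hF)).subtype =
      zSub (thSq_of_card hF) := by
  set h := thSq_of_card hF
  ext g
  constructor
  · rintro ⟨⟨_, a, b, rfl⟩, hz, rfl⟩
    rw [SetLike.mem_coe, Subgroup.mem_center_iff] at hz
    have key : ∀ c, th m a * c + th m c * a = 0 := fun c => by
      have h1 : tG h c 0 * tG h a b = tG h a b * tG h c 0 :=
        congrArg Subtype.val (hz ⟨tG h c 0, c, 0, rfl⟩)
      have h2 : tG h a b * tG h c 0 * (tG h a b)⁻¹ * (tG h c 0)⁻¹ = 1 := by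
        rw [← h1, mul_inv_cancel_right, mul_inv_cancel]
      rw [tG_commutator, tG_eq_one] at h2
      exact h2.2
    refine ⟨b, ?_⟩
    suffices a = 0 by subst this; rfl
    by_contra ha
    have e1 : th m a = a := by
      have := key 1
      rw [map_one] at this
      linear_combination this - a * (CharTwo.two_eq_zero (R := F))
    obtain rfl := (th_eq_self h e1).resolve_left ha
    obtain ⟨c, hc0, hc1⟩ := exists_ne_zero_one hm hF
    have := key c
    rw [map_one] at this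
    have e2 : th m c = c := by
      linear_combination this - c * (CharTwo.two_eq_zero (R := F))
    exact hc1 ((th_eq_self h e2).resolve_left hc0)
  · rintro ⟨b, rfl⟩
    refine ⟨⟨tG h 0 b, 0, b, rfl⟩, ?_, rfl⟩
    rw [SetLike.mem_coe, Subgroup.mem_center_iff]
    rintro ⟨_, c, d, rfl⟩
    refine Subtype.ext ?_
    show tG h c d * tG h 0 b = tG h 0 b * tG h c d
    rw [tG_mul, tG_mul]
    simp [add_comm]

/-- The commutator subgroup of `U`. -/
theorem commutator_uSub (hm : 1 ≤ m) (hF : Fintype.card F = 2 ^ (2 * m + 1)) :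
    (commutator (uSub (thSq_of_card hF))).map (uSub (thSq_of_card hF)).subtype =
      zSub (thSq_of_card hF) := by
  set h := thSq_of_card hF
  rw [map_commutator_eq, Subgroup.range_subtype]
  refine le_antisymm ?_ ?_
  · rw [Subgroup.commutator_le]
    rintro _ ⟨a, b, rfl⟩ _ ⟨c, d, rfl⟩
    exact ⟨_, tG_commutator h a b c d⟩
  · rintro _ ⟨b, rfl⟩
    rcases eq_or_ne b 0 with rfl | hb
    · rw [tG_zero]; exact one_mem _
    obtain ⟨a, ha0, ha1⟩ := exists_ne_zero_one hm hF
    have hv : th m a + a ≠ 0 := fun e => by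
      rcases th_eq_self h (show th m a = a by
        linear_combination e - a * (CharTwo.two_eq_zero (R := F))) with h' | h'
      · exact ha0 h'
      · exact ha1 h'
    obtain ⟨s, hs⟩ := exists_th_mul_self h (div_ne_zero hb hv)
    have := Subgroup.commutator_mem_commutator (H₁ := uSub h) (H₂ := uSub h)
      (g₁ := tG h (a * (s : F)) 0) ⟨_, _, rfl⟩ (g₂ := tG h (s : F) 0) ⟨_, _, rfl⟩
    rw [commutatorElement_def, tG_commutator] at this
    convert this using 2
    rw [map_mul, show th m a * th m (s : F) * (s : F) + th m (s : F) * (a * (s : F)) =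
      (th m (s : F) * (s : F)) * (th m a + a) by ring, hs, div_mul_cancel₀ _ hv]

theorem exponent_uSub (hm : 1 ≤ m) (hF : Fintype.card F = 2 ^ (2 * m + 1)) :
    Monoid.exponent (uSub (thSq_of_card hF)) = 4 := by
  set h := thSq_of_card hF
  refine Nat.dvd_antisymm (Monoid.exponent_dvd_of_forall_pow_eq_one ?_) ?_
  · rintro ⟨_, a, b, rfl⟩
    refine Subtype.ext ?_
    show tG h a b ^ (2 * 2) = 1
    rw [pow_mul, sq, sq, tG_sq, tG_sq, map_zero, zero_mul, tG_zero]
  · have := Monoid.order_dvd_exponent (⟨tG h 1 0, 1, 0, rfl⟩ : uSub h)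
    rwa [← Subgroup.orderOf_coe, orderOf_tG_of_ne_zero h one_ne_zero] at this

theorem isCoatom_bSub (hm : 1 ≤ m) (hF : Fintype.card F = 2 ^ (2 * m + 1)) :
    IsCoatom (bSub F m) := by
  have h2 := two_transitive (F := F) hF
  have : MulAction.IsPretransitive (Cfsg.Sz F m) ↥(suzukiOvoid F m) :=
    MulAction.isPretransitive_of_is_two_pretransitive
  have : MulAction.IsPreprimitive (Cfsg.Sz F m) ↥(suzukiOvoid F m) :=
    MulAction.isPreprimitive_of_is_two_pretransitive h2
  have : Nontrivial ↥(suzukiOvoid F m) := ⟨⟨pInf F, mem_ovoid.2 (Or.inl rfl)⟩,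
    ⟨pFin m 0 0, mem_ovoid.2 (Or.inr ⟨0, 0, rfl⟩)⟩,
    fun e => pFin_ne_inf (m := m) (0 : F) 0 (congrArg Subtype.val e).symm⟩
  convert MulAction.IsPreprimitive.isCoatom_stabilizer_of_isPreprimitive (Cfsg.Sz F m)
    (⟨pInf F, mem_ovoid.2 (Or.inl rfl)⟩ : ↥(suzukiOvoid F m)) using 1
  ext g
  exact ⟨fun hg => Subtype.ext hg, fun hg => congrArg Subtype.val hg⟩

theorem eq_bSub_of_uSub_le (hm : 1 ≤ m) (hF : Fintype.card F = 2 ^ (2 * m + 1))
    {M : Subgroup (Cfsg.Sz F m)} (hM : IsCoatom M) (hUM : uSub (thSq_of_card hF) ≤ M) :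
    M = bSub F m := by
  set h := thSq_of_card hF
  by_contra hne
  obtain ⟨k, hk, hkB⟩ : ∃ k ∈ M, k ∉ bSub F m := by
    by_contra! hle
    exact hne ((hM.le_iff.1 (show M ≤ bSub F m from hle)).resolve_left (isCoatom_bSub hm hF).1).symm
  obtain ⟨x, y, e⟩ : ∃ x y, k • pInf F = pFin m x y :=
    (mem_ovoid.1 (smul_mem_ovoid k.2 (mem_ovoid.2 (Or.inl rfl)))).resolve_left hkB
  have htr : ∀ g : Cfsg.Sz F m, ∃ n ∈ M, n • pInf F = g • pInf F := by
    intro g
    rcases mem_ovoid.1 (smul_mem_ovoid g.2 (mem_ovoid.2 (Or.inl rfl))) with e' | ⟨x', y', e'⟩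
    · exact ⟨1, one_mem M, by rw [one_smul]; exact e'.symm⟩
    · refine ⟨tG h (x' + x) (y' + y + th m (x' + x) * x) * k, mul_mem (hUM ⟨_, _, rfl⟩) hk, ?_⟩
      rw [mul_smul, e, tG_smul]
      refine Eq.trans ?_ e'.symm
      congr 1
      · linear_combination x * (CharTwo.two_eq_zero (R := F))
      · linear_combination (y + th m (x' + x) * x) * (CharTwo.two_eq_zero (R := F))
  have hconj : ∀ g u, u ∈ uSub h → g * u * g⁻¹ ∈ M := by
    intro g u hu
    obtain ⟨n, hn, hng⟩ := htr g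
    have hb : n⁻¹ * g ∈ bSub F m := by
      show (n⁻¹ * g) • pInf F = pInf F
      rw [mul_smul, ← hng, inv_smul_smul]
    have h1 := mul_mem (mul_mem hn (hUM (conj_mem_uSub hm hF hb hu))) (inv_mem hn)
    simpa [mul_assoc] using h1
  have : IsSimpleGroup (Cfsg.Sz F m) := isSimpleGroup_sz hm hF
  rcases (Subgroup.normalClosure_normal (s := (uSub h : Set (Cfsg.Sz F m)))).eq_bot_or_eq_top with e | e
  · have h1 : tG h 1 0 ∈ Subgroup.normalClosure (uSub h : Set (Cfsg.Sz F m)) :=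
      Subgroup.subset_normalClosure ⟨1, 0, rfl⟩
    rw [e, Subgroup.mem_bot, tG_eq_one] at h1
    exact one_ne_zero h1.1
  · refine hM.1 (top_le_iff.1 (e ▸ ?_))
    rw [Subgroup.normalClosure, Subgroup.closure_le]
    intro z hz
    obtain ⟨u, hu, hc⟩ := Group.mem_conjugatesOfSet_iff.1 hz
    obtain ⟨g, rfl⟩ := isConj_iff.1 hc
    exact hconj g u hu

theorem normalizer_map_conj {G : Type*} [Group G] (H : Subgroup G) (g : G) :
    Subgroup.normalizer ((H.map (MulAut.conj g).toMonoidHom : Subgroup G) : Set G) =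
      (Subgroup.normalizer (H : Set G)).map (MulAut.conj g).toMonoidHom :=
  (Subgroup.map_equiv_normalizer_eq H (MulAut.conj g)).symm

end CfsgLib.Suzuki
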