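import Cfsg.Agent.Lib.Suzuki.Cell

/-!
Counting inside a subgroup of a Suzuki group which contains an involution fixing infinity.
-/

set_option autoImplicit false
set_option linter.unusedSectionVars false

namespace CfsgLib.Suzuki

open Matrix Cfsg
open scoped Pointwise LinearAlgebra.Projectivization

variable {F : Type*} [Field F] [CharP F 2] [Fintype F] {m : ℕ}

/-- The involutions of a subgroup. -/
def invSet (M : Subgroup (Cfsg.Sz F m)) : Set (Cfsg.Sz F m) := {g | g ∈ M ∧ g ≠ 1 ∧ g * g = 1}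

/-- The elements of a subgroup which are not 2-elements. -/
def oddSet (h : ThSq F m) (M : Subgroup (Cfsg.Sz F m)) : Set (Cfsg.Sz F m) :=
  {g | g ∈ M ∧ ∀ k : Cfsg.Sz F m, k * g * k⁻¹ ∉ uSub h}

theorem ne_one_of_mem_oddSet {h : ThSq F m} {M : Subgroup (Cfsg.Sz F m)} {g : Cfsg.Sz F m}
    (hg : g ∈ oddSet h M) : g ≠ 1 := fun e => hg.2 1 (by rw [e]; simp)

theorem mem_zSub_of_sq {h : ThSq F m} {u : Cfsg.Sz F m} (hu : u ∈ uSub h) (h2 : u * u = 1) :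
    u ∈ zSub h := by
  obtain ⟨a, b, rfl⟩ := hu
  rw [tG_sq, tG_eq_one, mul_eq_zero] at h2
  obtain rfl : a = 0 := h2.2.elim (fun h' => by simpa using h') id
  exact ⟨b, rfl⟩

theorem zSub_comm_uSub {h : ThSq F m} {z u : Cfsg.Sz F m} (hz : z ∈ zSub h) (hu : u ∈ uSub h) :
    u * z = z * u := by
  obtain ⟨b, rfl⟩ := hz
  obtain ⟨c, d, rfl⟩ := hu
  rw [tG_mul, tG_mul]
  simp [add_comm]

theorem conj_mem_zSub (hm : 1 ≤ m) (hF : Fintype.card F = 2 ^ (2 * m + 1)) {x z : Cfsg.Sz F m}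
    (hx : x ∈ bSub F m) (hz : z ∈ zSub (thSq_of_card hF)) :
    x * z * x⁻¹ ∈ zSub (thSq_of_card hF) := by
  refine mem_zSub_of_sq (conj_mem_uSub hm hF hx (zSub_le _ hz)) ?_
  obtain ⟨b, rfl⟩ := hz
  rw [show x * tG (thSq_of_card hF) 0 b * x⁻¹ * (x * tG (thSq_of_card hF) 0 b * x⁻¹) =
    x * (tG (thSq_of_card hF) 0 b * tG (thSq_of_card hF) 0 b) * x⁻¹ by group, tG_sq, map_zero,
    zero_mul, tG_zero, mul_one, mul_inv_cancel]

theorem mem_uSub_of_sq_eq_one (hm : 1 ≤ m) (hF : Fintype.card F = 2 ^ (2 * m + 1))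
    {x : Cfsg.Sz F m} (hx : x ∈ bSub F m) (h2 : x * x = 1) : x ∈ uSub (thSq_of_card hF) := by
  refine mem_uSub_of_bHom hm hF (g := ⟨x, hx⟩) ?_
  have e : bHom hm hF ⟨x, hx⟩ * bHom hm hF ⟨x, hx⟩ = 1 := by
    rw [← map_mul]
    exact (congrArg (bHom hm hF) (Subtype.ext h2)).trans (map_one _)
  rcases mul_eq_zero.1 (show (bHom hm hF ⟨x, hx⟩ - 1) * (bHom hm hF ⟨x, hx⟩ - 1) = 0 by
    linear_combination e + (1 - bHom hm hF ⟨x, hx⟩) * (CharTwo.two_eq_zero (R := F))) with h' | h' <;>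
    exact sub_eq_zero.1 h'

/-- Two non-commuting involutions have product of odd order. -/
theorem noncomm_product (hm : 1 ≤ m) (hF : Fintype.card F = 2 ^ (2 * m + 1)) {t u : Cfsg.Sz F m}
    (ht : t * t = 1) (hu : u * u = 1) (hne : t * u ≠ u * t) (k : Cfsg.Sz F m) :
    k * (t * u) * k⁻¹ ∉ uSub (thSq_of_card hF) := by
  intro hk
  set h := thSq_of_card hF
  have ht' : t⁻¹ = t := inv_eq_of_mul_eq_one_right ht
  have hu' : u⁻¹ = u := inv_eq_of_mul_eq_one_right hu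
  have hne1 : k * (t * u) * k⁻¹ ≠ 1 := fun e => hne (by
    have e1 : t * u = 1 := conj_eq_one_iff.1 e
    have e2 : u = t := by rw [← ht', eq_inv_iff_mul_eq_one]; rw [← e1]; calc u * t = t⁻¹ * (t * u) * t := by group
      _ = t * u := by rw [e1, ht']; simpa using ht
    rw [e2])
  have e : (k * t * k⁻¹) * (k * (t * u) * k⁻¹) * (k * t * k⁻¹)⁻¹ = (k * (t * u) * k⁻¹)⁻¹ := by
    calc _ = k * (t * t * u * t⁻¹) * k⁻¹ := by group
      _ = _ := by rw [ht, ht', one_mul]; simp [mul_assoc, hu', ht']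
  have hB : k * t * k⁻¹ ∈ bSub F m := by
    refine mem_bSub_of_conj hk hne1 ?_
    rw [e]
    exact uSub_le_bSub h (inv_mem hk)
  have htU : k * t * k⁻¹ ∈ uSub h := mem_uSub_of_sq_eq_one hm hF hB
    (by calc _ = k * (t * t) * k⁻¹ := by group
          _ = 1 := by rw [ht]; group)
  have huU : k * u * k⁻¹ ∈ uSub h := by
    have := mul_mem (inv_mem htU) hk
    convert this using 1
    group
  have hc := zSub_comm_uSub (mem_zSub_of_sq huU
    (by calc _ = k * (u * u) * k⁻¹ := by group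
          _ = 1 := by rw [hu]; group)) htU
  apply hne
  have : k * (t * u) * k⁻¹ = k * (u * t) * k⁻¹ := by
    calc _ = k * t * k⁻¹ * (k * u * k⁻¹) := by group
      _ = k * u * k⁻¹ * (k * t * k⁻¹) := hc
      _ = _ := by group
  exact mul_left_cancel (mul_right_cancel this)

/-- Non-commuting involutions are conjugate by an element of the group they generate. -/
theorem exists_conj_of_noncomm (hm : 1 ≤ m) (hF : Fintype.card F = 2 ^ (2 * m + 1))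
    {M : Subgroup (Cfsg.Sz F m)} {t u : Cfsg.Sz F m} (htM : t ∈ M) (huM : u ∈ M)
    (ht : t * t = 1) (hu : u * u = 1) (hne : t * u ≠ u * t) : ∃ y ∈ M, y * t * y⁻¹ = u := by
  have hcell := (two_or_cell hm hF (t * u)).resolve_left
    (fun ⟨k, hk⟩ => noncomm_product hm hF ht hu hne k hk)
  have hodd : ¬ 2 ∣ orderOf (t * u) := fun h2 => hcell.not_two_dvd_card hm hF
    (h2.trans (Subgroup.orderOf_dvd_natCard _ (Subgroup.mem_centralizer_singleton_iff.2 rfl)))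
  obtain ⟨l, hl⟩ : ∃ l, orderOf (t * u) = 2 * l + 1 := ⟨orderOf (t * u) / 2, by omega⟩
  set x := t * u with hx
  have ht' : t⁻¹ = t := inv_eq_of_mul_eq_one_right ht
  have hu' : u⁻¹ = u := inv_eq_of_mul_eq_one_right hu
  have hinv : t * x * t⁻¹ = x⁻¹ := by
    rw [hx, _root_.mul_inv_rev, ht', hu', ← mul_assoc, ht, one_mul]
  have hpow : t * x ^ (l + 1) * t⁻¹ = (x ^ (l + 1))⁻¹ := by
    rw [← inv_pow, ← hinv, conj_pow]
  refine ⟨t * x ^ (l + 1), mul_mem htM (pow_mem (mul_mem htM huM) _), ?_⟩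
  have e2 : x ^ (l + 1) * x ^ (l + 1) = x := by
    rw [← pow_add, show l + 1 + (l + 1) = (2 * l + 1) + 1 by omega, pow_succ, ← hl, pow_orderOf_eq_one,
      one_mul]
  have e3 : t * (x ^ (l + 1))⁻¹ = x ^ (l + 1) * t := by
    rw [← hpow, ← mul_assoc, ← mul_assoc, ht, one_mul, ht']
  calc t * x ^ (l + 1) * t * (t * x ^ (l + 1))⁻¹
      = t * x ^ (l + 1) * (t * (x ^ (l + 1))⁻¹) * t⁻¹ := by group
    _ = t * (x ^ (l + 1) * x ^ (l + 1)) * t * t⁻¹ := by rw [e3]; group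
    _ = u := by rw [e2, hx, mul_inv_cancel_right, ← mul_assoc, ht, one_mul]

section Setting

variable (hm : 1 ≤ m) (hF : Fintype.card F = 2 ^ (2 * m + 1)) (M : Subgroup (Cfsg.Sz F m))
variable {t : Cfsg.Sz F m} (htM : t ∈ M) (htZ : t ∈ zSub (thSq_of_card hF)) (ht1 : t ≠ 1)

include hm hF htM htZ ht1

theorem two_elements_eq : ∀ g ∈ M, ∀ k : Cfsg.Sz F m, k * g * k⁻¹ ∈ uSub (thSq_of_card hF) →
    ∃ x ∈ M, x * g * x⁻¹ ∈ M ⊓ uSub (thSq_of_card hF) := by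
  intro g hg k hk
  have : Fact (Nat.Prime 2) := ⟨Nat.prime_two⟩
  set h := thSq_of_card hF
  have hS : IsPGroup 2 ((M ⊓ uSub h).subgroupOf M) :=
    ((isPGroup_uSub hF).to_le inf_le_right).of_equiv (Subgroup.subgroupOfEquivOfLe inf_le_left).symm
  obtain ⟨R, hR⟩ := hS.exists_le_sylow
  obtain ⟨e, he⟩ := orderOf_two_power hF hk
  obtain ⟨R', hR'⟩ := (IsPGroup.of_card (p := 2) (n := e)
    (G := Subgroup.zpowers (⟨g, hg⟩ : M)) (by rw [Nat.card_zpowers, ← Subgroup.orderOf_coe]; exact he)).exists_le_sylow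
  obtain ⟨x, hx⟩ := MulAction.exists_smul_eq M R' R
  have hmem : x * ⟨g, hg⟩ * x⁻¹ ∈ (R : Subgroup M) := by
    rw [← hx]
    exact ⟨_, hR' (Subgroup.mem_zpowers _), rfl⟩
  refine ⟨x.1, x.2, Subgroup.mem_inf.2 ⟨mul_mem (mul_mem x.2 hg) (inv_mem x.2), ?_⟩⟩
  -- the 2-group `R` contains `t`, so it fixes infinity only
  obtain ⟨P, hP⟩ := (R.isPGroup'.map M.subtype).exists_le_sylow
  obtain ⟨l, hl⟩ := exists_conj_sylow hm hF P
  have htP : t ∈ (uSub h).map (MulAut.conj l).toMonoidHom :=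
    hl ▸ hP ⟨⟨t, htM⟩, hR ⟨htM, zSub_le h htZ⟩, rfl⟩
  obtain ⟨v, hv, hvt⟩ := htP
  have hlB : l ∈ bSub F m := by
    refine mem_bSub_of_conj (h := h) hv (fun e => ht1 (by rw [← hvt, e, map_one])) ?_
    rw [show l * v * l⁻¹ = t from hvt]
    exact uSub_le_bSub h (zSub_le h htZ)
  obtain ⟨w, hw, hwg⟩ : (x * ⟨g, hg⟩ * x⁻¹ : M).1 ∈ (uSub h).map (MulAut.conj l).toMonoidHom :=
    hl ▸ hP ⟨_, hmem, rfl⟩
  rw [show x.1 * g * x.1⁻¹ = (x * ⟨g, hg⟩ * x⁻¹ : M).1 from rfl, ← hwg]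
  exact conj_mem_uSub hm hF hlB hw

theorem normalizer_inf (V : Subgroup (Cfsg.Sz F m)) (hVU : V ≤ uSub (thSq_of_card hF)) (htV : t ∈ V)
    (hVconj : ∀ x ∈ bSub F m, x ∈ M → ∀ v ∈ V, x * v * x⁻¹ ∈ V) :
    Subgroup.normalizer (V : Set (Cfsg.Sz F m)) ⊓ M = M ⊓ bSub F m := by
  ext x
  simp only [Subgroup.mem_inf]
  constructor
  · rintro ⟨hx, hxM⟩
    exact ⟨hxM, mem_bSub_of_conj (h := thSq_of_card hF) (hVU htV) ht1
      (uSub_le_bSub _ (hVU ((Subgroup.mem_normalizer_iff.1 hx t).1 htV)))⟩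
  · rintro ⟨hxM, hx⟩
    refine ⟨Subgroup.mem_normalizer_iff.2 fun v => ⟨hVconj x hx hxM v, fun hv => ?_⟩, hxM⟩
    simpa [mul_assoc] using hVconj x⁻¹ (inv_mem hx) (inv_mem hxM) _ hv

theorem ti_inf (V : Subgroup (Cfsg.Sz F m)) (hVU : V ≤ uSub (thSq_of_card hF)) (htV : t ∈ V)
    (hVconj : ∀ x ∈ bSub F m, x ∈ M → ∀ v ∈ V, x * v * x⁻¹ ∈ V) :
    ∀ x ∈ M, ∀ a ∈ V, a ≠ 1 → x * a * x⁻¹ ∈ V → x ∈ Subgroup.normalizer (V : Set (Cfsg.Sz F m)) := by
  intro x hx a ha ha1 hxa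
  exact ((normalizer_inf hm hF M htM htZ ht1 V hVU htV hVconj).symm.le
    ⟨hx, mem_bSub_of_conj (hVU ha) ha1 (uSub_le_bSub _ (hVU hxa))⟩).1

theorem s_conj : ∀ x ∈ bSub F m, x ∈ M → ∀ v ∈ M ⊓ uSub (thSq_of_card hF),
    x * v * x⁻¹ ∈ M ⊓ uSub (thSq_of_card hF) := fun _ hx hxM _ hv =>
  Subgroup.mem_inf.2 ⟨mul_mem (mul_mem hxM (Subgroup.mem_inf.1 hv).1) (inv_mem hxM),
    conj_mem_uSub hm hF hx (Subgroup.mem_inf.1 hv).2⟩

theorem z_conj : ∀ x ∈ bSub F m, x ∈ M → ∀ v ∈ M ⊓ zSub (thSq_of_card hF),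
    x * v * x⁻¹ ∈ M ⊓ zSub (thSq_of_card hF) := fun _ hx hxM _ hv =>
  Subgroup.mem_inf.2 ⟨mul_mem (mul_mem hxM (Subgroup.mem_inf.1 hv).1) (inv_mem hxM),
    conj_mem_zSub hm hF hx (Subgroup.mem_inf.1 hv).2⟩

theorem ncard_twoElts :
    (conjM M (M ⊓ uSub (thSq_of_card hF))).ncard * Nat.card (M ⊓ bSub F m : Subgroup (Cfsg.Sz F m)) =
      Nat.card M * (Nat.card (M ⊓ uSub (thSq_of_card hF) : Subgroup (Cfsg.Sz F m)) - 1) := by
  rw [← normalizer_inf hm hF M htM htZ ht1 _ inf_le_right ⟨htM, zSub_le _ htZ⟩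
    (s_conj hm hF M htM htZ ht1)]
  exact ncard_conjM inf_le_left (ti_inf hm hF M htM htZ ht1 _ inf_le_right ⟨htM, zSub_le _ htZ⟩
    (s_conj hm hF M htM htZ ht1))

theorem invSet_eq : invSet M = conjM M (M ⊓ zSub (thSq_of_card hF)) := by
  set h := thSq_of_card hF
  ext g
  constructor
  · rintro ⟨hg, hg1, hg2⟩
    rcases two_or_cell hm hF g with ⟨k, hk⟩ | hc
    · obtain ⟨x, hx, hxg⟩ := two_elements_eq hm hF M htM htZ ht1 g hg k hk
      refine ⟨hg1, x, hx, hxg.1, mem_zSub_of_sq hxg.2 ?_⟩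
      calc _ = x * (g * g) * x⁻¹ := by group
        _ = 1 := by rw [hg2]; group
    · exfalso
      have : Fact (Nat.Prime 2) := ⟨Nat.prime_two⟩
      have h2 : orderOf g = 2 := orderOf_eq_prime (by rw [sq]; exact hg2) hg1
      exact hc.not_two_dvd_card hm hF
        (h2 ▸ Subgroup.orderOf_dvd_natCard _ (Subgroup.mem_centralizer_singleton_iff.2 rfl))
  · rintro ⟨hg1, x, hx, hxg, b, hb⟩
    refine ⟨by simpa [mul_assoc] using mul_mem (mul_mem (inv_mem hx) hxg) hx, hg1, ?_⟩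
    have : x * (g * g) * x⁻¹ = 1 := by
      calc _ = (x * g * x⁻¹) * (x * g * x⁻¹) := by group
        _ = 1 := by rw [hb, tG_sq, map_zero, zero_mul, tG_zero]
    exact conj_eq_one_iff.1 this

theorem ncard_invSet :
    (invSet M).ncard * Nat.card (M ⊓ bSub F m : Subgroup (Cfsg.Sz F m)) =
      Nat.card M * (Nat.card (M ⊓ zSub (thSq_of_card hF) : Subgroup (Cfsg.Sz F m)) - 1) := by
  rw [invSet_eq hm hF M htM htZ ht1, ← normalizer_inf hm hF M htM htZ ht1 _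
    (inf_le_right.trans (zSub_le _)) ⟨htM, htZ⟩ (z_conj hm hF M htM htZ ht1)]
  exact ncard_conjM inf_le_left (ti_inf hm hF M htM htZ ht1 _ (inf_le_right.trans (zSub_le _))
    ⟨htM, htZ⟩ (z_conj hm hF M htM htZ ht1))

theorem card_M_eq :
    Nat.card M = 1 + (conjM M (M ⊓ uSub (thSq_of_card hF))).ncard +
      (oddSet (thSq_of_card hF) M).ncard := by
  set h := thSq_of_card hF
  have hsplit : (M : Set (Cfsg.Sz F m)) = {1} ∪ conjM M (M ⊓ uSub h) ∪ oddSet h M := by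
    ext g
    simp only [SetLike.mem_coe, Set.mem_union, Set.mem_singleton_iff]
    constructor
    · intro hg
      by_cases hg1 : g = 1
      · exact Or.inl (Or.inl hg1)
      by_cases h2 : ∃ k, k * g * k⁻¹ ∈ uSub h
      · obtain ⟨k, hk⟩ := h2
        exact Or.inl (Or.inr ⟨hg1, two_elements_eq hm hF M htM htZ ht1 g hg k hk⟩)
      · exact Or.inr ⟨hg, fun k hk => h2 ⟨k, hk⟩⟩
    · rintro ((rfl | ⟨-, x, hx, hxg⟩) | ⟨hg, -⟩)
      · exact one_mem M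
      · simpa [mul_assoc] using mul_mem (mul_mem (inv_mem hx) hxg.1) hx
      · exact hg
  have d1 : Disjoint ({1} ∪ conjM M (M ⊓ uSub h)) (oddSet h M) := by
    rw [Set.disjoint_left]
    rintro g (rfl | ⟨-, x, -, hxg⟩) hg
    · exact ne_one_of_mem_oddSet hg rfl
    · exact hg.2 x hxg.2
  have d2 : Disjoint {1} (conjM M (M ⊓ uSub h)) := by
    rw [Set.disjoint_singleton_left]
    exact fun hg => hg.1 rfl
  rw [← SetLike.coe_sort_coe, Nat.card_coe_set_eq, hsplit, Set.ncard_union_eq d1,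
    Set.ncard_union_eq d2, Set.ncard_singleton]

theorem odd_relIndex :
    ∃ r, ¬ 2 ∣ r ∧ Nat.card M = Nat.card (M ⊓ uSub (thSq_of_card hF) : Subgroup (Cfsg.Sz F m)) * r := by
  have : Fact (Nat.Prime 2) := ⟨Nat.prime_two⟩
  set h := thSq_of_card hF
  have hS : IsPGroup 2 ((M ⊓ uSub h).subgroupOf M) :=
    ((isPGroup_uSub hF).to_le inf_le_right).of_equiv (Subgroup.subgroupOfEquivOfLe inf_le_left).symm
  obtain ⟨R, hR⟩ := hS.exists_le_sylow
  have hRS : (R : Subgroup M) ≤ (M ⊓ uSub h).subgroupOf M := by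
    intro g hg
    obtain ⟨P, hP⟩ := (R.isPGroup'.map M.subtype).exists_le_sylow
    obtain ⟨l, hl⟩ := exists_conj_sylow hm hF P
    obtain ⟨v, hv, hvt⟩ : t ∈ (uSub h).map (MulAut.conj l).toMonoidHom :=
      hl ▸ hP ⟨⟨t, htM⟩, hR ⟨htM, zSub_le h htZ⟩, rfl⟩
    have hlB : l ∈ bSub F m := by
      refine mem_bSub_of_conj (h := h) hv (fun e => ht1 (by rw [← hvt, e, map_one])) ?_
      rw [show l * v * l⁻¹ = t from hvt]
      exact uSub_le_bSub h (zSub_le h htZ)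
    obtain ⟨w, hw, hwg⟩ : g.1 ∈ (uSub h).map (MulAut.conj l).toMonoidHom := hl ▸ hP ⟨_, hg, rfl⟩
    exact ⟨g.2, by rw [show M.subtype g = g.1 from rfl, ← hwg]; exact conj_mem_uSub hm hF hlB hw⟩
  refine ⟨(R : Subgroup M).index, R.not_dvd_index, ?_⟩
  rw [← Subgroup.card_mul_index (R : Subgroup M), le_antisymm hRS hR,
    Nat.card_congr (Subgroup.subgroupOfEquivOfLe inf_le_left).toEquiv]

theorem all_invs_conj (hMB : ¬ M ≤ bSub F m) {t' : Cfsg.Sz F m}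
    (ht' : t' ∈ M ⊓ zSub (thSq_of_card hF)) (ht'1 : t' ≠ 1) :
    ∃ x ∈ M, x ∈ bSub F m ∧ x * t * x⁻¹ = t' := by
  set h := thSq_of_card hF
  obtain ⟨x₀, hx₀, hx₀B⟩ := SetLike.not_le_iff_exists.1 hMB
  have hsq : ∀ {z}, z ∈ zSub h → z * z = 1 := by
    rintro _ ⟨b, rfl⟩; rw [tG_sq, map_zero, zero_mul, tG_zero]
  have hu2 : x₀ * t * x₀⁻¹ * (x₀ * t * x₀⁻¹) = 1 := by
    calc _ = x₀ * (t * t) * x₀⁻¹ := by group
      _ = 1 := by rw [hsq htZ]; group
  have hnc : ∀ v ∈ M ⊓ zSub h, v ≠ 1 → v * (x₀ * t * x₀⁻¹) ≠ x₀ * t * x₀⁻¹ * v := by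
    intro v hv hv1 e
    refine hx₀B (mem_bSub_of_conj (h := h) (zSub_le h htZ) ht1 (uSub_le_bSub h ?_))
    exact centralizer_le_uSub hm hF (zSub_le h hv.2) hv1
      (Subgroup.mem_centralizer_singleton_iff.2 e.symm)
  have huM : x₀ * t * x₀⁻¹ ∈ M := mul_mem (mul_mem hx₀ htM) (inv_mem hx₀)
  obtain ⟨y, hy, hyt⟩ := exists_conj_of_noncomm hm hF htM huM (hsq htZ) hu2 (hnc t ⟨htM, htZ⟩ ht1)
  obtain ⟨y', hy', hyt'⟩ := exists_conj_of_noncomm hm hF ht'.1 huM (hsq ht'.2) hu2 (hnc t' ht' ht'1)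
  have e : (y'⁻¹ * y) * t * (y'⁻¹ * y)⁻¹ = t' := by
    calc _ = y'⁻¹ * (y * t * y⁻¹) * y' := by group
      _ = t' := by rw [hyt, ← hyt']; group
  refine ⟨_, mul_mem (inv_mem hy') hy, ?_, e⟩
  refine mem_bSub_of_conj (h := h) (zSub_le h htZ) ht1 ?_
  rw [e]
  exact uSub_le_bSub h (zSub_le h ht'.2)

theorem card_B_eq (hMB : ¬ M ≤ bSub F m) :
    Nat.card (M ⊓ bSub F m : Subgroup (Cfsg.Sz F m)) =
      Nat.card (M ⊓ uSub (thSq_of_card hF) : Subgroup (Cfsg.Sz F m)) *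
        (Nat.card (M ⊓ zSub (thSq_of_card hF) : Subgroup (Cfsg.Sz F m)) - 1) := by
  classical
  set h := thSq_of_card hF
  set B0 := M ⊓ bSub F m
  set S := M ⊓ uSub h
  set Z0 := M ⊓ zSub h
  have hSB : S ≤ B0 := inf_le_inf_left _ (uSub_le_bSub h)
  have hcent : ∀ x ∈ B0, (x * t * x⁻¹ = t ↔ x ∈ S) := fun x hx => by
    constructor
    · intro e
      refine ⟨hx.1, centralizer_le_uSub hm hF (zSub_le h htZ) ht1
        (Subgroup.mem_centralizer_singleton_iff.2 ?_)⟩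
      calc x * t = x * t * x⁻¹ * x := by group
        _ = t * x := by rw [e]
    · intro hxS
      rw [zSub_comm_uSub htZ hxS.2, mul_inv_cancel_right]
  have hne : ∀ x : B0, x.1 * t * x.1⁻¹ ≠ 1 := fun x e => ht1 (conj_eq_one_iff.1 e)
  let f : B0 ⧸ S.subgroupOf B0 → {v : Z0 // v ≠ 1} := fun c =>
    ⟨⟨c.out.1 * t * c.out.1⁻¹, z_conj hm hF M htM htZ ht1 _ c.out.2.2 c.out.2.1 t ⟨htM, htZ⟩⟩,
      fun e => hne c.out (congrArg Subtype.val e)⟩
  have hf : Function.Bijective f := by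
    constructor
    · intro c d e
      have e' : c.out.1 * t * c.out.1⁻¹ = d.out.1 * t * d.out.1⁻¹ :=
        congrArg (fun v : {v : Z0 // v ≠ 1} => v.1.1) e
      rw [← c.out_eq', ← d.out_eq']
      refine QuotientGroup.eq.2 ((hcent (c.out.1⁻¹ * d.out.1) (c.out⁻¹ * d.out).2).1 ?_)
      calc _ = c.out.1⁻¹ * (d.out.1 * t * d.out.1⁻¹) * c.out.1 := by group
        _ = t := by rw [← e']; group
    · rintro ⟨⟨v, hv⟩, hv1⟩
      obtain ⟨x, hx, hxB, hxt⟩ := all_invs_conj hm hF M htM htZ ht1 hMB hv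
        (fun e => hv1 (Subtype.ext e))
      refine ⟨QuotientGroup.mk ⟨x, hx, hxB⟩, Subtype.ext (Subtype.ext ?_)⟩
      obtain ⟨u, hu⟩ : ∃ u : S.subgroupOf B0,
          (QuotientGroup.mk (⟨x, hx, hxB⟩ : B0) : B0 ⧸ S.subgroupOf B0).out = ⟨x, hx, hxB⟩ * u :=
        ⟨⟨(⟨x, hx, hxB⟩ : B0)⁻¹ * (QuotientGroup.mk (⟨x, hx, hxB⟩ : B0) : B0 ⧸ S.subgroupOf B0).out,
          QuotientGroup.eq.1 (QuotientGroup.mk _ : B0 ⧸ S.subgroupOf B0).out_eq'.symm⟩,
          (mul_inv_cancel_left _ _).symm⟩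
      show (QuotientGroup.mk (⟨x, hx, hxB⟩ : B0) : B0 ⧸ S.subgroupOf B0).out.1 * t * _⁻¹ = v
      rw [hu, Subgroup.coe_mul, ← hxt]
      calc x * u.1.1 * t * (x * u.1.1)⁻¹ = x * (u.1.1 * t * u.1.1⁻¹) * x⁻¹ := by group
        _ = x * t * x⁻¹ := by rw [(hcent u.1.1 u.1.2).2 u.2]
  have h1 := Subgroup.card_mul_index (S.subgroupOf B0)
  rw [Nat.card_congr (Subgroup.subgroupOfEquivOfLe hSB).toEquiv, Subgroup.index,
    Nat.card_eq_of_bijective f hf] at h1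
  rw [← h1]
  congr 1
  have : Fintype Z0 := Fintype.ofFinite _
  rw [Nat.card_eq_fintype_card, Nat.card_eq_fintype_card, Fintype.card_subtype_compl,
    Fintype.card_subtype_eq]

theorem comm_invs_card {v : Cfsg.Sz F m} (hv : v ∈ invSet M) :
    ({w | w ∈ invSet M ∧ v * w = w * v} : Set (Cfsg.Sz F m)).ncard =
      Nat.card (M ⊓ zSub (thSq_of_card hF) : Subgroup (Cfsg.Sz F m)) - 1 := by
  classical
  set h := thSq_of_card hF
  obtain ⟨hv1, x, hx, hxv⟩ := (invSet_eq hm hF M htM htZ ht1).le hv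
  have hne : x * v * x⁻¹ ≠ 1 := fun e => hv1 (conj_eq_one_iff.1 e)
  have himg : ({w | w ∈ invSet M ∧ v * w = w * v} : Set (Cfsg.Sz F m)) =
      (fun w => x⁻¹ * w * x) '' (((M ⊓ zSub h : Subgroup (Cfsg.Sz F m)) : Set (Cfsg.Sz F m)) \ {1}) := by
    ext w
    constructor
    · rintro ⟨⟨hw, hw1, hw2⟩, hc⟩
      have hwc : x * w * x⁻¹ ∈ uSub h := by
        refine centralizer_le_uSub hm hF (zSub_le h hxv.2) hne
          (Subgroup.mem_centralizer_singleton_iff.2 ?_)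
        calc x * w * x⁻¹ * (x * v * x⁻¹) = x * (w * v) * x⁻¹ := by group
          _ = x * v * x⁻¹ * (x * w * x⁻¹) := by rw [← hc]; group
      refine ⟨x * w * x⁻¹, ⟨Subgroup.mem_inf.2 ⟨mul_mem (mul_mem hx hw) (inv_mem hx), mem_zSub_of_sq hwc ?_⟩,
        fun e => hw1 (conj_eq_one_iff.1 e)⟩, by group⟩
      calc _ = x * (w * w) * x⁻¹ := by group
        _ = 1 := by rw [hw2]; group
    · rintro ⟨u, ⟨⟨huM, huZ⟩, hu1⟩, rfl⟩
      refine ⟨⟨mul_mem (mul_mem (inv_mem hx) huM) hx, fun e => hu1 ?_, ?_⟩, ?_⟩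
      · have e' : x⁻¹ * u * x⁻¹⁻¹ = 1 := by rw [inv_inv]; exact e
        exact conj_eq_one_iff.1 e'
      · calc x⁻¹ * u * x * (x⁻¹ * u * x) = x⁻¹ * (u * u) * x := by group
          _ = 1 := by
            obtain ⟨b, rfl⟩ := huZ
            rw [tG_sq, map_zero, zero_mul, tG_zero]; group
      · calc v * (x⁻¹ * u * x) = x⁻¹ * (x * v * x⁻¹ * u) * x := by group
          _ = x⁻¹ * (u * (x * v * x⁻¹)) * x := by rw [zSub_comm_uSub huZ (zSub_le h hxv.2)]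
          _ = _ := by group
  rw [himg, Set.ncard_image_of_injective _ (fun a b e => mul_left_cancel (mul_right_cancel e)),
    Set.ncard_sdiff_singleton_of_mem (one_mem (M ⊓ zSub h)), ← Nat.card_coe_set_eq]
  rfl

end Setting

/-- The involutions of `M` inverting `g`. -/
def invertSet (M : Subgroup (Cfsg.Sz F m)) (g : Cfsg.Sz F m) : Set (Cfsg.Sz F m) :=
  {t | t ∈ invSet M ∧ t * g * t⁻¹ = g⁻¹}

theorem invertSet_conj {M : Subgroup (Cfsg.Sz F m)} {x : Cfsg.Sz F m} (hx : x ∈ M)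
    (g : Cfsg.Sz F m) : (invertSet M (x * g * x⁻¹)).ncard = (invertSet M g).ncard := by
  have key : ∀ (x g t : Cfsg.Sz F m), x ∈ M → t ∈ invertSet M g →
      x * t * x⁻¹ ∈ invertSet M (x * g * x⁻¹) := by
    rintro x g t hx ⟨⟨ht, ht1, ht2⟩, hinv⟩
    refine ⟨⟨mul_mem (mul_mem hx ht) (inv_mem hx), fun e => ht1 (conj_eq_one_iff.1 e), ?_⟩, ?_⟩
    · calc _ = x * (t * t) * x⁻¹ := by group
        _ = 1 := by rw [ht2]; group
    · calc _ = x * (t * g * t⁻¹) * x⁻¹ := by group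
        _ = _ := by rw [hinv]; group
  have himg : invertSet M (x * g * x⁻¹) = (fun t => x * t * x⁻¹) '' invertSet M g := by
    ext t
    constructor
    · intro ht
      refine ⟨x⁻¹ * t * x, ?_, by group⟩
      have := key x⁻¹ _ t (inv_mem hx) ht
      simpa [mul_assoc] using this
    · rintro ⟨u, hu, rfl⟩
      exact key x g u hx hu
  rw [himg, Set.ncard_image_of_injective _ (fun a b e => mul_left_cancel (mul_right_cancel e))]

theorem invertSet_card (hm : 1 ≤ m) (hF : Fintype.card F = 2 ^ (2 * m + 1))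
    {A : Subgroup (Cfsg.Sz F m)} (hA : IsCell (thSq_of_card hF) A) (M : Subgroup (Cfsg.Sz F m))
    {n : ℕ} (hn : 2 ∣ n)
    (hcard : Nat.card (Subgroup.normalizer (A : Set (Cfsg.Sz F m)) ⊓ M : Subgroup (Cfsg.Sz F m)) =
      n * Nat.card (A ⊓ M : Subgroup (Cfsg.Sz F m)))
    {g : Cfsg.Sz F m} (hg : g ∈ conjM M (A ⊓ M)) :
    (invertSet M g).ncard = Nat.card (A ⊓ M : Subgroup (Cfsg.Sz F m)) := by
  obtain ⟨hg1, x, hx, hxg⟩ := hg
  rw [← invertSet_conj hx g]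
  set a := x * g * x⁻¹
  have ha1 : a ≠ 1 := fun e => hg1 (conj_eq_one_iff.1 e)
  have : Fact (Nat.Prime 2) := ⟨Nat.prime_two⟩
  obtain ⟨w, ht₀⟩ := exists_prime_orderOf_dvd_card' 2 (hcard ▸ dvd_mul_of_dvd_left hn _)
  obtain ⟨htN, htM⟩ := Subgroup.mem_inf.1 w.2
  set t := w.1
  have ht : orderOf t = 2 := (Subgroup.orderOf_coe w).trans ht₀
  have ht2 : t * t = 1 := by rw [← sq, ← ht]; exact pow_orderOf_eq_one t
  have ht1 : t ≠ 1 := fun e => by rw [e, orderOf_one] at ht; exact absurd ht (by norm_num)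
  have hinv : ∀ b ∈ A, t * b * t⁻¹ = b⁻¹ := fun b hb => hA.inverts hm hF ht2 ht1 htN hb
  have himg : invertSet M a =
      (fun b => t * b) '' ((A ⊓ M : Subgroup (Cfsg.Sz F m)) : Set (Cfsg.Sz F m)) := by
    ext u
    constructor
    · rintro ⟨⟨hu, -, -⟩, hua⟩
      refine ⟨t⁻¹ * u, Subgroup.mem_inf.2 ⟨?_, mul_mem (inv_mem (show t ∈ M from htM)) hu⟩,
        mul_inv_cancel_left t u⟩
      rw [← hA.centralizer_eq hm hF hxg.1 ha1, Subgroup.mem_centralizer_singleton_iff]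
      calc t⁻¹ * u * a = t⁻¹ * (u * a * u⁻¹) * u := by group
        _ = t⁻¹ * (t * a * t⁻¹) * u := by rw [hua, hinv a hxg.1]
        _ = a * (t⁻¹ * u) := by group
    · rintro ⟨b, ⟨hbA, hbM⟩, rfl⟩
      refine ⟨⟨mul_mem htM hbM, fun e => ?_, ?_⟩, ?_⟩
      · have htA : t ∈ A := by
          rw [eq_inv_of_mul_eq_one_left e]; exact inv_mem hbA
        exact hA.not_two_dvd_card hm hF (ht ▸ Subgroup.orderOf_dvd_natCard _ htA)
      · calc t * b * (t * b) = t * b * t⁻¹ * (t * t) * b := by group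
          _ = 1 := by rw [hinv b hbA, ht2]; group
      · calc t * b * a * (t * b)⁻¹ = t * (b * a * b⁻¹) * t⁻¹ := by group
          _ = t * a * t⁻¹ := by rw [hA.comm hF hbA hxg.1, mul_inv_cancel_right]
          _ = a⁻¹ := hinv a hxg.1
  rw [himg, Set.ncard_image_of_injective _ (mul_right_injective t), ← Nat.card_coe_set_eq]
  rfl

theorem ncard_fibres {α β : Type*} [Finite α] [Finite β] (S : Set α) (f : α → Set β) (k : ℕ)
    (hk : ∀ a ∈ S, (f a).ncard = k) :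
    ({p : α × β | p.1 ∈ S ∧ p.2 ∈ f p.1} : Set (α × β)).ncard = S.ncard * k := by
  classical
  have : Fintype S := Fintype.ofFinite _
  rw [← Nat.card_coe_set_eq, ← Nat.card_coe_set_eq (s := S),
    Nat.card_congr (show _ ≃ Σ a : S, f a.1 from
      { toFun := fun p => ⟨⟨p.1.1, p.2.1⟩, ⟨p.1.2, p.2.2⟩⟩
        invFun := fun p => ⟨(p.1.1, p.2.1), p.1.2, p.2.2⟩
        left_inv := fun p => rfl
        right_inv := fun p => rfl }), Nat.card_sigma]
  simp_rw [Nat.card_coe_set_eq]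
  rw [Finset.sum_congr rfl (fun a _ => hk a.1 a.2), Finset.sum_const, Finset.card_univ, smul_eq_mul,
    ← Nat.card_eq_fintype_card, Nat.card_coe_set_eq]

/-- Pairs of non-commuting involutions correspond to inverted elements of odd order. -/
theorem pair_count (hm : 1 ≤ m) (hF : Fintype.card F = 2 ^ (2 * m + 1))
    (M : Subgroup (Cfsg.Sz F m)) {t : Cfsg.Sz F m} (htM : t ∈ M)
    (htZ : t ∈ zSub (thSq_of_card hF)) (ht1 : t ≠ 1) :
    (invSet M).ncard * ((invSet M).ncard -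
        (Nat.card (M ⊓ zSub (thSq_of_card hF) : Subgroup (Cfsg.Sz F m)) - 1)) =
      ({p : Cfsg.Sz F m × Cfsg.Sz F m | p.1 ∈ oddSet (thSq_of_card hF) M ∧ p.2 ∈ invertSet M p.1} :
        Set (Cfsg.Sz F m × Cfsg.Sz F m)).ncard := by
  set h := thSq_of_card hF
  set z1 := Nat.card (M ⊓ zSub h : Subgroup (Cfsg.Sz F m)) - 1
  have hc : ∀ v ∈ invSet M,
      ({w | w ∈ invSet M ∧ v * w ≠ w * v} : Set (Cfsg.Sz F m)).ncard = (invSet M).ncard - z1 := by
    intro v hv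
    rw [show ({w | w ∈ invSet M ∧ v * w ≠ w * v} : Set (Cfsg.Sz F m)) =
      invSet M \ {w | w ∈ invSet M ∧ v * w = w * v} by ext w; simp,
      Set.ncard_sdiff (fun w hw => hw.1), comm_invs_card hm hF M htM htZ ht1 hv]
  rw [← ncard_fibres (invSet M) _ _ hc]
  refine Set.ncard_congr (fun p _ => (p.1 * p.2, p.1)) ?_ ?_ ?_
  · rintro ⟨v, w⟩ ⟨hv, hw, hne⟩
    refine ⟨⟨mul_mem hv.1 hw.1, fun k => noncomm_product hm hF hv.2.2 hw.2.2 hne k⟩, hv, ?_⟩
    show v * (v * w) * v⁻¹ = (v * w)⁻¹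
    rw [_root_.mul_inv_rev, inv_eq_of_mul_eq_one_right hv.2.2, inv_eq_of_mul_eq_one_right hw.2.2,
      ← mul_assoc, hv.2.2, one_mul]
  · rintro ⟨v, w⟩ ⟨v', w'⟩ - - e
    obtain ⟨e1, rfl⟩ := Prod.mk.injEq .. ▸ e
    exact Prod.ext rfl (mul_left_cancel e1)
  · rintro ⟨x, v⟩ ⟨hx, ⟨hv, hv1, hv2⟩, hinv⟩
    have hv' : v⁻¹ = v := inv_eq_of_mul_eq_one_right hv2
    have hinv' : v * x * v⁻¹ = x⁻¹ := hinv
    have hw2 : v * x * (v * x) = 1 := by
      calc v * x * (v * x) = v * x * v⁻¹ * x := by rw [hv']; group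
        _ = 1 := by rw [hinv', inv_mul_cancel]
    refine ⟨(v, v * x), ⟨⟨hv, hv1, hv2⟩, ⟨mul_mem hv hx.1, fun e => ?_, hw2⟩, fun e => ?_⟩, ?_⟩
    · have e' : x = v := by rw [← hv']; exact eq_inv_of_mul_eq_one_right e
      rw [e'] at hx
      obtain ⟨y, -, hy⟩ := ((invSet_eq hm hF M htM htZ ht1).le ⟨hv, hv1, hv2⟩).2
      exact hx.2 y (zSub_le h hy.2)
    · -- `x` would be an involution
      have e' : x = x⁻¹ := by
        have h1 : v * (v * x) = v * x * v := e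
        rw [← mul_assoc, hv2, one_mul] at h1
        calc x = v * x * v := h1
          _ = v * x * v⁻¹ := by rw [hv']
          _ = x⁻¹ := hinv'
      have hxx : x * x = 1 := by nth_rewrite 2 [e']; exact mul_inv_cancel x
      obtain ⟨y, -, hy⟩ :=
        ((invSet_eq hm hF M htM htZ ht1).le ⟨hx.1, ne_one_of_mem_oddSet hx, hxx⟩).2
      exact hx.2 y (zSub_le h hy.2)
    · show (v * (v * x), v) = (x, v)
      rw [← mul_assoc, hv2, one_mul]

end CfsgLib.Suzuki
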