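import Cfsg.Agent.Lib.Suzuki.Centralizer

/-!
Counting the elements without fixed points: the two classes of tori of orders `q ± √(2q) + 1`.
-/

set_option autoImplicit false
set_option linter.unusedSectionVars false

namespace CfsgLib.Suzuki

open Matrix Cfsg

section Generic

variable {G : Type*} [Group G]

/-- The non-identity elements of the conjugates of `A`. -/
def conjUnion (A : Subgroup G) : Set G := {g | g ≠ 1 ∧ ∃ x, x * g * x⁻¹ ∈ A}

theorem ncard_conjUnion [Finite G] {A : Subgroup G}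
    (hTI : ∀ x a, a ∈ A → a ≠ 1 → x * a * x⁻¹ ∈ A → x ∈ Subgroup.normalizer (A : Set G)) :
    (conjUnion A).ncard = (Subgroup.normalizer (A : Set G)).index * (Nat.card A - 1) := by
  classical
  set N := Subgroup.normalizer (A : Set G)
  have : Fintype G := Fintype.ofFinite G
  have hA : Nat.card A - 1 = Nat.card {a : A // a ≠ 1} := by
    rw [Nat.card_eq_fintype_card, Nat.card_eq_fintype_card, Fintype.card_subtype_compl,
      Fintype.card_subtype_eq]
  rw [hA, Subgroup.index, ← Nat.card_prod, ← Nat.card_coe_set_eq]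
  have hne : ∀ (c : G) (a : {a : A // a ≠ 1}), c * a.1.1 * c⁻¹ ≠ 1 := fun c a e =>
    a.2 (Subtype.ext (conj_eq_one_iff.1 e))
  refine (Nat.card_eq_of_bijective (fun p : (G ⧸ N) × {a : A // a ≠ 1} =>
    (⟨p.1.out * p.2.1.1 * p.1.out⁻¹, hne _ p.2, p.1.out⁻¹, by simp [mul_assoc]⟩ : conjUnion A))
    ⟨?_, ?_⟩).symm
  · rintro ⟨c, a⟩ ⟨d, b⟩ e
    have e' : c.out * a.1.1 * c.out⁻¹ = d.out * b.1.1 * d.out⁻¹ := congrArg Subtype.val e
    have hmem : (d.out⁻¹ * c.out) * a.1.1 * (d.out⁻¹ * c.out)⁻¹ = b.1.1 := by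
      calc _ = d.out⁻¹ * (c.out * a.1.1 * c.out⁻¹) * d.out := by group
        _ = b.1.1 := by rw [e']; group
    have hN := hTI _ _ a.1.2 (fun h => a.2 (Subtype.ext h)) (hmem ▸ b.1.2)
    have hcd : d = c := by
      rw [← d.out_eq', ← c.out_eq']
      exact QuotientGroup.eq.2 hN
    subst hcd
    have : a.1.1 = b.1.1 := by
      have := mul_left_cancel (mul_right_cancel e')
      exact this
    exact Prod.ext rfl (Subtype.ext (Subtype.ext this))
  · rintro ⟨g, hg1, x, hx⟩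
    let c : G ⧸ N := QuotientGroup.mk x⁻¹
    obtain ⟨n, hn⟩ : ∃ n : N, c.out = x⁻¹ * n := ⟨⟨x * c.out, by
      have h : (QuotientGroup.mk x⁻¹ : G ⧸ N) = QuotientGroup.mk c.out := c.out_eq'.symm
      simpa using QuotientGroup.eq.1 h⟩, by simp⟩
    have hA' : n.1⁻¹ * (x * g * x⁻¹) * n.1 ∈ A := by
      have := (Subgroup.mem_normalizer_iff.1 (inv_mem n.2) _).1 hx
      rwa [inv_inv] at this
    refine ⟨(c, ⟨⟨_, hA'⟩, fun e => hg1 ?_⟩), Subtype.ext ?_⟩
    · have e' : n.1⁻¹ * (x * g * x⁻¹) * n.1⁻¹⁻¹ = 1 := by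
        rw [inv_inv]; exact congrArg Subtype.val e
      exact conj_eq_one_iff.1 (conj_eq_one_iff.1 e')
    · show c.out * (n.1⁻¹ * (x * g * x⁻¹) * n.1) * c.out⁻¹ = g
      rw [hn]
      group

theorem ti_of_centralizer {A : Subgroup G}
    (h : ∀ a, a ∈ A → a ≠ 1 → Subgroup.centralizer {a} = A) (x a : G) (ha : a ∈ A) (ha1 : a ≠ 1)
    (hxa : x * a * x⁻¹ ∈ A) : x ∈ Subgroup.normalizer (A : Set G) := by
  have h1 := h _ hxa (fun e => ha1 (conj_eq_one_iff.1 e))
  have key : ∀ b : G, b * a = a * b ↔ (x * b * x⁻¹) * (x * a * x⁻¹) = (x * a * x⁻¹) * (x * b * x⁻¹) := by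
    intro b
    rw [← (MulAut.conj x).injective.eq_iff, map_mul, map_mul]
    rfl
  rw [Subgroup.mem_normalizer_iff]
  intro b
  conv_lhs => rw [← h a ha ha1, Subgroup.mem_centralizer_singleton_iff, key]
  rw [← h1, Subgroup.mem_centralizer_singleton_iff]

end Generic

variable {F : Type*} [Field F] [CharP F 2] [Fintype F] {m : ℕ}

/-- The elements without fixed points. -/
def freeSet (F : Type*) [Field F] (m : ℕ) : Set (Cfsg.Sz F m) := {g | Free g}

theorem centralizer_of_mem_hSub (hm : 1 ≤ m) (hF : Fintype.card F = 2 ^ (2 * m + 1))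
    (a : Cfsg.Sz F m) (ha : a ∈ hSub (thSq_of_card hF)) (ha1 : a ≠ 1) :
    Subgroup.centralizer {a} = hSub (thSq_of_card hF) := by
  obtain ⟨s, rfl⟩ := ha
  exact centralizer_hG hm hF (fun e => ha1 (by rw [e, map_one]))

theorem card_normalizer_hSub (hm : 1 ≤ m) (hF : Fintype.card F = 2 ^ (2 * m + 1)) :
    Nat.card (Subgroup.normalizer (hSub (thSq_of_card hF) : Set (Cfsg.Sz F m))) =
      2 * (Fintype.card F - 1) := by
  set h := thSq_of_card hF
  set N := Subgroup.normalizer (hSub h : Set (Cfsg.Sz F m))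
  have hHN : hSub h ≤ N := Subgroup.le_normalizer
  have hwN : wG h ∈ N := by
    rw [Subgroup.mem_normalizer_iff]
    intro g
    constructor
    · rintro ⟨s, rfl⟩
      exact ⟨s⁻¹, (hG_w h s).symm⟩
    · rintro ⟨s, hs⟩
      refine ⟨s⁻¹, ?_⟩
      rw [← hG_w h s, hs, inv_eq_of_mul_eq_one_right (wG_sq h)]
      simp only [← mul_assoc, wG_sq, one_mul]
      rw [mul_assoc, wG_sq, mul_one]
  rw [← card_hSub h, show 2 * Nat.card (hSub h) = Nat.card (Bool × hSub h) by
    rw [Nat.card_prod, Nat.card_eq_fintype_card (α := Bool), Fintype.card_bool]]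
  refine (Nat.card_eq_of_bijective (fun p : Bool × hSub h =>
    (⟨(if p.1 then wG h else 1) * p.2.1, mul_mem (by split_ifs <;> first | exact hwN | exact one_mem _)
      (hHN p.2.2)⟩ : N)) ⟨?_, ?_⟩).symm
  · have hw : ∀ k ∈ hSub h, wG h ≠ k := by
      rintro k ⟨s, rfl⟩ e
      have := congrArg (fun g : Cfsg.Sz F m => g.1.1 0 0) e
      simp [wSL, hSL, hMat] at this
    rintro ⟨b, k⟩ ⟨b', k'⟩ e
    have e' := congrArg Subtype.val e
    rcases b <;> rcases b' <;> simp at e'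
    · exact Prod.ext rfl e'
    · exact absurd (eq_mul_inv_of_mul_eq e'.symm) (hw _ (mul_mem k.2 (inv_mem k'.2)))
    · exact absurd (eq_mul_inv_of_mul_eq e') (hw _ (mul_mem k'.2 (inv_mem k.2)))
    · exact Prod.ext rfl e'
  · rintro ⟨g, hg⟩
    obtain ⟨s, hs⟩ := exists_unit_ne_one hm hF
    obtain ⟨t, ht⟩ := (Subgroup.mem_normalizer_iff.1 (inv_mem hg) (hG h s)).1 ⟨s, rfl⟩
    have hfix : ∀ p : Projectivization F (Fin 4 → F), hG h t • p = p → hG h s • (g • p) = g • p := by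
      intro p hp
      have := conj_smul_fix (k := g) hp
      rwa [show g * hG h t * g⁻¹ = hG h s by rw [ht]; simp [mul_assoc]] at this
    have f1 := hfix (pInf F) (hSL_smul_inf t)
    have f2 := hfix (pFin m (0 : F) 0) ((hSL_smul h t 0 0).trans (by rw [mul_zero, mul_zero]))
    have key : ∀ p ∈ suzukiOvoid F m, hG h s • p = p → p = pInf F ∨ p = pFin m (0 : F) 0 := by
      intro p hp e
      rcases mem_ovoid.1 hp with rfl | ⟨x, y, rfl⟩
      · exact Or.inl rfl
      · obtain ⟨rfl, rfl⟩ := (hG_fix_iff h hs).1 e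
        exact Or.inr rfl
    rcases key _ (smul_mem_ovoid g.2 (mem_ovoid.2 (Or.inl rfl))) f1 with e1 | e1 <;>
      rcases key _ (smul_mem_ovoid g.2 (mem_ovoid.2 (Or.inr ⟨0, 0, rfl⟩))) f2 with e2 | e2
    · exact absurd (MulAction.injective g.1 (e1.trans e2.symm)).symm (pFin_ne_inf 0 0)
    · obtain ⟨u, hu⟩ := stab_two hm hF g.2 e1 e2
      exact ⟨(false, ⟨g, u, Subtype.ext hu.symm⟩), Subtype.ext (one_mul g)⟩
    · obtain ⟨u, hu⟩ := stab_two hm hF (wG h * g).2
        (by show (wSL F * g.1) • pInf F = _; rw [mul_smul, e1, wSL_smul_zero])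
        (by show (wSL F * g.1) • pFin m (0 : F) 0 = _; rw [mul_smul, e2, wSL_smul_inf])
      refine ⟨(true, ⟨wG h * g, u, Subtype.ext hu.symm⟩), Subtype.ext ?_⟩
      show wG h * (wG h * g) = g
      rw [← mul_assoc, wG_sq, one_mul]
    · exact absurd (MulAction.injective g.1 (e1.trans e2.symm)).symm (pFin_ne_inf 0 0)

/-- The number of elements without fixed points. -/
theorem card_freeSet (hm : 1 ≤ m) (hF : Fintype.card F = 2 ^ (2 * m + 1)) :
    2 * (freeSet F m).ncard = Fintype.card F ^ 3 * (Fintype.card F - 1) ^ 2 := by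
  classical
  set h := thSq_of_card hF
  have hTIu : ∀ x a, a ∈ uSub h → a ≠ 1 → x * a * x⁻¹ ∈ uSub h →
      x ∈ Subgroup.normalizer (uSub h : Set (Cfsg.Sz F m)) := fun x a ha ha1 hxa => by
    rw [normalizer_uSub hm hF]
    exact mem_bSub_of_conj ha ha1 (uSub_le_bSub h hxa)
  have hU := ncard_conjUnion hTIu
  rw [normalizer_uSub hm hF, index_bSub hF, card_uSub, Nat.card_eq_fintype_card] at hU
  have hH := ncard_conjUnion (ti_of_centralizer (centralizer_of_mem_hSub hm hF))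
  rw [card_hSub] at hH
  have hN := Subgroup.card_mul_index (Subgroup.normalizer (hSub h : Set (Cfsg.Sz F m)))
  rw [card_normalizer_hSub hm hF, card_sz hm hF] at hN
  have hsplit : (Set.univ : Set (Cfsg.Sz F m)) =
      {1} ∪ conjUnion (uSub h) ∪ conjUnion (hSub h) ∪ freeSet F m := by
    refine (Set.eq_univ_of_forall fun g => ?_).symm
    by_cases hg : g = 1
    · exact Or.inl (Or.inl (Or.inl hg))
    rcases conj_cases hm hF g with h1 | ⟨k, hk⟩ | ⟨k, s, hs, hk⟩
    · exact Or.inr h1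
    · exact Or.inl (Or.inl (Or.inr ⟨hg, k, hk⟩))
    · exact Or.inl (Or.inr ⟨hg, k, hk ▸ ⟨s, rfl⟩⟩)
  have hnf : ∀ g, (∃ k, k * g * k⁻¹ ∈ bSub F m) → ¬ Free g := fun g ⟨k, hk⟩ hf =>
    not_free_of_mem_bSub hk (hf.conj k)
  have hHB : hSub h ≤ bSub F m := by rintro _ ⟨s, rfl⟩; exact hG_mem_bSub h s
  have d1 : Disjoint ({1} ∪ conjUnion (uSub h) ∪ conjUnion (hSub h)) (freeSet F m) := by
    rw [Set.disjoint_left]
    rintro g ((hg | ⟨-, k, hk⟩) | ⟨-, k, hk⟩) hf
    · exact hf.ne_one hg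
    · exact hnf g ⟨k, uSub_le_bSub h hk⟩ hf
    · exact hnf g ⟨k, hHB hk⟩ hf
  have d2 : Disjoint ({1} ∪ conjUnion (uSub h)) (conjUnion (hSub h)) := by
    rw [Set.disjoint_left]
    rintro g (hg | ⟨hg1, k, hk⟩) ⟨hg1', k', hk'⟩
    · exact hg1' hg
    · have hne : k * g * k⁻¹ ≠ 1 := fun e => hg1 (conj_eq_one_iff.1 e)
      have hne' : k' * g * k'⁻¹ ≠ 1 := fun e => hg1 (conj_eq_one_iff.1 e)
      have hc := centralizer_of_mem_hSub hm hF _ hk' hne'
      have hmem : k * k'⁻¹ * (k' * g * k'⁻¹) * (k * k'⁻¹)⁻¹ = k * g * k⁻¹ := by group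
      -- an element of `U` centralised by a conjugate of `H` would have two fixed points
      obtain ⟨s, hs⟩ := exists_unit_ne_one hm hF
      have h3 : (k * k'⁻¹) * hG h s * (k * k'⁻¹)⁻¹ ∈ Subgroup.centralizer {k * g * k⁻¹} := by
        have h4 : hG h s ∈ Subgroup.centralizer {k' * g * k'⁻¹} := hc.symm ▸ ⟨s, rfl⟩
        rw [Subgroup.mem_centralizer_singleton_iff] at h4 ⊢
        have hh : ∀ c x y : Cfsg.Sz F m, x * y = y * x →
            c * x * c⁻¹ * (c * y * c⁻¹) = c * y * c⁻¹ * (c * x * c⁻¹) := fun c x y e => by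
          rw [show c * x * c⁻¹ * (c * y * c⁻¹) = c * (x * y) * c⁻¹ by group, e]
          group
        have h4' := hh (k * k'⁻¹) _ _ h4
        rwa [hmem] at h4'
      have h5 := centralizer_le_uSub hm hF hk hne h3
      obtain ⟨a, b, hab⟩ := h5
      have h6 : (k * k'⁻¹) * hG h s * (k * k'⁻¹)⁻¹ ≠ 1 := fun e =>
        hs (hG_injective h ((conj_eq_one_iff.1 e).trans (map_one _).symm))
      have h7 : hG h s ∈ bSub F m := hG_mem_bSub h s
      have f1 := conj_smul_fix (k := k * k'⁻¹) (show hG h s • pInf F = pInf F from h7)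
      have f2 := conj_smul_fix (k := k * k'⁻¹)
        (show hG h s • pFin m (0 : F) 0 = pFin m 0 0 from (hG_fix_iff h hs).2 ⟨rfl, rfl⟩)
      have key : ∀ p ∈ suzukiOvoid F m,
          ((k * k'⁻¹) * hG h s * (k * k'⁻¹)⁻¹) • p = p → p = pInf F := by
        intro p hp e'
        rcases mem_ovoid.1 hp with rfl | ⟨x, y, rfl⟩
        · rfl
        · exact absurd (eq_one_of_mem_uSub_of_fix ⟨a, b, hab⟩ e') h6
      exact pFin_ne_inf (m := m) (0 : F) 0 (MulAction.injective (k * k'⁻¹)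
        ((key _ (smul_mem_ovoid (k * k'⁻¹).2 (mem_ovoid.2 (Or.inl rfl))) f1).trans
          (key _ (smul_mem_ovoid (k * k'⁻¹).2 (mem_ovoid.2 (Or.inr ⟨0, 0, rfl⟩))) f2).symm)).symm
  have d3 : Disjoint {1} (conjUnion (uSub h)) := by
    rw [Set.disjoint_singleton_left]
    exact fun hg => hg.1 rfl
  have htot := congrArg Set.ncard hsplit
  rw [Set.ncard_univ, card_sz hm hF, Set.ncard_union_eq d1, Set.ncard_union_eq d2,
    Set.ncard_union_eq d3, Set.ncard_singleton, hU, hH] at htot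
  generalize (Subgroup.normalizer (hSub h : Set (Cfsg.Sz F m))).index = I at htot hN
  generalize (freeSet F m).ncard = T at htot ⊢
  have h2 := two_lt_card hm hF
  generalize Fintype.card F = q at htot hN h2 ⊢
  have e1 : ((q - 1 : ℕ) : ℤ) = (q : ℤ) - 1 := by rw [Nat.cast_sub (by omega)]; norm_num
  have e2 : ((q - 1 - 1 : ℕ) : ℤ) = (q : ℤ) - 2 := by
    rw [Nat.cast_sub (by omega), e1]; ring
  have e3 : ((q ^ 2 - 1 : ℕ) : ℤ) = (q : ℤ) ^ 2 - 1 := by
    rw [Nat.cast_sub (Nat.one_le_pow _ _ (by omega))]; push_cast; ring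
  have hI : 2 * (I : ℤ) = (q : ℤ) ^ 2 * ((q : ℤ) ^ 2 + 1) := by
    have := congrArg (Nat.cast : ℕ → ℤ) hN
    push_cast at this
    rw [e1] at this
    apply mul_left_cancel₀ (show (q : ℤ) - 1 ≠ 0 by omega)
    linear_combination this
  zify
  rw [e1]
  have := congrArg (Nat.cast : ℕ → ℤ) htot
  push_cast at this
  rw [e1, e2, e3] at this
  linear_combination (-2 : ℤ) * this - ((q : ℤ) - 2) * hI

theorem not_three_dvd_card (hm : 1 ≤ m) (hF : Fintype.card F = 2 ^ (2 * m + 1)) :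
    ¬ 3 ∣ Nat.card (Cfsg.Sz F m) := by
  have hq : Fintype.card F % 3 = 2 := by
    rw [hF, pow_succ, Nat.mul_mod, pow_mul, Nat.pow_mod]
    norm_num
  rw [card_sz hm hF, Nat.prime_three.dvd_mul, Nat.prime_three.dvd_mul]
  have h2 : Fintype.card F ^ 2 % 3 = 1 := by rw [Nat.pow_mod, hq]
  omega

/-- Basic numerical facts about a torus. -/
theorem IsTorus.numbers (hm : 1 ≤ m) (hF : Fintype.card F = 2 ^ (2 * m + 1))
    {A : Subgroup (Cfsg.Sz F m)} (hA : IsTorus A) :
    Nat.card A ∣ Fintype.card F ^ 2 + 1 ∧ 5 ≤ Nat.card A ∧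
      ∃ n, (n = 1 ∨ n = 2 ∨ n = 4) ∧
        Nat.card (Subgroup.normalizer (A : Set (Cfsg.Sz F m))) = n * Nat.card A ∧
        n * Nat.card A * (conjUnion A).ncard = Nat.card (Cfsg.Sz F m) * (Nat.card A - 1) := by
  classical
  set q := Fintype.card F
  have hk : Nat.card A ∣ q ^ 2 + 1 := by
    have hc : (Nat.card A).Coprime (q ^ 2 * (q - 1)) := by
      refine Nat.coprime_of_dvd fun p hp h1 h2 => ?_
      have h3 := Free.prime_dvd_card hm hF hA hp h1
      rcases hp.dvd_mul.1 h2 with h4 | h4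
      · exact hp.not_dvd_one ((Nat.dvd_add_right h4).1 h3)
      · have hq2 : 1 ≤ q := Fintype.card_pos
        have h5 : p ∣ q ^ 2 - 1 := dvd_trans h4 (by simpa using Nat.sub_dvd_pow_sub_pow q 1 2)
        have h6 : p ∣ 2 := by
          have := Nat.dvd_sub h3 h5
          rwa [show q ^ 2 + 1 - (q ^ 2 - 1) = 2 by
            have := Nat.one_le_pow 2 q hq2; omega] at this
        obtain rfl := (Nat.prime_dvd_prime_iff_eq hp Nat.prime_two).1 h6
        exact odd_card_ovoid hF h3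
    have := Subgroup.card_subgroup_dvd_card A
    rw [card_sz hm hF] at this
    exact hc.dvd_of_dvd_mul_left this
  have h5 : 5 ≤ Nat.card A := by
    obtain ⟨x, hx, hp, hAx⟩ := hA
    have hxA : x ∈ A := hAx ▸ Subgroup.mem_centralizer_singleton_iff.2 rfl
    have hd : orderOf x ∣ Nat.card A := by
      rw [show orderOf x = orderOf (⟨x, hxA⟩ : A) from (Subgroup.orderOf_coe (⟨x, hxA⟩ : A))]
      exact orderOf_dvd_natCard _
    have h2 : orderOf x ≠ 2 := fun e => odd_card_ovoid hF (e ▸ hx.prime_dvd hp rfl)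
    have h3 : orderOf x ≠ 3 := fun e => not_three_dvd_card hm hF (e ▸ orderOf_dvd_natCard x)
    have h4 : orderOf x ≠ 4 := fun e => absurd (e ▸ hp) (by norm_num)
    have := hp.two_le
    have := Nat.le_of_dvd Nat.card_pos hd
    omega
  refine ⟨hk, h5, (A.subgroupOf (Subgroup.normalizer (A : Set (Cfsg.Sz F m)))).index, ?_⟩
  have h1 := Subgroup.card_mul_index (A.subgroupOf (Subgroup.normalizer (A : Set (Cfsg.Sz F m))))
  rw [Nat.card_congr (Subgroup.subgroupOfEquivOfLe Subgroup.le_normalizer).toEquiv, mul_comm] at h1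
  have hle : (A.subgroupOf (Subgroup.normalizer (A : Set (Cfsg.Sz F m)))).index ≤ 4 := by
    obtain ⟨x, hx, hp, rfl⟩ := hA
    exact (cyclic_and_index_le hF hx hp rfl).2
  have hS := ncard_conjUnion (ti_of_centralizer fun a ha ha1 => hA.centralizer_eq hm hF ha ha1)
  have h2 := Subgroup.card_mul_index (Subgroup.normalizer (A : Set (Cfsg.Sz F m)))
  refine ⟨?_, h1.symm, by rw [hS, ← h2, ← h1]; ring⟩
  generalize (A.subgroupOf (Subgroup.normalizer (A : Set (Cfsg.Sz F m)))).index = n at h1 hle ⊢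
  have hn0 : n ≠ 0 := fun e => by
    rw [e, zero_mul] at h1
    exact Nat.card_pos.ne h1
  have hn3 : n ≠ 3 := fun e => not_three_dvd_card hm hF
    (dvd_trans (dvd_trans (e ▸ dvd_mul_right n _) (dvd_of_eq h1)) (Subgroup.card_subgroup_dvd_card _))
  omega

theorem IsTorus.conjUnion_subset (hm : 1 ≤ m) (hF : Fintype.card F = 2 ^ (2 * m + 1))
    {A : Subgroup (Cfsg.Sz F m)} (hA : IsTorus A) : conjUnion A ⊆ freeSet F m := by
  rintro g ⟨hg, k, hk⟩
  exact (hA.free hm hF hk (fun e => hg (conj_eq_one_iff.1 e))).of_conj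

theorem mem_conjUnion_centralizer {g : Cfsg.Sz F m} (hg : Free g) :
    g ∈ conjUnion (Subgroup.centralizer {g}) :=
  ⟨hg.ne_one, 1, by rw [one_mul, inv_one, mul_one]; exact Subgroup.mem_centralizer_singleton_iff.2 rfl⟩

theorem IsTorus.map_conj (hm : 1 ≤ m) (hF : Fintype.card F = 2 ^ (2 * m + 1))
    {A : Subgroup (Cfsg.Sz F m)} (hA : IsTorus A) (k : Cfsg.Sz F m) :
    IsTorus (A.map (MulAut.conj k).toMonoidHom) := by
  obtain ⟨x, hx, hp, rfl⟩ := hA
  refine ⟨k * x * k⁻¹, hx.conj k, ?_, ?_⟩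
  · rwa [show orderOf (k * x * k⁻¹) = orderOf x from MulEquiv.orderOf_eq (MulAut.conj k) x]
  · ext y
    rw [Subgroup.mem_map_equiv, Subgroup.mem_centralizer_singleton_iff,
      Subgroup.mem_centralizer_singleton_iff, MulAut.conj_symm_apply]
    constructor <;> intro e
    · calc y * (k * x * k⁻¹) = k * (k⁻¹ * y * k * x) * k⁻¹ := by group
        _ = k * x * k⁻¹ * y := by rw [e]; group
    · calc k⁻¹ * y * k * x = k⁻¹ * (y * (k * x * k⁻¹)) * k := by group
        _ = x * (k⁻¹ * y * k) := by rw [e]; group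

theorem conjUnion_eq_or_disjoint (hm : 1 ≤ m) (hF : Fintype.card F = 2 ^ (2 * m + 1))
    {A B : Subgroup (Cfsg.Sz F m)} (hA : IsTorus A) (hB : IsTorus B) :
    Disjoint (conjUnion A) (conjUnion B) ∨ ∃ k, B = A.map (MulAut.conj k).toMonoidHom := by
  refine or_iff_not_imp_left.2 fun h => ?_
  obtain ⟨g, ⟨hg, k, hk⟩, ⟨-, l, hl⟩⟩ := Set.not_disjoint_iff.1 h
  refine ⟨l * k⁻¹, ?_⟩
  have hne : l * g * l⁻¹ ≠ 1 := fun e => hg (conj_eq_one_iff.1 e)
  have hA' := hA.map_conj hm hF (l * k⁻¹)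
  have hmem : l * g * l⁻¹ ∈ A.map (MulAut.conj (l * k⁻¹)).toMonoidHom :=
    ⟨_, hk, by simp [mul_assoc]⟩
  rw [← hB.centralizer_eq hm hF hl hne, hA'.centralizer_eq hm hF hmem hne]

theorem exists_torus_sylow (hm : 1 ≤ m) (hF : Fintype.card F = 2 ^ (2 * m + 1))
    {p : ℕ} [Fact p.Prime] (hp : p ∣ Fintype.card F ^ 2 + 1) (P : Sylow p (Cfsg.Sz F m)) :
    ∃ A : Subgroup (Cfsg.Sz F m), IsTorus A ∧ (P : Subgroup (Cfsg.Sz F m)) ≤ A := by
  have hP := P.isPGroup'
  have hne : Nontrivial (P : Subgroup (Cfsg.Sz F m)) := by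
    rw [← Finite.one_lt_card_iff_nontrivial]
    have hd : p ∣ Nat.card (P : Subgroup (Cfsg.Sz F m)) :=
      P.dvd_card_of_dvd_card (by rw [card_sz hm hF]; exact dvd_mul_of_dvd_right hp _)
    have := Nat.le_of_dvd Nat.card_pos hd
    have := (Fact.out : p.Prime).two_le
    omega
  have := hP.center_nontrivial
  obtain ⟨z, hz⟩ := exists_ne (1 : Subgroup.center (P : Subgroup (Cfsg.Sz F m)))
  have hz1 : z.1.1 ≠ 1 := fun e => hz (Subtype.ext (Subtype.ext e))
  have hzfree : Free z.1.1 := by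
    obtain ⟨k, hk⟩ := (IsPGroup.iff_orderOf.1 hP) z.1
    rw [← Subgroup.orderOf_coe] at hk
    rcases conj_cases hm hF z.1.1 with h1 | ⟨c, hc⟩ | ⟨c, s, hs, hc⟩
    · exact h1
    · exfalso
      have hd : orderOf z.1.1 ∣ Fintype.card F ^ 2 := by
        have h2 := orderOf_dvd_natCard (⟨_, hc⟩ : uSub (thSq_of_card hF))
        rwa [← Subgroup.orderOf_coe, card_uSub, Nat.card_eq_fintype_card,
          show orderOf (c * z.1.1 * c⁻¹) = orderOf z.1.1 from MulEquiv.orderOf_eq (MulAut.conj c) _] at h2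
      have hk0 : k ≠ 0 := fun e => hz1 (orderOf_eq_one_iff.1 (by rw [hk, e, pow_zero]))
      have h3 : p ∣ Fintype.card F ^ 2 := (dvd_pow_self p hk0).trans (hk ▸ hd)
      exact (Fact.out : p.Prime).not_dvd_one ((Nat.dvd_add_right h3).1 hp)
    · exfalso
      have hd : orderOf z.1.1 ∣ Fintype.card F - 1 := by
        rw [← card_hSub (thSq_of_card hF),
          ← show orderOf (c * z.1.1 * c⁻¹) = orderOf z.1.1 from MulEquiv.orderOf_eq (MulAut.conj c) _,
          hc]
        exact Subgroup.orderOf_dvd_natCard _ ⟨s, rfl⟩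
      have hk0 : k ≠ 0 := fun e => hz1 (orderOf_eq_one_iff.1 (by rw [hk, e, pow_zero]))
      have h4 : p ∣ Fintype.card F - 1 := (dvd_pow_self p hk0).trans (hk ▸ hd)
      have h5 : p ∣ Fintype.card F ^ 2 - 1 :=
        dvd_trans h4 (by simpa using Nat.sub_dvd_pow_sub_pow (Fintype.card F) 1 2)
      have h6 : p ∣ 2 := by
        have := Nat.dvd_sub hp h5
        rwa [show Fintype.card F ^ 2 + 1 - (Fintype.card F ^ 2 - 1) = 2 by
          have := Nat.one_le_pow 2 (Fintype.card F) Fintype.card_pos; omega] at this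
      have := (Nat.prime_dvd_prime_iff_eq Fact.out Nat.prime_two).1 h6
      exact odd_card_ovoid hF (this ▸ hp)
  refine ⟨_, hzfree.isTorus hm hF, fun g hg => Subgroup.mem_centralizer_singleton_iff.2 ?_⟩
  exact congrArg Subtype.val (Subgroup.mem_center_iff.1 z.2 ⟨g, hg⟩)

/-- There are two classes of tori, and their orders are the roots of `X² - 2(q+1) X + (q²+1)`. -/
theorem exists_two_tori (hm : 1 ≤ m) (hF : Fintype.card F = 2 ^ (2 * m + 1)) :
    ∃ A B : Subgroup (Cfsg.Sz F m), IsTorus A ∧ IsTorus B ∧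
      Nat.card A * Nat.card B = Fintype.card F ^ 2 + 1 ∧
      Nat.card A + Nat.card B = 2 * Fintype.card F + 2 ∧
      Nat.card (Subgroup.normalizer (A : Set (Cfsg.Sz F m))) = 4 * Nat.card A ∧
      Nat.card (Subgroup.normalizer (B : Set (Cfsg.Sz F m))) = 4 * Nat.card B ∧
      ∀ C, IsTorus C → ∃ k, C = A.map (MulAut.conj k).toMonoidHom ∨
        C = B.map (MulAut.conj k).toMonoidHom := by
  classical
  set q := Fintype.card F
  set G := Nat.card (Cfsg.Sz F m)
  have hq : 8 ≤ q := by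
    calc 8 = 2 ^ 3 := by norm_num
      _ ≤ q := hF ▸ Nat.pow_le_pow_right (by norm_num) (by omega)
  have hG : (G : ℤ) = (q : ℤ) ^ 2 * ((q : ℤ) - 1) * ((q : ℤ) ^ 2 + 1) := by
    have e1 : ((q - 1 : ℕ) : ℤ) = (q : ℤ) - 1 := by rw [Nat.cast_sub (by omega)]; norm_num
    have e2 : G = q ^ 2 * (q - 1) * (q ^ 2 + 1) := card_sz hm hF
    rw [e2]
    push_cast
    rw [e1]
  have hT := card_freeSet hm hF
  have hT' : 2 * ((freeSet F m).ncard : ℤ) = (q : ℤ) ^ 3 * ((q : ℤ) - 1) ^ 2 := by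
    have := congrArg (Nat.cast : ℕ → ℤ) hT
    have e1 : ((q - 1 : ℕ) : ℤ) = (q : ℤ) - 1 := by rw [Nat.cast_sub (by omega)]; norm_num
    change ((2 * (freeSet F m).ncard : ℕ) : ℤ) = ((q ^ 3 * (q - 1) ^ 2 : ℕ) : ℤ) at this
    push_cast at this
    rw [e1] at this
    exact this
  set T := (freeSet F m).ncard
  have hTlt : 5 * (T : ℤ) < 3 * (G : ℤ) := by
    have : 2 * (5 * (T : ℤ)) < 2 * (3 * (G : ℤ)) := by
      rw [hG]
      have hq' : (8 : ℤ) ≤ q := by exact_mod_cast hq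
      nlinarith [mul_pos (mul_pos (pow_pos (show (0 : ℤ) < q by omega) 2) (show (0 : ℤ) < q - 1 by omega))
        (show (0 : ℤ) < (q : ℤ) ^ 2 + 5 * q + 6 by positivity)]
    omega
  have hsize : ∀ A : Subgroup (Cfsg.Sz F m), IsTorus A →
      (G : ℤ) ≤ 5 * (conjUnion A).ncard ∧
      (Nat.card (Subgroup.normalizer (A : Set (Cfsg.Sz F m))) ≠ 4 * Nat.card A →
        2 * (G : ℤ) ≤ 5 * (conjUnion A).ncard) := by
    intro A hA
    obtain ⟨-, h5, n, hn, hN, hS⟩ := hA.numbers hm hF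
    have hS' := congrArg (Nat.cast : ℕ → ℤ) hS
    push_cast [Nat.cast_sub (show 1 ≤ Nat.card A by omega)] at hS'
    have h5' : (5 : ℤ) ≤ Nat.card A := by exact_mod_cast h5
    have hG0 : (0 : ℤ) ≤ G := Int.natCast_nonneg _
    constructor
    · rcases hn with rfl | rfl | rfl <;> push_cast at hS' <;> nlinarith
    · intro hne
      rcases hn with rfl | rfl | rfl
      · push_cast at hS'; nlinarith
      · push_cast at hS'; nlinarith
      · exact absurd hN hne
  -- two disjoint classes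
  obtain ⟨p, hp, hpd⟩ := Nat.exists_prime_and_dvd (show q ^ 2 + 1 ≠ 1 by
    have := Nat.one_le_pow 2 q (by omega); omega)
  have : Fact p.Prime := ⟨hp⟩
  obtain ⟨A, hA, -⟩ := exists_torus_sylow hm hF hpd default
  have hAk := hA.numbers hm hF
  obtain ⟨B, hB, hdisj⟩ : ∃ B, IsTorus B ∧ Disjoint (conjUnion A) (conjUnion B) := by
    by_contra! hall
    have heq : conjUnion A = freeSet F m := by
      refine Set.Subset.antisymm (hA.conjUnion_subset hm hF) fun g hg => ?_
      have hC := Free.isTorus hm hF hg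
      rcases conjUnion_eq_or_disjoint hm hF hA hC with h1 | ⟨k, hk⟩
      · exact absurd h1 (hall _ hC)
      · obtain ⟨a, ha, hag⟩ := (hk ▸ Subgroup.mem_centralizer_singleton_iff.2 rfl :
          g ∈ A.map (MulAut.conj k).toMonoidHom)
        exact ⟨hg.ne_one, k⁻¹, by rw [← hag]; simpa [mul_assoc] using ha⟩
    have hall' : ∀ C, IsTorus C → ∃ k, C = A.map (MulAut.conj k).toMonoidHom := fun C hC =>
      (conjUnion_eq_or_disjoint hm hF hA hC).resolve_left (hall C hC)
    -- every prime power dividing `q ^ 2 + 1` divides the order of `A`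
    have hAcard : Nat.card A = q ^ 2 + 1 := by
      refine Nat.dvd_antisymm hAk.1 ((Nat.dvd_iff_prime_pow_dvd_dvd _ _).2 fun r e hr hre => ?_)
      rcases Nat.eq_zero_or_pos e with rfl | he
      · exact one_dvd _
      have : Fact r.Prime := ⟨hr⟩
      obtain ⟨C, hC, hPC⟩ := exists_torus_sylow hm hF ((dvd_pow_self r he.ne').trans hre) default
      obtain ⟨k, hk⟩ := hall' C hC
      refine ((default : Sylow r (Cfsg.Sz F m)).pow_dvd_card_of_pow_dvd_card ?_).trans
        ((Subgroup.card_dvd_of_le hPC).trans ?_)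
      · rw [card_sz hm hF]; exact dvd_mul_of_dvd_right hre _
      · rw [hk, Subgroup.card_map_of_injective (MulAut.conj k).injective]
    obtain ⟨-, -, n, hn, -, hS⟩ := hAk
    rw [hAcard, Nat.add_sub_cancel, heq] at hS
    have hS' := congrArg (Nat.cast : ℕ → ℤ) hS
    push_cast at hS'
    have hq' : (8 : ℤ) ≤ q := by exact_mod_cast hq
    have hkey : (n : ℤ) * ((q : ℤ) - 1) = 2 * q := by
      apply mul_left_cancel₀ (show ((q : ℤ) ^ 2 + 1) * (q : ℤ) ^ 3 * ((q : ℤ) - 1) ≠ 0 by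
        exact (mul_pos (mul_pos (by positivity) (pow_pos (by omega) 3)) (by omega)).ne')
      linear_combination 2 * hS' - (n : ℤ) * ((q : ℤ) ^ 2 + 1) * hT' + 2 * (q : ℤ) ^ 2 * hG
    rcases hn with rfl | rfl | rfl <;> omega
  have hthree : ∀ C, IsTorus C → ∃ k, C = A.map (MulAut.conj k).toMonoidHom ∨
      C = B.map (MulAut.conj k).toMonoidHom := by
    intro C hC
    rcases conjUnion_eq_or_disjoint hm hF hA hC with h1 | ⟨k, hk⟩
    · rcases conjUnion_eq_or_disjoint hm hF hB hC with h2 | ⟨k, hk⟩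
      · exfalso
        have hsub : conjUnion A ∪ conjUnion B ∪ conjUnion C ⊆ freeSet F m :=
          Set.union_subset (Set.union_subset (hA.conjUnion_subset hm hF)
            (hB.conjUnion_subset hm hF)) (hC.conjUnion_subset hm hF)
        have := Set.ncard_le_ncard hsub
        rw [Set.ncard_union_eq (Set.disjoint_union_left.2 ⟨h1, h2⟩), Set.ncard_union_eq hdisj] at this
        have h3 := (hsize A hA).1
        have h4 := (hsize B hB).1
        have h5 := (hsize C hC).1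
        omega
      · exact ⟨k, Or.inr hk⟩
    · exact ⟨k, Or.inl hk⟩
  have hsum : (conjUnion A).ncard + (conjUnion B).ncard = T := by
    rw [← Set.ncard_union_eq hdisj]
    congr 1
    refine Set.Subset.antisymm (Set.union_subset (hA.conjUnion_subset hm hF)
      (hB.conjUnion_subset hm hF)) fun g hg => ?_
    have hgC : g ∈ Subgroup.centralizer {g} := Subgroup.mem_centralizer_singleton_iff.2 rfl
    obtain ⟨k, hk | hk⟩ := hthree _ (Free.isTorus hm hF hg)
    · obtain ⟨a, ha, hag⟩ := (hk ▸ hgC : g ∈ A.map (MulAut.conj k).toMonoidHom)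
      exact Or.inl ⟨hg.ne_one, k⁻¹, by rw [← hag]; simpa [mul_assoc] using ha⟩
    · obtain ⟨a, ha, hag⟩ := (hk ▸ hgC : g ∈ B.map (MulAut.conj k).toMonoidHom)
      exact Or.inr ⟨hg.ne_one, k⁻¹, by rw [← hag]; simpa [mul_assoc] using ha⟩
  have hNA : Nat.card (Subgroup.normalizer (A : Set (Cfsg.Sz F m))) = 4 * Nat.card A := by
    by_contra hne
    have h3 := (hsize A hA).2 hne
    have h4 := (hsize B hB).1
    omega
  have hNB : Nat.card (Subgroup.normalizer (B : Set (Cfsg.Sz F m))) = 4 * Nat.card B := by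
    by_contra hne
    have h3 := (hsize A hA).1
    have h4 := (hsize B hB).2 hne
    omega
  have hcop : (Nat.card A).Coprime (Nat.card B) := by
    refine Nat.coprime_of_dvd fun r hr hrA hrB => ?_
    have : Fact r.Prime := ⟨hr⟩
    obtain ⟨a, ha⟩ := exists_prime_orderOf_dvd_card' r hrA
    obtain ⟨b, hb⟩ := exists_prime_orderOf_dvd_card' r hrB
    have hac : Nat.card (Subgroup.zpowers a.1) = r := by
      rw [Nat.card_zpowers, Subgroup.orderOf_coe, ha]
    have hbc : Nat.card (Subgroup.zpowers b.1) = r := by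
      rw [Nat.card_zpowers, Subgroup.orderOf_coe, hb]
    obtain ⟨P, hP⟩ := (IsPGroup.of_card (p := r) (n := 1) (by rw [hac, pow_one])).exists_le_sylow
    obtain ⟨Q, hQ⟩ := (IsPGroup.of_card (p := r) (n := 1) (by rw [hbc, pow_one])).exists_le_sylow
    obtain ⟨C, hC, hPC⟩ := exists_torus_sylow hm hF (Free.prime_dvd_card hm hF hA hr hrA) P
    obtain ⟨g, hg⟩ := MulAction.exists_smul_eq (Cfsg.Sz F m) P Q
    have ha1 : a.1 ≠ 1 := fun e => hr.one_lt.ne' (by rw [← ha, ← Subgroup.orderOf_coe, e, orderOf_one])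
    have hb1 : b.1 ≠ 1 := fun e => hr.one_lt.ne' (by rw [← hb, ← Subgroup.orderOf_coe, e, orderOf_one])
    have hAC : C = A := (hC.centralizer_eq hm hF (hPC (hP (Subgroup.mem_zpowers _))) ha1).symm.trans
      (hA.centralizer_eq hm hF a.2 ha1)
    have hbQ : b.1 ∈ (g • P : Sylow r (Cfsg.Sz F m)) := by rw [hg]; exact hQ (Subgroup.mem_zpowers _)
    obtain ⟨y, hy, hyb⟩ := hbQ
    have hbA : g⁻¹ * b.1 * g ∈ A := by
      rw [← hyb]
      simpa [mul_assoc] using hAC ▸ hPC hy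
    have h1 : b.1 ∈ conjUnion A := ⟨hb1, g⁻¹, by rw [inv_inv]; exact hbA⟩
    have h2 : b.1 ∈ conjUnion B := ⟨hb1, 1, by simp⟩
    exact Set.disjoint_left.1 hdisj h1 h2
  have hprod : Nat.card A * Nat.card B = q ^ 2 + 1 := by
    refine Nat.dvd_antisymm (hcop.mul_dvd_of_dvd_of_dvd hAk.1 (hB.numbers hm hF).1)
      ((Nat.dvd_iff_prime_pow_dvd_dvd _ _).2 fun r e hr hre => ?_)
    rcases Nat.eq_zero_or_pos e with rfl | he
    · exact one_dvd _
    have : Fact r.Prime := ⟨hr⟩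
    obtain ⟨C, hC, hPC⟩ := exists_torus_sylow hm hF ((dvd_pow_self r he.ne').trans hre) default
    refine ((default : Sylow r (Cfsg.Sz F m)).pow_dvd_card_of_pow_dvd_card ?_).trans
      ((Subgroup.card_dvd_of_le hPC).trans ?_)
    · rw [card_sz hm hF]; exact dvd_mul_of_dvd_right hre _
    · obtain ⟨k, hk | hk⟩ := hthree C hC <;>
        rw [hk, Subgroup.card_map_of_injective (MulAut.conj k).injective]
      · exact dvd_mul_right _ _
      · exact dvd_mul_left _ _
  refine ⟨A, B, hA, hB, hprod, ?_, hNA, hNB, hthree⟩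
  obtain ⟨-, hA5, n, -, hnA, hSA⟩ := hAk
  obtain ⟨-, hB5, n', -, hnB, hSB⟩ := hB.numbers hm hF
  obtain rfl : n = 4 := Nat.eq_of_mul_eq_mul_right (by omega) (hnA.symm.trans hNA)
  obtain rfl : n' = 4 := Nat.eq_of_mul_eq_mul_right (by omega) (hnB.symm.trans hNB)
  have hSA' := congrArg (Nat.cast : ℕ → ℤ) hSA
  have hSB' := congrArg (Nat.cast : ℕ → ℤ) hSB
  push_cast [Nat.cast_sub (show 1 ≤ Nat.card A by omega)] at hSA'
  push_cast [Nat.cast_sub (show 1 ≤ Nat.card B by omega)] at hSB'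
  have hsum' := congrArg (Nat.cast : ℕ → ℤ) hsum
  have hprod' := congrArg (Nat.cast : ℕ → ℤ) hprod
  push_cast at hsum' hprod'
  have hq' : (8 : ℤ) ≤ q := by exact_mod_cast hq
  have : ((Nat.card A : ℤ) + Nat.card B) = 2 * q + 2 := by
    apply mul_left_cancel₀ (show (G : ℤ) ≠ 0 by exact_mod_cast Nat.card_pos.ne')
    linear_combination (Nat.card B : ℤ) * hSA' + (Nat.card A : ℤ) * hSB'
      - 4 * (Nat.card A : ℤ) * (Nat.card B : ℤ) * hsum' + (2 * (G : ℤ) - 4 * (T : ℤ)) * hprod'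
      - 2 * ((q : ℤ) ^ 2 + 1) * hT' + 2 * (q : ℤ) * ((q : ℤ) - 1) * hG
  exact_mod_cast this

/-- The order of a torus, and the index in its normaliser. -/
theorem IsTorus.card_mem (hm : 1 ≤ m) (hF : Fintype.card F = 2 ^ (2 * m + 1))
    {A : Subgroup (Cfsg.Sz F m)} (hA : IsTorus A) :
    (Nat.card A = 2 ^ (2 * m + 1) + 2 ^ (m + 1) + 1 ∨
      Nat.card A = 2 ^ (2 * m + 1) - 2 ^ (m + 1) + 1) ∧
    Nat.card (Subgroup.normalizer (A : Set (Cfsg.Sz F m))) = 4 * Nat.card A := by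
  obtain ⟨B, C, hB, hC, hprod, hsum, hNB, hNC, hall⟩ := exists_two_tori hm hF
  have hN : ∀ (D : Subgroup (Cfsg.Sz F m)) (k : Cfsg.Sz F m),
      Nat.card (Subgroup.normalizer ((D.map (MulAut.conj k).toMonoidHom : Subgroup (Cfsg.Sz F m)) :
        Set (Cfsg.Sz F m))) = Nat.card (Subgroup.normalizer (D : Set (Cfsg.Sz F m))) := fun D k => by
    rw [normalizer_map_conj, Subgroup.card_map_of_injective (MulAut.conj k).injective]
  have hle : 2 ^ (m + 1) ≤ 2 ^ (2 * m + 1) := Nat.pow_le_pow_right (by norm_num) (by omega)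
  have hsq : ((2 ^ (m + 1) : ℕ) : ℤ) ^ 2 = 2 * ((2 ^ (2 * m + 1) : ℕ) : ℤ) := by
    push_cast
    rw [← pow_mul, ← pow_succ']
    congr 1
    omega
  rw [hF] at hprod hsum
  have hval : ∀ a b : ℕ, a * b = (2 ^ (2 * m + 1)) ^ 2 + 1 → a + b = 2 * 2 ^ (2 * m + 1) + 2 →
      a = 2 ^ (2 * m + 1) + 2 ^ (m + 1) + 1 ∨ a = 2 ^ (2 * m + 1) - 2 ^ (m + 1) + 1 := by
    intro a b hp hs
    generalize 2 ^ (m + 1) = r at hle hsq
    generalize 2 ^ (2 * m + 1) = q at hle hsq hp hs
    have hp' := congrArg (Nat.cast : ℕ → ℤ) hp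
    have hs' := congrArg (Nat.cast : ℕ → ℤ) hs
    push_cast at hp' hs'
    have h0 : ((a : ℤ) - q - 1 - r) * ((a : ℤ) - q - 1 + r) = 0 := by
      linear_combination (a : ℤ) * hs' - hp' - hsq
    rcases mul_eq_zero.1 h0 with h1 | h1
    · left; omega
    · right; omega
  obtain ⟨k, rfl | rfl⟩ := hall A hA <;>
    rw [hN, Subgroup.card_map_of_injective (MulAut.conj k).injective]
  · exact ⟨hval _ _ hprod hsum, hNB⟩
  · exact ⟨hval _ _ (by rw [mul_comm]; exact hprod) (by rw [add_comm]; exact hsum), hNC⟩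

theorem exists_torus_of_card (hm : 1 ≤ m) (hF : Fintype.card F = 2 ^ (2 * m + 1)) {k : ℕ}
    (hk : k = 2 ^ (2 * m + 1) + 2 ^ (m + 1) + 1 ∨ k = 2 ^ (2 * m + 1) - 2 ^ (m + 1) + 1) :
    ∃ A : Subgroup (Cfsg.Sz F m), IsTorus A ∧ Nat.card A = k := by
  obtain ⟨B, C, hB, hC, hprod, hsum, -⟩ := exists_two_tori hm hF
  rw [hF] at hsum
  have h1 : 2 ^ (m + 1) ≤ 2 ^ (2 * m + 1) := Nat.pow_le_pow_right (by norm_num) (by omega)
  rcases (hB.card_mem hm hF).1 with h2 | h2 <;> rcases hk with h3 | h3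
  · exact ⟨B, hB, by omega⟩
  · exact ⟨C, hC, by omega⟩
  · exact ⟨C, hC, by omega⟩
  · exact ⟨B, hB, by omega⟩

theorem isCyclic_hSub (h : ThSq F m) : IsCyclic (hSub h) :=
  isCyclic_of_surjective (hG h).rangeRestrict (hG h).rangeRestrict_surjective

end CfsgLib.Suzuki
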