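import Cfsg.Agent.Lib.Suzuki.Centralizer
import Cfsg.Prelude.Def_KGroupFacts

/-!
Automorphisms of a Suzuki group: inner automorphisms composed with field automorphisms.
-/

set_option autoImplicit false
set_option linter.unusedSectionVars false

namespace CfsgLib.Suzuki

open Matrix Cfsg
open scoped Pointwise LinearAlgebra.Projectivization

variable {F : Type*} [Field F] [CharP F 2] [Fintype F] {m : ℕ}

theorem th_comm (σ : F ≃+* F) (x : F) : th m (σ x) = σ (th m x) := by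
  rw [th_def, th_def, map_pow]

theorem pv_map (σ : F ≃+* F) (x y : F) : (fun i => σ (pv m x y i)) = pv m (σ x) (σ y) := by
  funext i
  fin_cases i <;> simp [pv, ovF, th_comm]

theorem infV_map (σ : F ≃+* F) : (fun i => σ (infV F i)) = infV F := by
  funext i
  fin_cases i <;> simp [infV]

theorem map_mulVec_eq (σ : F ≃+* F) (g : Matrix.SpecialLinearGroup (Fin 4) F) {v w : Fin 4 → F}
    {c : F} (h : g.1 *ᵥ v = c • w) :
    (Matrix.SpecialLinearGroup.map σ.toRingHom g).1 *ᵥ (fun i => σ (v i)) =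
      σ c • (fun i => σ (w i)) := by
  funext i
  have := congrArg σ (congrFun h i)
  simp only [Matrix.mulVec, dotProduct, map_sum, map_mul, Pi.smul_apply, smul_eq_mul] at this ⊢
  exact this

theorem map_mem_sz (σ : F ≃+* F) {g : Matrix.SpecialLinearGroup (Fin 4) F} (hg : g ∈ Cfsg.Sz F m) :
    Matrix.SpecialLinearGroup.map σ.toRingHom g ∈ Cfsg.Sz F m := by
  have key : ∀ (v : Fin 4 → F) (hv : v ≠ 0) (hv' : (fun i => σ (v i)) ≠ 0),
      Projectivization.mk F v hv ∈ suzukiOvoid F m →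
      Projectivization.mk F _ hv' ∈ suzukiOvoid F m := by
    intro v hv hv' h
    rcases mem_ovoid.1 h with e | ⟨x, y, e⟩
    · obtain ⟨c, rfl⟩ := (Projectivization.mk_eq_mk_iff' F _ _ _ _).1 e
      refine mem_ovoid.2 (Or.inl ((Projectivization.mk_eq_mk_iff' F _ _ _ _).2 ⟨σ c, ?_⟩))
      funext i
      simp [congrFun (infV_map σ) i]
    · obtain ⟨c, rfl⟩ := (Projectivization.mk_eq_mk_iff' F _ _ _ _).1 e
      refine mem_ovoid.2 (Or.inr ⟨σ x, σ y, (Projectivization.mk_eq_mk_iff' F _ _ _ _).2 ⟨σ c, ?_⟩⟩)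
      funext i
      simp [← pv_map σ x y]
  refine mem_Sz_of_mapsTo fun p hp => ?_
  induction p using Projectivization.ind with
  | _ v hv =>
    have hv0 : (fun i => σ.symm (v i)) ≠ 0 := fun e => hv <| funext fun i => by
      simpa using congrArg σ (congrFun e i)
    have hp' : Projectivization.mk F _ hv0 ∈ suzukiOvoid F m := by
      rcases mem_ovoid.1 hp with e | ⟨x, y, e⟩
      · obtain ⟨c, rfl⟩ := (Projectivization.mk_eq_mk_iff' F _ _ _ _).1 e
        refine mem_ovoid.2 (Or.inl ((Projectivization.mk_eq_mk_iff' F _ _ _ _).2 ⟨σ.symm c, ?_⟩))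
        funext i
        simp [congrFun (infV_map σ.symm) i]
      · obtain ⟨c, rfl⟩ := (Projectivization.mk_eq_mk_iff' F _ _ _ _).1 e
        refine mem_ovoid.2 (Or.inr ⟨σ.symm x, σ.symm y,
          (Projectivization.mk_eq_mk_iff' F _ _ _ _).2 ⟨σ.symm c, ?_⟩⟩)
        funext i
        simp [← pv_map σ.symm x y]
    have h1 := smul_mem_ovoid hg hp'
    rw [Projectivization.smul_mk] at h1 ⊢
    have h2 : g.1 *ᵥ (fun i => σ.symm (v i)) = (1 : F) • (g • fun i => σ.symm (v i)) := by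
      rw [one_smul]; exact (Matrix.SpecialLinearGroup.smul_def g _).symm
    have h3 := map_mulVec_eq σ g h2
    rw [map_one, one_smul] at h3
    simp only [RingEquiv.apply_symm_apply] at h3
    have hne : g • (fun i => σ.symm (v i)) ≠ 0 := (smul_ne_zero_iff_ne g).2 hv0
    have hne' : (fun i => σ ((g • fun i => σ.symm (v i)) i)) ≠ 0 := fun e => hne <| funext fun i => by
      simpa using congrArg σ.symm (congrFun e i)
    have h4 := key _ hne hne' h1
    convert h4 using 2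
    rw [Matrix.SpecialLinearGroup.smul_def]
    exact h3

/-- Field automorphisms acting on the Suzuki group. -/
def fieldAut (m : ℕ) (σ : F ≃+* F) : MulAut (Cfsg.Sz F m) where
  toFun g := ⟨Matrix.SpecialLinearGroup.map σ.toRingHom g.1, map_mem_sz σ g.2⟩
  invFun g := ⟨Matrix.SpecialLinearGroup.map σ.symm.toRingHom g.1, map_mem_sz σ.symm g.2⟩
  left_inv g := by
    apply Subtype.ext; apply Subtype.ext; ext i j
    exact σ.symm_apply_apply (g.1.1 i j)
  right_inv g := by
    apply Subtype.ext; apply Subtype.ext; ext i j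
    exact σ.apply_symm_apply (g.1.1 i j)
  map_mul' g k := Subtype.ext (map_mul (Matrix.SpecialLinearGroup.map σ.toRingHom) g.1 k.1)

/-- Field automorphisms as a homomorphism. -/
def fieldHom (F : Type*) [Field F] [CharP F 2] [Fintype F] (m : ℕ) :
    (F ≃+* F) →* MulAut (Cfsg.Sz F m) :=
  MonoidHom.mk' (fieldAut m) fun _ _ => rfl

theorem fieldHom_tG (h : ThSq F m) (σ : F ≃+* F) (a b : F) :
    fieldHom F m σ (tG h a b) = tG h (σ a) (σ b) := by
  apply Subtype.ext; apply Subtype.ext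
  show (tMat m a b).map σ = tMat m (σ a) (σ b)
  ext i j
  fin_cases i <;> fin_cases j <;> simp [tMat, th_comm]

theorem fieldHom_hG (h : ThSq F m) (σ : F ≃+* F) (s : Fˣ) :
    fieldHom F m σ (hG h s) = hG h (Units.map (σ : F →* F) s) := by
  apply Subtype.ext; apply Subtype.ext
  show (hMat m (s : F)).map σ = hMat m (σ (s : F))
  ext i j
  fin_cases i <;> fin_cases j <;> simp [hMat, th_comm]

theorem fieldHom_wG (h : ThSq F m) (σ : F ≃+* F) : fieldHom F m σ (wG h) = wG h := by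
  apply Subtype.ext; apply Subtype.ext
  show (wSL F).1.map σ = (wSL F).1
  ext i j
  fin_cases i <;> fin_cases j <;> simp [wSL]

theorem th_sq_injective (h : ThSq F m) :
    Function.Injective (fun s : Fˣ => th m (s : F) * (s : F) ^ 2) := fun s t e => by
  by_contra hst
  refine th_sq_ne_one h (s := s * t⁻¹) (fun e' => hst ?_) ?_
  · rwa [mul_inv_eq_one] at e'
  · rw [Units.val_mul, map_mul, Units.val_inv_eq_inv_val, map_inv₀]
    have := t.ne_zero
    have : th m (t : F) ≠ 0 := by simpa using this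
    field_simp
    linear_combination e

theorem exists_th_sq (h : ThSq F m) {b : F} (hb : b ≠ 0) :
    ∃ s : Fˣ, th m (s : F) * (s : F) ^ 2 = b := by
  let f : Fˣ → Fˣ := fun s =>
    Units.mk0 (th m (s : F) * (s : F) ^ 2) (mul_ne_zero (by simp) (pow_ne_zero 2 s.ne_zero))
  have hf : Function.Injective f := fun s t e => th_sq_injective h (congrArg Units.val e)
  obtain ⟨s, hs⟩ := Finite.surjective_of_injective hf (Units.mk0 b hb)
  exact ⟨s, congrArg Units.val hs⟩

theorem hG_conj_zero (h : ThSq F m) (s : Fˣ) (b : F) :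
    hG h s * tG h 0 b * (hG h s)⁻¹ = tG h 0 (th m (s : F) * (s : F) ^ 2 * b) := by
  rw [hG_conj, mul_zero]

/-- Every automorphism is the product of an inner and a field automorphism. -/
theorem exists_conj_mul_field (hm : 1 ≤ m) (hF : Fintype.card F = 2 ^ (2 * m + 1))
    (φ : MulAut (Cfsg.Sz F m)) : ∃ g σ, φ = MulAut.conj g * fieldHom F m σ := by
  have hfact : Fact (Nat.Prime 2) := ⟨Nat.prime_two⟩
  set h := thSq_of_card hF
  -- make `U` invariant
  obtain ⟨k₁, hk₁⟩ : ∃ k₁ : Cfsg.Sz F m, ∀ u, u ∈ uSub h ↔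
      (MulAut.conj k₁)⁻¹ (φ u) ∈ uSub h := by
    obtain ⟨k, hk⟩ := exists_conj_sylow hm hF
      ((uSylow hm hF).mapSurjective (f := φ.toMonoidHom) φ.surjective)
    refine ⟨k, fun u => ?_⟩
    have e : φ u ∈ (uSub h).map φ.toMonoidHom ↔ φ u ∈ (uSub h).map (MulAut.conj k).toMonoidHom := by
      rw [← hk]; rfl
    rw [Subgroup.mem_map_equiv, Subgroup.mem_map_equiv, φ.symm_apply_apply] at e
    exact e
  set φ₁ := (MulAut.conj k₁)⁻¹ * φ with hφ₁
  have hB₁ : ∀ g, g ∈ bSub F m → φ₁ g ∈ bSub F m := by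
    intro g hg
    rw [← normalizer_uSub hm hF, Subgroup.mem_normalizer_iff] at hg ⊢
    intro u
    obtain ⟨v, rfl⟩ := φ₁.surjective u
    have h' := hg v
    rw [hk₁ v, hk₁ (g * v * g⁻¹)] at h'
    show φ₁ v ∈ uSub h ↔ φ₁ g * φ₁ v * (φ₁ g)⁻¹ ∈ uSub h
    rw [← map_inv, ← map_mul, ← map_mul]
    exact h'
  -- make `H` invariant
  obtain ⟨t₀, ht₀⟩ := exists_unit_ne_one hm hF
  obtain ⟨k₂, hk₂B, s₀, hs₀, hk₂⟩ : ∃ k₂ ∈ bSub F m, ∃ s₀ : Fˣ, s₀ ≠ 1 ∧
      k₂ * φ₁ (hG h t₀) * k₂⁻¹ = hG h s₀ := by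
    have hx := hB₁ _ (hG_mem_bSub h t₀)
    obtain ⟨k, s, hs, e⟩ := exists_conj_hG hm hF hx (fun hu => by
      obtain ⟨a, b, hab⟩ := (hk₁ (hG h t₀)).2 hu
      exact ht₀ (tSL_mul_hSL_inj h (a := 0) (b := 0) (a' := a) (b' := b) (s := t₀) (s' := 1) (by
        have e' : tG h 0 0 * hG h t₀ = tG h a b * hG h 1 := by
          rw [tG_zero, one_mul, map_one, mul_one]; exact hab
        exact congrArg Subtype.val e')).2.2)
    have hfix := conj_smul_fix (k := k) (show φ₁ (hG h t₀) • pInf F = pInf F from hx)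
    rw [e] at hfix
    rcases mem_ovoid.1 (smul_mem_ovoid k.2 (mem_ovoid.2 (Or.inl rfl))) with e1 | ⟨x, y, e1⟩
    · exact ⟨k, e1, s, hs, e⟩
    · have e1' : k • pInf F = pFin m x y := e1
      rw [e1'] at hfix
      obtain ⟨rfl, rfl⟩ := (hG_fix_iff h hs).1 hfix
      refine ⟨wG h * k, ?_, s⁻¹, inv_ne_one.2 hs, ?_⟩
      · show (wG h * k) • pInf F = pInf F
        rw [mul_smul, e1']
        exact wSL_smul_zero
      · rw [← hG_w h s, ← e]
        group
  set φ₂ := MulAut.conj k₂ * φ₁ with hφ₂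
  have hU₂ : ∀ u, u ∈ uSub h → φ₂ u ∈ uSub h := fun u hu =>
    conj_mem_uSub hm hF hk₂B ((hk₁ u).1 hu)
  have hH₂ : ∀ t, ∃ t', φ₂ (hG h t) = hG h t' := fun t => by
    have hc : φ₂ (hG h t) ∈ Subgroup.centralizer {hG h s₀} := by
      rw [Subgroup.mem_centralizer_singleton_iff, ← hk₂]
      show φ₂ (hG h t) * φ₂ (hG h t₀) = φ₂ (hG h t₀) * φ₂ (hG h t)
      rw [← map_mul, ← map_mul, ← map_mul, ← map_mul, mul_comm]
    rw [centralizer_hG hm hF hs₀] at hc
    obtain ⟨t', ht'⟩ := hc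
    exact ⟨t', ht'.symm⟩
  have hZ₂ : ∀ b, ∃ b', φ₂ (tG h 0 b) = tG h 0 b' := fun b => by
    obtain ⟨a', b', e⟩ := hU₂ _ ⟨0, b, rfl⟩
    refine ⟨b', ?_⟩
    have e2 := congrArg φ₂ (tG_sq h 0 b)
    rw [map_mul, e, tG_sq, map_zero (th m), zero_mul, tG_zero, map_one, tG_eq_one, mul_eq_zero] at e2
    have ha : a' = 0 := e2.2.elim (fun h' => by simpa using h') id
    rw [e, ha]
  choose μ hμ using hH₂
  choose A hA using hZ₂
  have hA1 : A 1 ≠ 0 := fun e => by
    have h1 := hA 1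
    rw [e, tG_zero, map_eq_one_iff φ₂ φ₂.injective, tG_eq_one] at h1
    exact one_ne_zero h1.2
  -- normalise the value at `1`
  obtain ⟨c, hc⟩ := exists_th_sq h (inv_ne_zero hA1)
  set φ₃ := MulAut.conj (hG h c) * φ₂ with hφ₃
  have hμ₃ : ∀ t, φ₃ (hG h t) = hG h (μ t) := fun t => by
    show hG h c * φ₂ (hG h t) * (hG h c)⁻¹ = hG h (μ t)
    rw [hμ, ← map_inv, ← map_mul, ← map_mul, mul_inv_cancel_comm]
  let A' : F → F := fun b => (A 1)⁻¹ * A b
  have hA' : ∀ b, φ₃ (tG h 0 b) = tG h 0 (A' b) := fun b => by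
    show hG h c * φ₂ (tG h 0 b) * (hG h c)⁻¹ = _
    rw [hA, hG_conj_zero, hc]
  have hA'1 : A' 1 = 1 := inv_mul_cancel₀ hA1
  have hA'0 : A' 0 = 0 := by
    have := hA' 0
    rw [tG_zero, map_one, eq_comm, tG_eq_one] at this
    exact this.2
  have hA'add : ∀ a b, A' (a + b) = A' a + A' b := fun a b => by
    have e := congrArg φ₃ (tG_mul h (0 : F) b 0 a)
    rw [map_mul, hA', hA', tG_mul, map_zero, zero_mul, add_zero, add_zero, add_zero, hA'] at e
    exact ((tG_inj h e).2).symm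
  have hA'eq : ∀ (s : Fˣ) b, A' (th m (s : F) * (s : F) ^ 2 * b) =
      th m (μ s : F) * (μ s : F) ^ 2 * A' b := fun s b => by
    have e := congrArg φ₃ (hG_conj_zero h s b)
    rw [map_mul, map_mul, map_inv, hμ₃, hA', hA', hG_conj_zero] at e
    exact ((tG_inj h e).2).symm
  have hA'mul : ∀ a b, A' (a * b) = A' a * A' b := fun a b => by
    rcases eq_or_ne a 0 with rfl | ha
    · rw [zero_mul, hA'0, zero_mul]
    · obtain ⟨s, rfl⟩ := exists_th_sq h ha
      have h1 := hA'eq s 1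
      rw [mul_one, hA'1, mul_one] at h1
      rw [hA'eq, h1]
  let ρ : F →+* F :=
    { toFun := A', map_one' := hA'1, map_mul' := hA'mul, map_zero' := hA'0, map_add' := hA'add }
  let σ : F ≃+* F := RingEquiv.ofBijective ρ ((Finite.injective_iff_bijective).1 ρ.injective)
  set φ₄ := (fieldHom F m σ)⁻¹ * φ₃ with hφ₄
  have hcancel : ∀ g g', φ₃ g = fieldHom F m σ g' → φ₄ g = g' := fun g g' e => by
    show (fieldHom F m σ)⁻¹ (φ₃ g) = g'
    rw [e]
    exact (fieldHom F m σ).symm_apply_apply g'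
  have hz₄ : ∀ b, φ₄ (tG h 0 b) = tG h 0 b := fun b => hcancel _ _ <| by
    rw [hA', fieldHom_tG, map_zero]; rfl
  have hh₄ : ∀ s, φ₄ (hG h s) = hG h s := fun s => hcancel _ _ <| by
    rw [hμ₃, fieldHom_hG]
    congr 1
    refine th_sq_injective h ?_
    have h1 := hA'eq s 1
    rw [mul_one, hA'1, mul_one] at h1
    show th m (μ s : F) * (μ s : F) ^ 2 = th m (σ (s : F)) * (σ (s : F)) ^ 2
    rw [th_comm, ← map_pow, ← map_mul]
    exact h1.symm
  -- fix `U`
  have hu₃ : ∀ u, u ∈ uSub h → φ₃ u ∈ uSub h := fun u hu =>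
    conj_mem_uSub hm hF (hG_mem_bSub h c) (hU₂ u hu)
  have hu₄ : ∀ u, u ∈ uSub h → φ₄ u ∈ uSub h := fun u hu => by
    obtain ⟨a, b, e⟩ := hu₃ u hu
    exact ⟨σ.symm a, σ.symm b, hcancel _ _ (by
      rw [e, fieldHom_tG, σ.apply_symm_apply, σ.apply_symm_apply])⟩
  choose α β hαβ using fun a => hu₄ (tG h a 0) ⟨a, 0, rfl⟩
  have heq : ∀ (s : Fˣ) a, α (th m (s : F) * a) = th m (s : F) * α a ∧
      β (th m (s : F) * a) = th m (s : F) * (s : F) ^ 2 * β a := fun s a => by
    have e := congrArg φ₄ (hG_conj h s a 0)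
    rw [map_mul, map_mul, map_inv, hh₄, hαβ, hG_conj, mul_zero, hαβ] at e
    exact ⟨(tG_inj h e).1.symm, (tG_inj h e).2.symm⟩
  have hth : ∀ a : F, a ≠ 0 → ∃ s : Fˣ, th m (s : F) = a := fun a ha => by
    obtain ⟨s, rfl⟩ := th_surjective h a
    exact ⟨Units.mk0 s (by simpa using ha), rfl⟩
  have hα1 : α 1 = 1 := by
    have e := congrArg φ₄ (tG_sq h (1 : F) 0)
    rw [map_mul, hαβ, tG_sq, map_one, one_mul, hz₄] at e
    have e2 := (tG_inj h e).2
    have h0 : α 1 ≠ 0 := fun e' => by simp [e'] at e2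
    have := th_mul_self_injective h (a₁ := Units.mk0 _ h0) (a₂ := 1) (by simpa using e2)
    exact congrArg Units.val this
  have hα : ∀ a, α a = a := fun a => by
    rcases eq_or_ne a 0 with rfl | ha
    · have := hαβ 0
      rw [tG_zero, map_one, eq_comm, tG_eq_one] at this
      exact this.1
    · obtain ⟨s, rfl⟩ := hth a ha
      have := (heq s 1).1
      rwa [mul_one, hα1, mul_one] at this
  have hβ : ∀ a, β a = a * th m a * β 1 := fun a => by
    rcases eq_or_ne a 0 with rfl | ha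
    · have := hαβ 0
      rw [tG_zero, map_one, eq_comm, tG_eq_one] at this
      rw [this.2, zero_mul, zero_mul]
    · obtain ⟨s, rfl⟩ := hth a ha
      have := (heq s 1).2
      rw [mul_one] at this
      rw [this, h (s : F)]
  have hd : β 1 = 0 := by
    obtain ⟨x, hx0, hx1⟩ := exists_ne_zero_one hm hF
    have e := congrArg φ₄ (tG_mul h x 0 1 0)
    have e0 : tG h (1 + x) (0 + 0 + th m x * 1) = tG h 0 (th m x) * tG h (1 + x) 0 := by
      rw [tG_mul]; simp
    rw [map_mul, hαβ, hαβ, hα, hα, tG_mul, e0, map_mul, hz₄, hαβ, hα, tG_mul] at e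
    have e2 := (tG_inj h e).2
    rw [map_zero, zero_mul, add_zero, hβ x, hβ (1 + x), map_add, map_one] at e2
    have e3 : (x + th m x) * β 1 = 0 := by
      linear_combination -e2
    refine (mul_eq_zero.1 e3).resolve_left fun e4 => ?_
    rcases th_eq_self h (show th m x = x by
      linear_combination e4 - x * (CharTwo.two_eq_zero (R := F))) with h' | h'
    · exact hx0 h'
    · exact hx1 h'
  have htG : ∀ a b, φ₄ (tG h a b) = tG h a b := fun a b => by
    have e : tG h a b = tG h 0 b * tG h a 0 := by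
      rw [tG_mul]; simp
    rw [e, map_mul, hz₄, hαβ, hα, hβ, hd, mul_zero]
  have hBfix : ∀ g, g ∈ bSub F m → φ₄ g = g := fun g hg => by
    obtain ⟨a, b, s, rfl⟩ := exists_of_mem_bSub hm hF hg
    rw [map_mul, htG, hh₄]
  -- the Weyl element
  have hw : φ₄ (wG h) • pInf F = pFin m (0 : F) 0 := by
    rcases mem_ovoid.1 (smul_mem_ovoid (φ₄ (wG h)).2 (mem_ovoid.2 (Or.inl rfl))) with e | ⟨x, y, e⟩
    · exfalso
      have hb : φ₄ (wG h) ∈ bSub F m := e
      have e2 : φ₄ (wG h) = wG h := φ₄.injective (hBfix _ hb)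
      rw [e2] at hb
      exact pFin_ne_inf (m := m) (0 : F) 0 (wSL_smul_inf.symm.trans hb)
    · have hfix := conj_smul_fix (k := φ₄ (wG h))
        (show hG h t₀ • pInf F = pInf F from hSL_smul_inf t₀)
      have e' : φ₄ (wG h) • pInf F = pFin m x y := e
      have e3 : φ₄ (wG h) * hG h t₀ * (φ₄ (wG h))⁻¹ = hG h t₀⁻¹ := by
        rw [← hh₄ t₀, ← map_inv φ₄, ← map_mul, ← map_mul, hG_w, hh₄]
      rw [e', e3] at hfix
      obtain ⟨rfl, rfl⟩ := (hG_fix_iff h (inv_ne_one.2 ht₀)).1 hfix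
      exact e'
  have hinf : ∀ g : Cfsg.Sz F m, φ₄ g • pInf F = g • pInf F := fun g => by
    rcases mem_ovoid.1 (smul_mem_ovoid g.2 (mem_ovoid.2 (Or.inl rfl))) with e | ⟨x, y, e⟩
    · rw [hBfix g e]
    · have hw0 : (tG h x y * wG h) • pInf F = pFin m x y := by
        rw [mul_smul, show wG h • pInf F = pFin m (0 : F) 0 from wSL_smul_inf, tG_smul]
        simp
      obtain ⟨b, hb, hgb⟩ : ∃ b ∈ bSub F m, g = tG h x y * wG h * b := by
        refine ⟨(tG h x y * wG h)⁻¹ * g, ?_, (mul_inv_cancel_left _ _).symm⟩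
        show ((tG h x y * wG h)⁻¹ * g) • pInf F = pInf F
        rw [mul_smul, inv_smul_eq_iff, hw0]
        exact e
      have hbi : b • pInf F = pInf F := hb
      rw [hgb, map_mul, map_mul, htG, hBfix b hb, mul_smul, mul_smul, hbi, hw]
      rw [mul_smul, mul_smul, hbi, show wG h • pInf F = pFin m (0 : F) 0 from wSL_smul_inf]
  have hid : φ₄ = 1 := by
    apply MulEquiv.ext
    intro g
    have := faithful (F := F) hm hF
    refine FaithfulSMul.eq_of_smul_eq_smul (α := ↥(suzukiOvoid F m)) fun p => Subtype.ext ?_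
    show φ₄ g • (p : Projectivization F (Fin 4 → F)) = g • (p : Projectivization F (Fin 4 → F))
    obtain ⟨k, hk⟩ : (p : Projectivization F (Fin 4 → F)) ∈
        MulAction.orbit (Cfsg.Sz F m) (pInf F) := by rw [orbit_pInf hF]; exact p.2
    have hk' : k • pInf F = (p : Projectivization F (Fin 4 → F)) := hk
    rw [← hk', ← hinf k, ← mul_smul, ← map_mul, hinf, mul_smul]
    rw [hinf k]
  refine ⟨k₁ * k₂⁻¹ * (hG h c)⁻¹, σ, ?_⟩
  rw [hφ₄, inv_mul_eq_one, hφ₃, hφ₂, hφ₁] at hid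
  rw [map_mul, map_mul, map_inv, map_inv, hid]
  group

theorem field_eq_one_of_conj (hm : 1 ≤ m) (hF : Fintype.card F = 2 ^ (2 * m + 1))
    {g : Cfsg.Sz F m} {σ : F ≃+* F} (e : MulAut.conj g = fieldHom F m σ) : σ = 1 := by
  set h := thSq_of_card hF
  have key : ∀ x, g * x * g⁻¹ = fieldHom F m σ x := fun x => DFunLike.congr_fun e x
  have hu : tG h (1 : F) 0 ≠ 1 := fun e' => one_ne_zero ((tG_eq_one h).1 e').1
  have hgB : g ∈ bSub F m := by
    refine mem_bSub_of_conj (h := h) ⟨1, 0, rfl⟩ hu ?_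
    rw [key, fieldHom_tG]
    exact tG_mem_bSub h _ _
  obtain ⟨s, hs⟩ := exists_unit_ne_one hm hF
  have hs' : Units.map (σ : F →* F) s ≠ 1 := fun e' =>
    hs (Units.map_injective σ.injective (e'.trans (map_one _).symm))
  have hfix := conj_smul_fix (k := g) (show hG h s • pFin m (0 : F) 0 = pFin m 0 0 from
    (hG_fix_iff h hs).2 ⟨rfl, rfl⟩)
  rw [key, fieldHom_hG] at hfix
  have hg0 : g • pFin m (0 : F) 0 = pFin m 0 0 := by
    rcases mem_ovoid.1 (smul_mem_ovoid g.2 (mem_ovoid.2 (Or.inr ⟨0, 0, rfl⟩))) with e' | ⟨x, y, e'⟩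
    · exact absurd (MulAction.injective g.1 (e'.trans (show g.1 • pInf F = pInf F from hgB).symm))
        (pFin_ne_inf 0 0)
    · have e'' : g • pFin m (0 : F) 0 = pFin m x y := e'
      rw [e''] at hfix
      obtain ⟨rfl, rfl⟩ := (hG_fix_iff h hs').1 hfix
      exact e''
  obtain ⟨t, ht⟩ := stab_two hm hF g.2 hgB hg0
  obtain rfl : g = hG h t := Subtype.ext ht
  have hw := key (wG h)
  rw [fieldHom_wG, mul_inv_eq_iff_eq_mul] at hw
  have ht1 : t = 1 := by
    have h1 : wG h * hG h t * (wG h)⁻¹ = hG h t := by rw [← hw]; group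
    rw [hG_w] at h1
    have h2 := hG_injective h h1
    have h3 : (t : F) ^ 2 = 1 := by
      rw [sq]; exact congrArg Units.val (inv_eq_iff_mul_eq_one.1 h2)
    refine Units.ext ?_
    rcases mul_eq_zero.1 (show ((t : F) - 1) * ((t : F) - 1) = 0 by
      linear_combination h3 + (1 - (t : F)) * (CharTwo.two_eq_zero (R := F))) with h' | h' <;>
      exact sub_eq_zero.1 h'
  apply RingEquiv.ext
  intro x
  have h1 := key (tG h 0 x)
  rw [ht1, map_one, one_mul, inv_one, mul_one, fieldHom_tG] at h1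
  exact ((tG_inj h h1).2).symm

/-- The outer automorphism group has the order of the Galois group. -/
theorem card_out_sz (hm : 1 ≤ m) (hF : Fintype.card F = 2 ^ (2 * m + 1)) :
    Nat.card (Cfsg.Out (Cfsg.Sz F m)) = Nat.card (F ≃+* F) := by
  refine (Nat.card_eq_of_bijective ((QuotientGroup.mk' (Inn (Cfsg.Sz F m))).comp (fieldHom F m))
    ⟨?_, ?_⟩).symm
  · rw [injective_iff_map_eq_one]
    intro σ hσ
    obtain ⟨g, hg⟩ := (QuotientGroup.eq_one_iff _).1 hσ
    exact field_eq_one_of_conj hm hF hg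
  · intro x
    obtain ⟨φ, rfl⟩ := QuotientGroup.mk_surjective x
    obtain ⟨g, σ, rfl⟩ := exists_conj_mul_field hm hF φ
    refine ⟨σ, ?_⟩
    show QuotientGroup.mk (fieldHom F m σ) = _
    rw [QuotientGroup.eq, ← mul_assoc]
    exact (innNormal _).conj_mem' _ ⟨g, rfl⟩ _

end CfsgLib.Suzuki
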