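import Mathlib

/-!
Matrices of prime order `p` in `GL₄` over a field with `q` elements, `p ∣ q ^ 2 + 1`: the matrices
commuting with one of them form a field with `q ^ 4` elements.
-/

set_option autoImplicit false

namespace CfsgLib.Suzuki.Quartic

open Polynomial Matrix

variable {F : Type*} [Field F] [Fintype F]

theorem natDegree_ge_four {p : ℕ} (hp : p.Prime) (hp2 : p ≠ 2) (hdiv : p ∣ Fintype.card F ^ 2 + 1)
    {g : F[X]} (hg : Irreducible g) (hdvd : g ∣ X ^ p - 1) (hne : ¬ g ∣ X - 1) :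
    4 ≤ g.natDegree := by
  classical
  have : Fact (Irreducible g) := ⟨hg⟩
  have : Fact p.Prime := ⟨hp⟩
  set q := Fintype.card F
  let pb := AdjoinRoot.powerBasis hg.ne_zero
  have : Module.Finite F (AdjoinRoot g) := pb.finite
  have : Finite (AdjoinRoot g) := Module.finite_of_finite F
  have hcard : Nat.card (AdjoinRoot g) = q ^ g.natDegree := by
    rw [Module.natCard_eq_pow_finrank (K := F), pb.finrank, AdjoinRoot.powerBasis_dim,
      Nat.card_eq_fintype_card]
  let α : AdjoinRoot g := AdjoinRoot.root g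
  have hαp : α ^ p = 1 := by
    have h := AdjoinRoot.mk_eq_zero.2 hdvd
    rwa [map_sub, map_pow, AdjoinRoot.mk_X, map_one, sub_eq_zero] at h
  have hα1 : α ≠ 1 := fun h => hne <| AdjoinRoot.mk_eq_zero.1 <| by
    rw [map_sub, AdjoinRoot.mk_X, map_one, sub_eq_zero]; exact h
  have hα0 : α ≠ 0 := fun h => by simp [h, hp.ne_zero, zero_pow] at hαp
  have hord : orderOf α = p := orderOf_eq_prime hαp hα1
  have hd : 0 < g.natDegree := hg.natDegree_pos
  by_contra hlt
  have hdiv' : p ∣ q ^ g.natDegree - 1 := by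
    have : Fintype (AdjoinRoot g) := Fintype.ofFinite _
    rw [← hord, ← hcard, Nat.card_eq_fintype_card]
    exact orderOf_dvd_of_pow_eq_one (FiniteField.pow_card_sub_one_eq_one α hα0)
  have e1 : (q : ZMod p) ^ 2 + 1 = 0 := by
    have := (ZMod.natCast_eq_zero_iff (q ^ 2 + 1) p).2 hdiv
    push_cast at this
    exact this
  have e2 : (q : ZMod p) ^ g.natDegree - 1 = 0 := by
    have := (ZMod.natCast_eq_zero_iff (q ^ g.natDegree - 1) p).2 hdiv'
    rw [Nat.cast_sub (Nat.one_le_pow _ _ Fintype.card_pos)] at this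
    push_cast at this
    exact this
  have h2 : (2 : ZMod p) ≠ 0 := by
    intro h
    have : ((2 : ℕ) : ZMod p) = 0 := by exact_mod_cast h
    rw [ZMod.natCast_eq_zero_iff] at this
    exact hp2 ((Nat.prime_dvd_prime_iff_eq hp Nat.prime_two).1 this)
  obtain h | h | h : g.natDegree = 1 ∨ g.natDegree = 2 ∨ g.natDegree = 3 := by omega
  · rw [h] at e2
    exact h2 (by linear_combination e1 - ((q : ZMod p) + 1) * e2)
  · rw [h] at e2
    exact h2 (by linear_combination e1 - e2)
  · rw [h] at e2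
    exact h2 (by linear_combination (1 - ((q : ZMod p) - 1) * (q : ZMod p)) * e1 +
      ((q : ZMod p) - 1) * e2)

variable {p : ℕ} {A : Matrix (Fin 4) (Fin 4) F}

theorem irreducible_minpoly (hp : p.Prime) (hp2 : p ≠ 2) (hdiv : p ∣ Fintype.card F ^ 2 + 1)
    (hA : A ^ p = 1) (hA1 : A ≠ 1) :
    Irreducible (minpoly F A) ∧ (minpoly F A).natDegree = 4 := by
  have hint : IsIntegral F A := Matrix.isIntegral A
  have hmon := minpoly.monic hint
  have hle : (minpoly F A).natDegree ≤ 4 := by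
    have := natDegree_le_of_dvd (Matrix.minpoly_dvd_charpoly A) (Matrix.charpoly_monic A).ne_zero
    rwa [Matrix.charpoly_natDegree_eq_dim, Fintype.card_fin] at this
  have hdvd : minpoly F A ∣ X ^ p - 1 := minpoly.dvd F A (by simp [hA])
  have hq : (p : F) ≠ 0 := by
    obtain ⟨r, hr⟩ := CharP.exists F
    obtain ⟨n, hr', hn⟩ := FiniteField.card F r
    rw [Ne, CharP.cast_eq_zero_iff F r]
    intro h
    have hrp : r = p := (Nat.prime_dvd_prime_iff_eq hr' hp).1 h
    have h3 : p ∣ Fintype.card F ^ 2 := dvd_pow (hn ▸ hrp ▸ dvd_pow_self r n.pos.ne') two_ne_zero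
    exact hp.not_dvd_one ((Nat.dvd_add_right h3).1 hdiv)
  have hsep : (X ^ p - 1 : F[X]).Separable := (X_pow_sub_one_separable_iff).2 hq
  obtain ⟨g, hg, hgd, hgne⟩ : ∃ g, Irreducible g ∧ g ∣ minpoly F A ∧ ¬ g ∣ X - 1 := by
    have h1 : Irreducible (X - 1 : F[X]) := by simpa using irreducible_X_sub_C (1 : F)
    by_cases hX : (X - 1 : F[X]) ∣ minpoly F A
    · obtain ⟨c, hc⟩ := hX
      have hcu : ¬ IsUnit c := fun hu => hA1 <| by
        have h0 := minpoly.aeval F A
        obtain ⟨u, rfl⟩ := hu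
        have hu' : minpoly F A * (↑u⁻¹ : F[X]) = X - 1 := by
          rw [hc, mul_assoc, Units.mul_inv, mul_one]
        have h' : aeval A (X - 1 : F[X]) = 0 := by rw [← hu', map_mul, h0, zero_mul]
        simpa [sub_eq_zero] using h'
      have hc0 : c ≠ 0 := fun h => minpoly.ne_zero hint (by rw [hc, h, mul_zero])
      obtain ⟨g, hg, hgc⟩ := WfDvdMonoid.exists_irreducible_factor hcu hc0
      refine ⟨g, hg, hc ▸ dvd_mul_of_dvd_right hgc _, fun h => ?_⟩
      have has : Associated g (X - 1) := hg.associated_of_dvd h1 h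
      have hsq : (X - 1 : F[X]) * (X - 1) ∣ X ^ p - 1 :=
        (mul_dvd_mul_left _ (has.symm.dvd.trans hgc)).trans (hc ▸ hdvd)
      exact h1.not_isUnit (hsep.squarefree _ hsq)
    · obtain ⟨g, hg, hgd⟩ := WfDvdMonoid.exists_irreducible_factor
        (minpoly.not_isUnit F A) (minpoly.ne_zero hint)
      exact ⟨g, hg, hgd, fun h => hX ((hg.associated_of_dvd h1 h).symm.dvd.trans hgd)⟩
  have h4 := natDegree_ge_four hp hp2 hdiv hg (hgd.trans hdvd) hgne
  have h5 := natDegree_le_of_dvd hgd (minpoly.ne_zero hint)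
  have has : Associated g (minpoly F A) :=
    associated_of_dvd_of_natDegree_le hgd (minpoly.ne_zero hint) (by omega)
  exact ⟨has.irreducible hg, by omega⟩

omit [Fintype F] in
theorem commute_aeval {C : Matrix (Fin 4) (Fin 4) F} (h : Commute C A) (g : F[X]) :
    Commute C (aeval A g) := by
  induction g using Polynomial.induction_on' with
  | add a b ha hb => rw [map_add]; exact ha.add_right hb
  | monomial n r =>
    rw [aeval_monomial]
    exact Commute.mul_right (Algebra.commute_algebraMap_right r C) (h.pow_right n)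

/-- The centraliser of `A` is a field, and the conjugates of `A` inside it are among its roots. -/
theorem exists_field (hp : p.Prime) (hp2 : p ≠ 2) (hdiv : p ∣ Fintype.card F ^ 2 + 1)
    (hA : A ^ p = 1) (hA1 : A ≠ 1) :
    ∃ (f : F[X]) (_ : Fact (Irreducible f)) (φ : AdjoinRoot f →ₐ[F] Matrix (Fin 4) (Fin 4) F),
      f.natDegree = 4 ∧ Function.Injective φ ∧ aeval A f = 0 ∧ ∀ C, Commute C A → ∃ l, φ l = C := by
  obtain ⟨hf, hdeg⟩ := irreducible_minpoly hp hp2 hdiv hA hA1
  have : Fact (Irreducible (minpoly F A)) := ⟨hf⟩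
  let φ : AdjoinRoot (minpoly F A) →ₐ[F] Matrix (Fin 4) (Fin 4) F :=
    Ideal.Quotient.liftₐ _ (aeval A) (by
      intro a ha
      obtain ⟨c, rfl⟩ := Ideal.mem_span_singleton'.1 ha
      rw [map_mul, minpoly.aeval, mul_zero])
  have hφ : ∀ g, φ (AdjoinRoot.mk _ g) = aeval A g := fun g => rfl
  have hinj : Function.Injective φ := φ.toRingHom.injective
  refine ⟨minpoly F A, ‹_›, φ, hdeg, hinj, minpoly.aeval F A, fun C hC => ?_⟩
  let pb := AdjoinRoot.powerBasis hf.ne_zero
  have : Module.Finite F (AdjoinRoot (minpoly F A)) := pb.finite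
  let v : Fin 4 → F := Pi.single 0 1
  let ψ : AdjoinRoot (minpoly F A) →ₗ[F] (Fin 4 → F) :=
    { toFun := fun l => φ l *ᵥ v
      map_add' := fun a b => by rw [map_add, Matrix.add_mulVec]
      map_smul' := fun r a => by rw [map_smul, Matrix.smul_mulVec, RingHom.id_apply] }
  have hψ : Function.Injective ψ := by
    rw [← LinearMap.ker_eq_bot, LinearMap.ker_eq_bot']
    intro l hl
    by_contra hl0
    have : φ l⁻¹ *ᵥ (φ l *ᵥ v) = 0 := by
      rw [show φ l *ᵥ v = 0 from hl, Matrix.mulVec_zero]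
    rw [Matrix.mulVec_mulVec, ← map_mul, inv_mul_cancel₀ hl0, map_one, Matrix.one_mulVec] at this
    exact one_ne_zero (congrFun this 0)
  have hsurj : Function.Surjective ψ :=
    (LinearMap.injective_iff_surjective_of_finrank_eq_finrank (by
      rw [pb.finrank, AdjoinRoot.powerBasis_dim, hdeg, Module.finrank_fin_fun])).1 hψ
  obtain ⟨l, hl⟩ := hsurj (C *ᵥ v)
  refine ⟨l, Matrix.toLin'.injective (LinearMap.ext fun w => ?_)⟩
  obtain ⟨k, rfl⟩ := hsurj w
  have hk : Commute C (φ k) := by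
    obtain ⟨g, rfl⟩ := AdjoinRoot.mk_surjective k
    rw [hφ]
    exact commute_aeval hC g
  show φ l *ᵥ (φ k *ᵥ v) = C *ᵥ (φ k *ᵥ v)
  rw [Matrix.mulVec_mulVec, ← map_mul, mul_comm, map_mul, ← Matrix.mulVec_mulVec,
    show φ l *ᵥ v = C *ᵥ v from hl, Matrix.mulVec_mulVec, Matrix.mulVec_mulVec, hk.eq]

end CfsgLib.Suzuki.Quartic
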