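import Cfsg.Agent.Lib.Suzuki.Sylow
import Cfsg.Agent.Lib.Suzuki.Quartic

/-!
Centralisers in a Suzuki group: every non-identity element is a 2-element with centraliser inside a
conjugate of `U`, or lies in a conjugate of `H`, or has no fixed point on the ovoid and a cyclic
centraliser of order dividing `q ^ 2 + 1`.
-/

set_option autoImplicit false
set_option linter.unusedSectionVars false

namespace CfsgLib.Suzuki

open Matrix Cfsg
open scoped Pointwise LinearAlgebra.Projectivization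

variable {F : Type*} [Field F] [CharP F 2] [Fintype F] {m : ℕ}

/-- The diagonal subgroup. -/
def hSub (h : ThSq F m) : Subgroup (Cfsg.Sz F m) := (hG h).range

theorem mem_hSub {h : ThSq F m} {g : Cfsg.Sz F m} : g ∈ hSub h ↔ ∃ s, hG h s = g := Iff.rfl

theorem card_hSub (h : ThSq F m) : Nat.card (hSub h) = Fintype.card F - 1 := by
  rw [hSub, ← Nat.card_congr (MonoidHom.ofInjective (hG_injective h)).toEquiv, Nat.card_units,
    Nat.card_eq_fintype_card]

/-- No fixed point on the ovoid. -/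
def Free (g : Cfsg.Sz F m) : Prop := ∀ p ∈ suzukiOvoid F m, g • p ≠ p

theorem Free.ne_one {g : Cfsg.Sz F m} (hg : Free g) : g ≠ 1 := fun e =>
  hg (pInf F) (mem_ovoid.2 (Or.inl rfl)) (by rw [e, one_smul])

theorem conj_smul_fix {g k : Cfsg.Sz F m} {p : Projectivization F (Fin 4 → F)} (hp : g • p = p) :
    (k * g * k⁻¹) • (k • p) = k • p := by
  rw [mul_smul, mul_smul, inv_smul_smul, hp]

theorem th_sq_ne_one (h : ThSq F m) {s : Fˣ} (hs : s ≠ 1) : th m (s : F) * (s : F) ^ 2 ≠ 1 := by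
  intro e
  have := congrArg (th m) e
  rw [map_mul, map_pow, h, map_one] at this
  have hsq : (th m (s : F) * (s : F) - 1) * (th m (s : F) * (s : F) - 1) = 0 := by
    linear_combination this + (1 - th m (s : F) * (s : F)) * (CharTwo.two_eq_zero (R := F))
  refine hs (Units.ext ?_)
  rw [Units.val_one]
  rcases mul_eq_zero.1 hsq with h' | h' <;> linear_combination e - (s : F) * h'

theorem th_ne_one {s : Fˣ} (hs : s ≠ 1) : th m (s : F) ≠ 1 := fun e =>
  hs (Units.ext (RingHom.injective (th m) (e.trans (map_one _).symm)))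

theorem hG_fix_iff (h : ThSq F m) {s : Fˣ} (hs : s ≠ 1) {x y : F} :
    hG h s • pFin m x y = pFin m x y ↔ x = 0 ∧ y = 0 := by
  show hSL m s • pFin m x y = pFin m x y ↔ _
  rw [hSL_smul h]
  constructor
  · intro e
    obtain ⟨e1, e2⟩ := pFin_inj e
    refine ⟨(mul_eq_zero.1 (show (th m (s : F) - 1) * x = 0 by linear_combination e1)).resolve_left
        (sub_ne_zero.2 (th_ne_one hs)),
      (mul_eq_zero.1 (show (th m (s : F) * (s : F) ^ 2 - 1) * y = 0 by
        linear_combination e2)).resolve_left (sub_ne_zero.2 (th_sq_ne_one h hs))⟩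
  · rintro ⟨rfl, rfl⟩
    rw [mul_zero, mul_zero]

theorem exists_conj_hG (hm : 1 ≤ m) (hF : Fintype.card F = 2 ^ (2 * m + 1)) {g : Cfsg.Sz F m}
    (hg : g ∈ bSub F m) (hgu : g ∉ uSub (thSq_of_card hF)) :
    ∃ (k : Cfsg.Sz F m) (s : Fˣ), s ≠ 1 ∧ k * g * k⁻¹ = hG (thSq_of_card hF) s := by
  set h := thSq_of_card hF
  obtain ⟨a, b, s, rfl⟩ := exists_of_mem_bSub hm hF hg
  have hs : s ≠ 1 := by
    rintro rfl
    exact hgu ⟨a, b, by rw [map_one, mul_one]⟩
  obtain ⟨x, hx⟩ : ∃ x, th m (s : F) * x + a = x := by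
    refine ⟨a / (1 - th m (s : F)), ?_⟩
    have := sub_ne_zero.2 (th_ne_one (m := m) hs).symm
    field_simp
    ring
  obtain ⟨y, hy⟩ : ∃ y, th m (s : F) * (s : F) ^ 2 * y + b + th m a * (th m (s : F) * x) = y := by
    refine ⟨(b + th m a * (th m (s : F) * x)) / (1 - th m (s : F) * (s : F) ^ 2), ?_⟩
    have := sub_ne_zero.2 (th_sq_ne_one h hs).symm
    field_simp
    ring
  have hfix : (tG h a b * hG h s) • pFin m x y = pFin m x y := by
    show (tSL m a b * hSL m s) • pFin m x y = pFin m x y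
    rw [mul_smul, hSL_smul h, tSL_smul h, hx, hy]
  obtain ⟨k, hk1, hk2⟩ := exists_sz_two_point hF (mem_ovoid.2 (Or.inl rfl))
    (mem_ovoid.2 (Or.inr ⟨x, y, rfl⟩)) (pFin_ne_inf x y).symm
  have f1 := conj_smul_fix (k := k) (show (tG h a b * hG h s) • pInf F = pInf F from hg)
  have f2 := conj_smul_fix (k := k) hfix
  rw [hk1] at f1
  rw [hk2] at f2
  obtain ⟨t, ht⟩ := stab_two hm hF (k * (tG h a b * hG h s) * k⁻¹).2 f1 f2
  refine ⟨k, t, fun e => hs ?_, Subtype.ext ht⟩
  have e2 : k * (tG h a b * hG h s) * k⁻¹ = 1 := by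
    rw [show k * (tG h a b * hG h s) * k⁻¹ = hG h t from Subtype.ext ht, e, map_one]
  have e3 : tG h a b * hG h s = tG h 0 0 * hG h 1 := by
    rw [conj_eq_one_iff.1 e2, tG_zero, map_one, mul_one]
  exact (tSL_mul_hSL_inj h (congrArg Subtype.val e3)).2.2

theorem conj_cases (hm : 1 ≤ m) (hF : Fintype.card F = 2 ^ (2 * m + 1)) (g : Cfsg.Sz F m) :
    Free g ∨ (∃ k, k * g * k⁻¹ ∈ uSub (thSq_of_card hF)) ∨
      ∃ (k : Cfsg.Sz F m) (s : Fˣ), s ≠ 1 ∧ k * g * k⁻¹ = hG (thSq_of_card hF) s := by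
  by_cases hfree : Free g
  · exact Or.inl hfree
  right
  simp only [Free, not_forall, not_not] at hfree
  obtain ⟨p, hp, hgp⟩ := hfree
  obtain ⟨k₀, hk₀⟩ : ∃ k₀ : Cfsg.Sz F m, k₀ • p = pInf F := by
    have hp' : p ∈ MulAction.orbit (Cfsg.Sz F m) (pInf F) := by rw [orbit_pInf hF]; exact hp
    obtain ⟨k, rfl⟩ := hp'
    exact ⟨k⁻¹, inv_smul_smul k _⟩
  have hB : k₀ * g * k₀⁻¹ ∈ bSub F m := by
    have := conj_smul_fix (k := k₀) hgp
    rwa [hk₀] at this
  by_cases hu : k₀ * g * k₀⁻¹ ∈ uSub (thSq_of_card hF)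
  · exact Or.inl ⟨k₀, hu⟩
  · obtain ⟨k, s, hs, e⟩ := exists_conj_hG hm hF hB hu
    exact Or.inr ⟨k * k₀, s, hs, by rw [← e]; simp [mul_assoc]⟩

theorem centralizer_hG (hm : 1 ≤ m) (hF : Fintype.card F = 2 ^ (2 * m + 1)) {s : Fˣ} (hs : s ≠ 1) :
    Subgroup.centralizer {hG (thSq_of_card hF) s} = hSub (thSq_of_card hF) := by
  set h := thSq_of_card hF
  ext g
  rw [Subgroup.mem_centralizer_singleton_iff, mem_hSub]
  constructor
  · intro hc
    have f1 : hG h s • (g • pInf F) = g • pInf F := by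
      rw [← mul_smul, ← hc, mul_smul]; exact congrArg _ (hSL_smul_inf s)
    have f0 : hG h s • pFin m (0 : F) 0 = pFin m 0 0 := (hG_fix_iff h hs).2 ⟨rfl, rfl⟩
    have f2 : hG h s • (g • pFin m (0 : F) 0) = g • pFin m 0 0 := by
      rw [← mul_smul, ← hc, mul_smul, f0]
    have key : ∀ p ∈ suzukiOvoid F m, hG h s • p = p → p = pInf F ∨ p = pFin m (0 : F) 0 := by
      intro p hp e
      rcases mem_ovoid.1 hp with rfl | ⟨x, y, rfl⟩
      · exact Or.inl rfl
      · obtain ⟨rfl, rfl⟩ := (hG_fix_iff h hs).1 e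
        exact Or.inr rfl
    have hne : g • pInf F ≠ g • pFin m (0 : F) 0 := fun e =>
      pFin_ne_inf 0 0 (MulAction.injective g e).symm
    rcases key _ (smul_mem_ovoid g.2 (mem_ovoid.2 (Or.inl rfl))) f1 with e1 | e1
    · rcases key _ (smul_mem_ovoid g.2 (mem_ovoid.2 (Or.inr ⟨0, 0, rfl⟩))) f2 with e2 | e2
      · exact absurd (e1.trans e2.symm) hne
      · obtain ⟨t, ht⟩ := stab_two hm hF g.2 e1 e2
        exact ⟨t, Subtype.ext ht.symm⟩
    · rcases key _ (smul_mem_ovoid g.2 (mem_ovoid.2 (Or.inr ⟨0, 0, rfl⟩))) f2 with e2 | e2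
      · exfalso
        obtain ⟨t, ht⟩ : ∃ t, wG h * g = hG h t := by
          obtain ⟨t, ht⟩ := stab_two hm hF (wG h * g).2
            (by show (wSL F * g.1) • pInf F = _; rw [mul_smul, e1, wSL_smul_zero])
            (by show (wSL F * g.1) • pFin m (0 : F) 0 = _; rw [mul_smul, e2, wSL_smul_inf])
          exact ⟨t, Subtype.ext ht⟩
        have hw : (wG h)⁻¹ = wG h := inv_eq_of_mul_eq_one_right (wG_sq h)
        have hgt : g = wG h * hG h t := by
          rw [← ht, ← mul_assoc, wG_sq, one_mul]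
        rw [hgt, mul_assoc, ← map_mul, ← mul_assoc (hG h s),
          show hG h s * wG h = wG h * hG h s⁻¹ by
            rw [← hG_w h s, hw, ← mul_assoc, ← mul_assoc, wG_sq, one_mul],
          mul_assoc, ← map_mul] at hc
        have e := hG_injective h (mul_left_cancel hc)
        rw [mul_comm t s, mul_left_inj] at e
        have e' : (s : F) ^ 2 = 1 := by
          have : s * s = 1 := by nth_rewrite 2 [e]; exact mul_inv_cancel s
          rw [sq]; exact congrArg Units.val this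
        refine hs (Units.ext ?_)
        rcases mul_eq_zero.1 (show ((s : F) - 1) * ((s : F) - 1) = 0 by
          linear_combination e' + (1 - (s : F)) * (CharTwo.two_eq_zero (R := F))) with h' | h' <;>
          exact sub_eq_zero.1 h'
      · exact absurd (e1.trans e2.symm) hne
  · rintro ⟨t, rfl⟩
    rw [← map_mul, ← map_mul, mul_comm]

theorem centralizer_le_uSub (hm : 1 ≤ m) (hF : Fintype.card F = 2 ^ (2 * m + 1))
    {u : Cfsg.Sz F m} (hu : u ∈ uSub (thSq_of_card hF)) (hu1 : u ≠ 1) :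
    Subgroup.centralizer {u} ≤ uSub (thSq_of_card hF) := by
  set h := thSq_of_card hF
  intro g hg
  rw [Subgroup.mem_centralizer_singleton_iff] at hg
  have hB : g ∈ bSub F m := by
    refine mem_bSub_of_conj hu hu1 ?_
    rw [hg, mul_inv_cancel_right]
    exact uSub_le_bSub h hu
  by_contra hgu
  obtain ⟨k, s, hs, e⟩ := exists_conj_hG hm hF hB hgu
  have hc : k * u * k⁻¹ ∈ Subgroup.centralizer {hG h s} := by
    rw [Subgroup.mem_centralizer_singleton_iff, ← e]
    simp only [mul_assoc, inv_mul_cancel_left]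
    rw [← mul_assoc u g, ← hg, mul_assoc]
  rw [centralizer_hG hm hF hs] at hc
  obtain ⟨t, ht⟩ := hc
  have ht1 : t ≠ 1 := by
    rintro rfl
    rw [map_one] at ht
    exact hu1 (conj_eq_one_iff.1 ht.symm)
  have f1 := conj_smul_fix (k := k⁻¹) (show hG h t • pInf F = pInf F from hSL_smul_inf t)
  have f2 := conj_smul_fix (k := k⁻¹)
    (show hG h t • pFin m (0 : F) 0 = pFin m 0 0 from (hG_fix_iff h ht1).2 ⟨rfl, rfl⟩)
  have ek : k⁻¹ * hG h t * k⁻¹⁻¹ = u := by rw [ht]; simp [mul_assoc]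
  rw [ek] at f1 f2
  have key : ∀ p ∈ suzukiOvoid F m, u • p = p → p = pInf F := by
    intro p hp e'
    rcases mem_ovoid.1 hp with rfl | ⟨x, y, rfl⟩
    · rfl
    · exact absurd (eq_one_of_mem_uSub_of_fix hu e') hu1
  exact pFin_ne_inf (m := m) (0 : F) 0 (MulAction.injective k⁻¹
    ((key _ (smul_mem_ovoid (k⁻¹).2 (mem_ovoid.2 (Or.inl rfl))) f1).trans
      (key _ (smul_mem_ovoid (k⁻¹).2 (mem_ovoid.2 (Or.inr ⟨0, 0, rfl⟩))) f2).symm)).symm

theorem Free.conj {g : Cfsg.Sz F m} (hg : Free g) (k : Cfsg.Sz F m) : Free (k * g * k⁻¹) := by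
  intro p hp e
  refine hg (k⁻¹ • p) (smul_mem_ovoid (k⁻¹).2 hp) ?_
  rw [mul_smul, mul_smul] at e
  exact (inv_smul_eq_iff.2 e.symm).symm

theorem Free.of_conj {g k : Cfsg.Sz F m} (hg : Free (k * g * k⁻¹)) : Free g := by
  simpa [mul_assoc] using hg.conj k⁻¹

theorem not_free_of_mem_bSub {g : Cfsg.Sz F m} (hg : g ∈ bSub F m) : ¬ Free g := fun hf =>
  hf (pInf F) (mem_ovoid.2 (Or.inl rfl)) hg

theorem Free.of_commute (hm : 1 ≤ m) (hF : Fintype.card F = 2 ^ (2 * m + 1)) {g y : Cfsg.Sz F m}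
    (hg : Free g) (hc : g * y = y * g) (hy : y ≠ 1) : Free y := by
  set h := thSq_of_card hF
  rcases conj_cases hm hF y with h1 | ⟨k, hk⟩ | ⟨k, s, hs, hk⟩
  · exact h1
  · have hmem : k * g * k⁻¹ ∈ Subgroup.centralizer {k * y * k⁻¹} := by
      rw [Subgroup.mem_centralizer_singleton_iff]
      simp only [mul_assoc, inv_mul_cancel_left]
      rw [← mul_assoc g, hc, mul_assoc]
    exact absurd (hg.conj k) (not_free_of_mem_bSub (uSub_le_bSub h
      (centralizer_le_uSub hm hF hk (fun e => hy (conj_eq_one_iff.1 e)) hmem)))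
  · have hmem : k * g * k⁻¹ ∈ Subgroup.centralizer {k * y * k⁻¹} := by
      rw [Subgroup.mem_centralizer_singleton_iff]
      simp only [mul_assoc, inv_mul_cancel_left]
      rw [← mul_assoc g, hc, mul_assoc]
    rw [hk, centralizer_hG hm hF hs] at hmem
    obtain ⟨t, ht⟩ := hmem
    exact absurd (hg.conj k) (not_free_of_mem_bSub (ht ▸ hG_mem_bSub h t))

theorem odd_card_ovoid (hF : Fintype.card F = 2 ^ (2 * m + 1)) :
    ¬ 2 ∣ Fintype.card F ^ 2 + 1 := fun h => by
  have : 2 ∣ Fintype.card F ^ 2 := dvd_pow (hF ▸ dvd_pow_self 2 (by omega)) two_ne_zero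
  omega

theorem Free.prime_dvd {g : Cfsg.Sz F m} (hg : Free g) {p : ℕ} (hp : p.Prime)
    (hord : orderOf g = p) : p ∣ Fintype.card F ^ 2 + 1 := by
  classical
  have : Fact p.Prime := ⟨hp⟩
  have : Fintype ↥(suzukiOvoid F m) := Fintype.ofFinite _
  by_contra hnd
  let f : Equiv.Perm ↥(suzukiOvoid F m) := MulAction.toPermHom (Cfsg.Sz F m) _ g
  have hf : f ^ p ^ 1 = 1 := by
    rw [pow_one, ← map_pow, ← hord, pow_orderOf_eq_one, map_one]
  have hcard : ¬ p ∣ Fintype.card ↥(suzukiOvoid F m) := by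
    rwa [← Nat.card_eq_fintype_card, Nat.card_coe_set_eq, card_ovoid, Nat.card_eq_fintype_card]
  obtain ⟨x, hx⟩ := Equiv.Perm.exists_fixed_point_of_prime hcard hf
  exact hg x.1 x.2 (congrArg Subtype.val hx)

/-- The underlying matrix. -/
def mat (g : Cfsg.Sz F m) : Matrix (Fin 4) (Fin 4) F := g.1.1

theorem mat_mul (g k : Cfsg.Sz F m) : mat (g * k) = mat g * mat k := rfl

theorem mat_one : mat (1 : Cfsg.Sz F m) = 1 := rfl

theorem mat_injective : Function.Injective (mat : Cfsg.Sz F m → Matrix (Fin 4) (Fin 4) F) :=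
  fun _ _ e => Subtype.ext (Subtype.ext e)

theorem mat_pow (g : Cfsg.Sz F m) (n : ℕ) : mat (g ^ n) = mat g ^ n := by
  induction n with
  | zero => rw [pow_zero, pow_zero, mat_one]
  | succ n ih => rw [pow_succ, pow_succ, mat_mul, ih]

theorem conj_eq_of_mem (x : Cfsg.Sz F m) {c : Cfsg.Sz F m} (hc : c ∈ Subgroup.centralizer {x}) :
    Commute (mat c) (mat x) := by
  rw [Subgroup.mem_centralizer_singleton_iff] at hc
  show mat c * mat x = mat x * mat c
  rw [← mat_mul, ← mat_mul, hc]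

/-- Elements of prime order without fixed points have cyclic centralisers, of small index in
their normalisers. -/
theorem cyclic_and_index_le (hF : Fintype.card F = 2 ^ (2 * m + 1)) {x : Cfsg.Sz F m}
    (hx : Free x) {p : ℕ} (hp : p.Prime) (hord : orderOf x = p) :
    IsCyclic (Subgroup.centralizer {x}) ∧
      ((Subgroup.centralizer {x}).subgroupOf
        (Subgroup.normalizer (Subgroup.centralizer {x} : Set (Cfsg.Sz F m)))).index ≤ 4 := by
  classical
  set C := Subgroup.centralizer {x}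
  have hdiv := hx.prime_dvd hp hord
  have hp2 : p ≠ 2 := fun e => odd_card_ovoid hF (e ▸ hdiv)
  have hA : mat x ^ p = 1 := by rw [← mat_pow, ← hord, pow_orderOf_eq_one, mat_one]
  have hA1 : mat x ≠ 1 := fun e => hx.ne_one (mat_injective (e.trans mat_one.symm))
  obtain ⟨f, hfirr, φ, hdeg, hφ, hf0, hrange⟩ := Quartic.exists_field hp hp2 hdiv hA hA1
  constructor
  · let ψ : C →* AdjoinRoot f :=
      { toFun := fun c => (hrange (mat c.1) (conj_eq_of_mem x c.2)).choose
        map_one' := hφ (by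
          rw [(hrange (mat (1 : C).1) (conj_eq_of_mem x (1 : C).2)).choose_spec, map_one]; rfl)
        map_mul' := fun a b => hφ (by
          rw [(hrange (mat (a * b).1) (conj_eq_of_mem x (a * b).2)).choose_spec, map_mul,
            (hrange (mat a.1) (conj_eq_of_mem x a.2)).choose_spec,
            (hrange (mat b.1) (conj_eq_of_mem x b.2)).choose_spec]
          rfl) }
    refine isCyclic_of_subgroup_isDomain ψ fun a b e => Subtype.ext (mat_injective ?_)
    have := congrArg φ e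
    exact ((hrange (mat a.1) (conj_eq_of_mem x a.2)).choose_spec.symm.trans this).trans
      (hrange (mat b.1) (conj_eq_of_mem x b.2)).choose_spec
  · set N := Subgroup.normalizer (C : Set (Cfsg.Sz F m))
    have hxC : x ∈ C := Subgroup.mem_centralizer_singleton_iff.2 rfl
    have hmem : ∀ n : N, ∃ l, φ l = mat (n.1 * x * n.1⁻¹) := fun n =>
      hrange _ (conj_eq_of_mem x ((Subgroup.mem_normalizer_iff.1 n.2 x).1 hxC))
    let R := ((f.map (algebraMap F (AdjoinRoot f))).roots).toFinset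
    have hne : f.map (algebraMap F (AdjoinRoot f)) ≠ 0 :=
      (Polynomial.map_ne_zero_iff (algebraMap F (AdjoinRoot f)).injective).2 hfirr.out.ne_zero
    have hroot : ∀ n : N, (hmem n).choose ∈ R := by
      intro n
      rw [Multiset.mem_toFinset, Polynomial.mem_roots hne, Polynomial.IsRoot.def,
        Polynomial.eval_map, ← Polynomial.aeval_def]
      apply hφ
      rw [map_zero, ← Polynomial.aeval_algHom_apply, (hmem n).choose_spec, mat_mul, mat_mul]
      have hinv : mat n.1⁻¹ * mat n.1 = 1 := by rw [← mat_mul, inv_mul_cancel, mat_one]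
      have hconj : ∀ g : Polynomial F, Polynomial.aeval (mat n.1 * mat x * mat n.1⁻¹) g =
          mat n.1 * Polynomial.aeval (mat x) g * mat n.1⁻¹ := by
        intro g
        let u : (Matrix (Fin 4) (Fin 4) F)ˣ := ⟨mat n.1, mat n.1⁻¹, by
          rw [← mat_mul, mul_inv_cancel, mat_one], hinv⟩
        induction g using Polynomial.induction_on' with
        | add a b ha hb => rw [map_add, map_add, ha, hb, mul_add, add_mul]
        | monomial k r =>
          rw [Polynomial.aeval_monomial, Polynomial.aeval_monomial]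
          rw [show (mat n.1 * mat x * mat n.1⁻¹) ^ k = mat n.1 * mat x ^ k * mat n.1⁻¹ from
            Units.conj_pow u _ k, ← mul_assoc, ← mul_assoc, Algebra.commutes r (mat n.1),
            mul_assoc (mat n.1)]
      rw [hconj, hf0, mul_zero, zero_mul]
    let r : N ⧸ C.subgroupOf N → R := fun c => ⟨(hmem c.out).choose, hroot c.out⟩
    have hr : Function.Injective r := by
      intro c d e
      have e1 : mat (c.out.1 * x * c.out.1⁻¹) = mat (d.out.1 * x * d.out.1⁻¹) := by
        rw [← (hmem c.out).choose_spec, ← (hmem d.out).choose_spec]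
        exact congrArg φ (congrArg Subtype.val e)
      have e2 := mat_injective e1
      rw [← c.out_eq', ← d.out_eq']
      refine QuotientGroup.eq.2 ?_
      rw [Subgroup.mem_subgroupOf, Subgroup.mem_centralizer_singleton_iff, Subgroup.coe_mul,
        Subgroup.coe_inv]
      calc c.out.1⁻¹ * d.out.1 * x = c.out.1⁻¹ * (d.out.1 * x * d.out.1⁻¹) * d.out.1 := by group
        _ = c.out.1⁻¹ * (c.out.1 * x * c.out.1⁻¹) * d.out.1 := by rw [e2]
        _ = x * (c.out.1⁻¹ * d.out.1) := by group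
    rw [Subgroup.index]
    refine (Nat.card_le_card_of_injective r hr).trans ?_
    rw [Nat.card_eq_fintype_card, Fintype.card_coe]
    refine (Multiset.toFinset_card_le _).trans ((Polynomial.card_roots' _).trans ?_)
    rw [Polynomial.natDegree_map, hdeg]

/-- A maximal torus without fixed points. -/
def IsTorus (A : Subgroup (Cfsg.Sz F m)) : Prop :=
  ∃ x : Cfsg.Sz F m, Free x ∧ (orderOf x).Prime ∧ A = Subgroup.centralizer {x}

theorem exists_prime_pow {G : Type*} [Group G] [Finite G] {g : G} (hg : g ≠ 1) :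
    ∃ n : ℕ, (orderOf (g ^ n)).Prime ∧ g ^ n ≠ 1 := by
  obtain ⟨p, hp, hpd⟩ := Nat.exists_prime_and_dvd (fun h => hg (orderOf_eq_one_iff.1 h))
  refine ⟨orderOf g / p, ?_⟩
  have : orderOf (g ^ (orderOf g / p)) = p := orderOf_pow_orderOf_div (orderOf_pos g).ne' hpd
  refine ⟨this.symm ▸ hp, fun e => hp.one_lt.ne' ?_⟩
  rw [← this, e, orderOf_one]

theorem IsTorus.isCyclic (hF : Fintype.card F = 2 ^ (2 * m + 1))
    {A : Subgroup (Cfsg.Sz F m)} (hA : IsTorus A) : IsCyclic A := by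
  obtain ⟨x, hx, hp, rfl⟩ := hA
  exact (cyclic_and_index_le hF hx hp rfl).1

theorem IsTorus.free (hm : 1 ≤ m) (hF : Fintype.card F = 2 ^ (2 * m + 1))
    {A : Subgroup (Cfsg.Sz F m)} (hA : IsTorus A) {y : Cfsg.Sz F m} (hy : y ∈ A) (hy1 : y ≠ 1) :
    Free y := by
  obtain ⟨x, hx, hp, rfl⟩ := hA
  exact hx.of_commute hm hF (Subgroup.mem_centralizer_singleton_iff.1 hy).symm hy1

theorem IsTorus.centralizer_eq (hm : 1 ≤ m) (hF : Fintype.card F = 2 ^ (2 * m + 1))
    {A : Subgroup (Cfsg.Sz F m)} (hA : IsTorus A) {y : Cfsg.Sz F m} (hy : y ∈ A) (hy1 : y ≠ 1) :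
    Subgroup.centralizer {y} = A := by
  have hAcyc := hA.isCyclic hF
  obtain ⟨x, hx, hp, rfl⟩ := hA
  have hyfree := hx.of_commute hm hF (Subgroup.mem_centralizer_singleton_iff.1 hy).symm hy1
  obtain ⟨n, hn, hn1⟩ := exists_prime_pow hy1
  have hzfree : Free (y ^ n) :=
    hyfree.of_commute hm hF ((Commute.refl y).pow_right n).eq hn1
  have hcyc := (cyclic_and_index_le hF hzfree hn rfl).1
  have hsub : ∀ g, g * y = y * g → g ∈ Subgroup.centralizer {y ^ n} := fun g hg =>
    Subgroup.mem_centralizer_singleton_iff.2 ((show Commute g y from hg).pow_right n).eq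
  refine le_antisymm (fun g hg => ?_) (fun g hg => ?_)
  · have hgz := hsub g (Subgroup.mem_centralizer_singleton_iff.1 hg)
    have hxz := hsub x (Subgroup.mem_centralizer_singleton_iff.1 hy).symm
    exact Subgroup.mem_centralizer_singleton_iff.2
      (congrArg Subtype.val (hcyc.commGroup.mul_comm ⟨g, hgz⟩ ⟨x, hxz⟩))
  · exact Subgroup.mem_centralizer_singleton_iff.2
      (congrArg Subtype.val (hAcyc.commGroup.mul_comm ⟨g, hg⟩ ⟨y, hy⟩))

theorem Free.isTorus (hm : 1 ≤ m) (hF : Fintype.card F = 2 ^ (2 * m + 1)) {g : Cfsg.Sz F m}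
    (hg : Free g) : IsTorus (Subgroup.centralizer {g}) := by
  obtain ⟨n, hn, hn1⟩ := exists_prime_pow hg.ne_one
  have hzfree : Free (g ^ n) := hg.of_commute hm hF ((Commute.refl g).pow_right n).eq hn1
  have hA : IsTorus (Subgroup.centralizer {g ^ n}) := ⟨_, hzfree, hn, rfl⟩
  rw [hA.centralizer_eq hm hF (y := g) (Subgroup.mem_centralizer_singleton_iff.2
    ((Commute.refl g).pow_right n).eq) hg.ne_one]
  exact hA

theorem Free.prime_dvd_card (hm : 1 ≤ m) (hF : Fintype.card F = 2 ^ (2 * m + 1))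
    {A : Subgroup (Cfsg.Sz F m)} (hA : IsTorus A) {p : ℕ} (hp : p.Prime)
    (hd : p ∣ Nat.card A) : p ∣ Fintype.card F ^ 2 + 1 := by
  have : Fact p.Prime := ⟨hp⟩
  obtain ⟨y, hy⟩ := exists_prime_orderOf_dvd_card' p hd
  have hy1 : y.1 ≠ 1 := fun e => hp.one_lt.ne' (by
    rw [← hy, show y = 1 from Subtype.ext e, orderOf_one])
  exact (hA.free hm hF y.2 hy1).prime_dvd hp (by rw [Subgroup.orderOf_coe, hy])

end CfsgLib.Suzuki
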