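import Cfsg.Agent.Lib.Suzuki.Basic

/-!
The stabiliser of the Suzuki-Tits ovoid: double transitivity, the stabilisers of one and two points,
and the order `q ^ 2 * (q - 1) * (q ^ 2 + 1)`.
-/

set_option autoImplicit false

namespace CfsgLib.Suzuki

open Matrix Cfsg
open scoped Pointwise LinearAlgebra.Projectivization

variable {F : Type*} [Field F] [CharP F 2] {m : ℕ}

/-- The point at infinity. -/
def pInf (F : Type*) [Field F] : Projectivization F (Fin 4 → F) :=
  Projectivization.mk F (infV F) infV_ne_zero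

/-- The finite points. -/
def pFin (m : ℕ) (x y : F) : Projectivization F (Fin 4 → F) :=
  Projectivization.mk F (pv m x y) (pv_ne_zero x y)

omit [CharP F 2] in
theorem pInf_eq : pInf F = suzukiPointInfinity F := rfl

theorem pFin_zero : pFin m (0 : F) 0 = suzukiPointZero F := by
  simp [pFin, suzukiPointZero, pv, ovF]

omit [CharP F 2] in
theorem smul_mk' (g : Matrix.SpecialLinearGroup (Fin 4) F) {v : Fin 4 → F} (hv : v ≠ 0)
    {w : Fin 4 → F} (hw : w ≠ 0) {c : F} (h : g.1 *ᵥ v = c • w) :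
    g • Projectivization.mk F v hv = Projectivization.mk F w hw := by
  rw [Projectivization.smul_mk, Projectivization.mk_eq_mk_iff']
  exact ⟨c, by rw [Matrix.SpecialLinearGroup.smul_def]; exact h.symm⟩

theorem tSL_smul_inf (a b : F) : tSL m a b • pInf F = pInf F :=
  smul_mk' _ _ _ (c := 1) (by rw [one_smul]; exact tMat_mulVec_inf a b)

theorem tSL_smul (h : ThSq F m) (a b x y : F) :
    tSL m a b • pFin m x y = pFin m (x + a) (y + b + th m a * x) :=
  smul_mk' _ _ _ (c := 1) (by rw [one_smul]; exact tMat_mulVec h a b x y)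

theorem hSL_smul_inf (s : Fˣ) : hSL m s • pInf F = pInf F :=
  smul_mk' _ _ _ (hMat_mulVec_inf _)

theorem hSL_smul (h : ThSq F m) (s : Fˣ) (x y : F) :
    hSL m s • pFin m x y = pFin m (th m (s : F) * x) (th m (s : F) * (s : F) ^ 2 * y) :=
  smul_mk' _ _ _ (hMat_mulVec h s.ne_zero x y)

theorem wSL_smul_inf : wSL F • pInf F = pFin m (0 : F) 0 :=
  smul_mk' _ _ _ (c := 1) (by
    rw [one_smul, wSL_mulVec]; ext i; fin_cases i <;> simp [infV, pv, ovF])

theorem wSL_smul_zero : wSL F • pFin m (0 : F) 0 = pInf F :=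
  smul_mk' _ _ _ (c := 1) (by
    rw [one_smul, wSL_mulVec]; ext i; fin_cases i <;> simp [infV, pv, ovF])

theorem wSL_smul (h : ThSq F m) {x y : F} (hf : ovF m x y ≠ 0) :
    wSL F • pFin m x y = pFin m (y / ovF m x y) (x / ovF m x y) :=
  smul_mk' _ _ _ (c := ovF m x y) (by
    rw [wSL_mulVec]
    ext i
    fin_cases i <;> simp [pv, ovF_inv h hf, hf, mul_div_cancel₀])

theorem mem_ovoid {p : Projectivization F (Fin 4 → F)} :
    p ∈ suzukiOvoid F m ↔ p = pInf F ∨ ∃ x y, p = pFin m x y := by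
  constructor
  · rintro ⟨v, hv, rfl, rfl | ⟨x, y, rfl⟩⟩
    · exact Or.inl rfl
    · right
      refine ⟨x, y, ?_⟩
      simp [pFin, pv, ovF_eq]
  · rintro (rfl | ⟨x, y, rfl⟩)
    · exact ⟨_, _, rfl, Or.inl rfl⟩
    · exact ⟨_, _, rfl, Or.inr ⟨x, y, by rw [pv, ovF_eq]⟩⟩

theorem pFin_ne_inf (x y : F) : pFin m x y ≠ pInf F := fun h => by
  rw [pFin, pInf, Projectivization.mk_eq_mk_iff'] at h
  obtain ⟨c, hc⟩ := h
  have := congrFun hc 3
  simp [pv, infV] at this

theorem pFin_inj {x y x' y' : F} (h : pFin m x y = pFin m x' y') : x = x' ∧ y = y' := by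
  rw [pFin, pFin, Projectivization.mk_eq_mk_iff'] at h
  obtain ⟨c, hc⟩ := h
  have h3 := congrFun hc 3
  have h2 := congrFun hc 2
  have h1 := congrFun hc 1
  simp [pv] at h3 h2 h1
  subst h3
  exact ⟨by simpa using h2.symm, by simpa using h1.symm⟩

section Finite

variable [Finite F]

theorem card_ovoid : (suzukiOvoid F m).ncard = Nat.card F ^ 2 + 1 := by
  have : suzukiOvoid F m = insert (pInf F) (Set.range fun p : F × F => pFin m p.1 p.2) := by
    ext p
    rw [mem_ovoid, Set.mem_insert_iff, Set.mem_range]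
    simp [Prod.exists, eq_comm]
  rw [this, Set.ncard_insert_of_notMem (by rintro ⟨p, hp⟩; exact pFin_ne_inf _ _ hp),
    Set.ncard_range_of_injective (fun p q h => Prod.ext (pFin_inj h).1 (pFin_inj h).2),
    Nat.card_prod, sq]

theorem mem_Sz_of_mapsTo {g : Matrix.SpecialLinearGroup (Fin 4) F}
    (hg : ∀ p ∈ suzukiOvoid F m, g • p ∈ suzukiOvoid F m) : g ∈ Cfsg.Sz F m := by
  rw [MulAction.mem_stabilizer_iff]
  refine Set.eq_of_subset_of_ncard_le ?_ ?_ (Set.toFinite _)
  · rintro _ ⟨p, hp, rfl⟩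
    exact hg p hp
  · exact le_of_eq (Set.ncard_image_of_injective _ (MulAction.injective g)).symm

theorem smul_mem_ovoid {g : Matrix.SpecialLinearGroup (Fin 4) F} (hg : g ∈ Cfsg.Sz F m)
    {p : Projectivization F (Fin 4 → F)} (hp : p ∈ suzukiOvoid F m) : g • p ∈ suzukiOvoid F m := by
  rw [MulAction.mem_stabilizer_iff] at hg
  rw [← hg]
  exact Set.smul_mem_smul_set hp

theorem tSL_mem (h : ThSq F m) (a b : F) : tSL m a b ∈ Cfsg.Sz F m := by
  refine mem_Sz_of_mapsTo fun p hp => ?_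
  rcases mem_ovoid.1 hp with rfl | ⟨x, y, rfl⟩
  · rwa [tSL_smul_inf]
  · exact mem_ovoid.2 (Or.inr ⟨_, _, tSL_smul h a b x y⟩)

theorem hSL_mem (h : ThSq F m) (s : Fˣ) : hSL m s ∈ Cfsg.Sz F m := by
  refine mem_Sz_of_mapsTo fun p hp => ?_
  rcases mem_ovoid.1 hp with rfl | ⟨x, y, rfl⟩
  · rwa [hSL_smul_inf]
  · exact mem_ovoid.2 (Or.inr ⟨_, _, hSL_smul h s x y⟩)

theorem wSL_mem (h : ThSq F m) : wSL F ∈ Cfsg.Sz F m := by
  refine mem_Sz_of_mapsTo fun p hp => ?_
  rcases mem_ovoid.1 hp with rfl | ⟨x, y, rfl⟩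
  · exact mem_ovoid.2 (Or.inr ⟨0, 0, wSL_smul_inf⟩)
  · by_cases hf : ovF m x y = 0
    · obtain ⟨rfl, rfl⟩ := (ovF_eq_zero h).1 hf
      rw [wSL_smul_zero]
      exact mem_ovoid.2 (Or.inl rfl)
    · exact mem_ovoid.2 (Or.inr ⟨_, _, wSL_smul h hf⟩)

/-- Two distinct points can be moved to infinity and the origin. -/
theorem exists_two_point (h : ThSq F m) {p q : Projectivization F (Fin 4 → F)}
    (hp : p ∈ suzukiOvoid F m) (hq : q ∈ suzukiOvoid F m) (hpq : p ≠ q) :
    ∃ g ∈ Cfsg.Sz F m, g • p = pInf F ∧ g • q = pFin m (0 : F) 0 := by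
  have h1 : ∀ x y : F, ∃ a b : F, tSL m a b • pFin m x y = pFin m 0 0 := fun x y =>
    ⟨x, y + th m x * x, by
      rw [tSL_smul h, CharTwo.add_self_eq_zero,
        show y + (y + th m x * x) + th m x * x = 0 by
          linear_combination (y + th m x * x) * (CharTwo.two_eq_zero (R := F))]⟩
  obtain ⟨g₁, hg₁, hp₁⟩ : ∃ g ∈ Cfsg.Sz F m, g • p = pInf F := by
    rcases mem_ovoid.1 hp with rfl | ⟨x, y, rfl⟩
    · exact ⟨1, one_mem _, one_smul _ _⟩
    · obtain ⟨a, b, hab⟩ := h1 x y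
      exact ⟨wSL F * tSL m a b, mul_mem (wSL_mem h) (tSL_mem h a b),
        by rw [mul_smul, hab, wSL_smul_zero]⟩
  rcases mem_ovoid.1 (smul_mem_ovoid hg₁ hq) with h2 | ⟨x, y, hxy⟩
  · exact absurd (MulAction.injective g₁ (hp₁.trans h2.symm)) hpq
  · obtain ⟨a, b, hab⟩ := h1 x y
    exact ⟨tSL m a b * g₁, mul_mem (tSL_mem h a b) hg₁, by rw [mul_smul, hp₁, tSL_smul_inf],
      by rw [mul_smul, hxy, hab]⟩

end Finite

theorem coeff_poly {K : Type*} [Field K] [Fintype K] {e : ℕ} (he : 2 < e) (hlt : e + 2 < Fintype.card K)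
    {c₁ c₂ c₃ c₄ : K} (h : ∀ x : K, c₁ * x + c₂ * x ^ 2 + c₃ * x ^ e + c₄ * x ^ (e + 2) = 0) :
    c₁ = 0 ∧ c₂ = 0 ∧ c₃ = 0 ∧ c₄ = 0 := by
  open Polynomial in
  let P : K[X] := monomial 1 c₁ + monomial 2 c₂ + monomial e c₃ + monomial (e + 2) c₄
  have hcoef : ∀ k, P.coeff k = (if 1 = k then c₁ else 0) + (if 2 = k then c₂ else 0) +
      (if e = k then c₃ else 0) + (if e + 2 = k then c₄ else 0) := fun k => by
    simp [P, Polynomial.coeff_monomial]
  have hP : P = 0 := by
    refine Polynomial.eq_zero_of_natDegree_lt_card_of_eval_eq_zero P (ι := K) Function.injective_id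
      (fun x => ?_) (lt_of_le_of_lt (Polynomial.natDegree_le_iff_coeff_eq_zero.2 fun k hk => ?_) hlt)
    · simpa [P] using h x
    · rw [hcoef, if_neg (by omega), if_neg (by omega), if_neg (by omega), if_neg (by omega)]
      simp
  have key : ∀ k, P.coeff k = 0 := fun k => by rw [hP, Polynomial.coeff_zero]
  refine ⟨?_, ?_, ?_, ?_⟩
  · have := key 1; rw [hcoef] at this; simpa [show e ≠ 1 by omega] using this
  · have := key 2; rw [hcoef] at this; simpa [show e ≠ 2 by omega, show e ≠ 0 by omega] using this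
  · have := key e; rw [hcoef] at this
    simpa [show 1 ≠ e by omega, show 2 ≠ e by omega] using this
  · have := key (e + 2); rw [hcoef] at this
    simpa [show 1 ≠ e + 2 by omega, show e ≠ 0 by omega] using this

theorem coeff_four [Fintype F] (hm : 1 ≤ m) (hF : Fintype.card F = 2 ^ (2 * m + 1))
    {c₁ c₂ c₃ c₄ : F} (h : ∀ x : F, c₁ * x + c₂ * x ^ 2 + c₃ * th m x + c₄ * th m x * x ^ 2 = 0) :
    c₁ = 0 ∧ c₂ = 0 ∧ c₃ = 0 ∧ c₄ = 0 := by
  have h4 : 4 ≤ 2 ^ (m + 1) := le_trans (by norm_num) (Nat.pow_le_pow_right (by norm_num)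
    (show 2 ≤ m + 1 by omega))
  have h5 : 2 ^ (m + 1) * 2 ≤ 2 ^ (2 * m + 1) := by
    rw [← pow_succ]; exact Nat.pow_le_pow_right (by norm_num) (by omega)
  refine coeff_poly (e := 2 ^ (m + 1)) (by omega) (by rw [hF]; omega) fun x => ?_
  rw [pow_add x, ← mul_assoc c₄, ← th_def]
  exact h x

variable [Fintype F]

/-- The stabiliser of two points consists of the diagonal elements. -/
theorem stab_two (hm : 1 ≤ m) (hF : Fintype.card F = 2 ^ (2 * m + 1))
    {g : Matrix.SpecialLinearGroup (Fin 4) F} (hg : g ∈ Cfsg.Sz F m)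
    (h0 : g • pInf F = pInf F) (h3 : g • pFin m (0 : F) 0 = pFin m 0 0) :
    ∃ s : Fˣ, g = hSL m s := by
  have hθ := thSq_of_card hF
  rw [pInf, Projectivization.smul_mk, Projectivization.mk_eq_mk_iff',
    Matrix.SpecialLinearGroup.smul_def] at h0
  rw [pFin, Projectivization.smul_mk, Projectivization.mk_eq_mk_iff',
    Matrix.SpecialLinearGroup.smul_def] at h3
  obtain ⟨A, hA⟩ := h0
  obtain ⟨D, hD⟩ := h3
  have col0 : ∀ i, g.1 i 0 = ![A, 0, 0, 0] i := fun i => by
    have := congrFun hA i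
    fin_cases i <;> simpa [infV, Matrix.mulVec, dotProduct, Fin.sum_univ_four] using this.symm
  have col3 : ∀ i, g.1 i 3 = ![0, 0, 0, D] i := fun i => by
    have := congrFun hD i
    fin_cases i <;> simpa [pv, ovF, Matrix.mulVec, dotProduct, Fin.sum_univ_four] using this.symm
  have him : ∀ x y : F, ∃ x' y' c : F, c ≠ 0 ∧ g.1 *ᵥ pv m x y = c • pv m x' y' := by
    intro x y
    have hmem := smul_mem_ovoid hg (mem_ovoid.2 (Or.inr ⟨x, y, rfl⟩))
    rcases mem_ovoid.1 hmem with e | ⟨x', y', e⟩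
    · exfalso
      have h' : g • pInf F = pInf F := smul_mk' _ _ _ hA.symm
      exact pFin_ne_inf x y (MulAction.injective g (e.trans h'.symm))
    · rw [pFin, Projectivization.smul_mk, pFin, Projectivization.mk_eq_mk_iff',
        Matrix.SpecialLinearGroup.smul_def] at e
      obtain ⟨c, hc⟩ := e
      refine ⟨x', y', c, ?_, hc.symm⟩
      rintro rfl
      rw [zero_smul] at hc
      have h' := (smul_ne_zero_iff_ne g).mpr (pv_ne_zero (m := m) x y)
      rw [Matrix.SpecialLinearGroup.smul_def] at h'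
      exact h' hc.symm
  have hrow3 : ∀ x y : F, g.1 3 1 * y + g.1 3 2 * x + D ≠ 0 := fun x y => by
    obtain ⟨x', y', c, hc, e⟩ := him x y
    have := congrFun e 3
    simp [pv, Matrix.mulVec, dotProduct, Fin.sum_univ_four, col0, col3] at this
    rw [this]; exact hc
  have hD0 : D ≠ 0 := by simpa using hrow3 0 0
  have h31 : g.1 3 1 = 0 := by
    by_contra h; exact hrow3 0 (-D / g.1 3 1) (by field_simp; ring)
  have h32 : g.1 3 2 = 0 := by
    by_contra h; exact hrow3 (-D / g.1 3 2) 0 (by field_simp; ring)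
  have hE : ∀ x y : F, ovF m (g.1 2 2 / D * x + g.1 2 1 / D * y) (g.1 1 2 / D * x + g.1 1 1 / D * y) =
      A / D * ovF m x y + g.1 0 1 / D * y + g.1 0 2 / D * x := by
    intro x y
    obtain ⟨x', y', c, hc, e⟩ := him x y
    have e3 := congrFun e 3
    have e2 := congrFun e 2
    have e1 := congrFun e 1
    have e0 := congrFun e 0
    simp [pv, Matrix.mulVec, dotProduct, Fin.sum_univ_four, col0, col3, h31, h32] at e3 e2 e1 e0
    subst e3
    have ex : x' = g.1 2 2 / D * x + g.1 2 1 / D * y := by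
      field_simp; linear_combination -e2
    have ey : y' = g.1 1 2 / D * x + g.1 1 1 / D * y := by
      field_simp; linear_combination -e1
    rw [← ex, ← ey]
    field_simp
    linear_combination -e0
  generalize hα : g.1 2 2 / D = α at hE
  generalize hβ : g.1 2 1 / D = β at hE
  generalize hγ : g.1 1 2 / D = γ at hE
  generalize hδ : g.1 1 1 / D = δ at hE
  obtain ⟨r1, r2, r3, r4⟩ := coeff_four hm hF
    (c₁ := g.1 0 2 / D) (c₂ := -(α * γ)) (c₃ := -th m γ) (c₄ := A / D - th m α * α ^ 2) fun x => by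
      have := hE x 0
      simp [ovF, map_mul] at this
      linear_combination -this
  obtain ⟨s1, s2, s3, s4⟩ := coeff_four hm hF
    (c₁ := g.1 0 1 / D) (c₂ := -(β * δ)) (c₃ := A / D - th m δ) (c₄ := -(th m β * β ^ 2)) fun y => by
      have := hE 0 y
      simp [ovF, map_mul] at this
      linear_combination -this
  have hγ0 : γ = 0 := by simpa using r3
  have hβ0 : β = 0 := by simpa using s4
  have ha1 : th m δ = A / D := (sub_eq_zero.1 s3).symm
  have ha2 : th m α * α ^ 2 = A / D := (sub_eq_zero.1 r4).symm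
  have hαδ : α * δ = A / D := by
    have := hE 1 1
    rw [r1, s1, hγ0, hβ0] at this
    simp [ovF] at this
    linear_combination this - ha1 - ha2
      + (A / D - A / D) * (CharTwo.two_eq_zero (R := F))
  have h12 : g.1 1 2 = 0 := by rw [hγ0, div_eq_zero_iff] at hγ; exact hγ.resolve_right hD0
  have h21 : g.1 2 1 = 0 := by rw [hβ0, div_eq_zero_iff] at hβ; exact hβ.resolve_right hD0
  have h01 : g.1 0 1 = 0 := (div_eq_zero_iff.1 s1).resolve_right hD0
  have h02 : g.1 0 2 = 0 := (div_eq_zero_iff.1 r1).resolve_right hD0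
  have g22 : g.1 2 2 = D * α := by rw [← hα]; field_simp
  have g11 : g.1 1 1 = D * δ := by rw [← hδ]; field_simp
  have gA : A = D * (th m α * α ^ 2) := by rw [ha2]; field_simp
  have hdet : A * (D * δ) * (D * α) * D = 1 := by
    have hM : g.1 = diagonal ![A, D * δ, D * α, D] := by
      ext i j
      fin_cases i <;> fin_cases j <;> simp [col0, col3, h31, h32, h12, h21, h01, h02, g11, g22]
    have := g.2
    rw [hM, Matrix.det_diagonal, Fin.prod_univ_four] at this
    simpa using this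
  have hA0 : A ≠ 0 := fun h => by simp [h] at hdet
  have hα0 : α ≠ 0 := fun h => by simp [h] at hdet
  have hsq : D ^ 2 * (th m α * α ^ 2) = 1 := by
    have h2 : (D ^ 2 * (th m α * α ^ 2)) ^ 2 = 1 := by
      rw [← hdet, show A * (D * δ) * (D * α) * D = A * (α * δ) * D ^ 3 by ring, hαδ, ← ha2, gA]
      ring
    rcases mul_eq_zero.1 (show (D ^ 2 * (th m α * α ^ 2) - 1) * (D ^ 2 * (th m α * α ^ 2) - 1) = 0 by
      linear_combination h2 + (1 - D ^ 2 * (th m α * α ^ 2)) * (CharTwo.two_eq_zero (R := F)))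
      with h | h <;> exact sub_eq_zero.1 h
  have hsq' : th m D * th m α * α = 1 := by
    have h2 : (th m D * th m α * α) ^ 2 = 1 := by
      have := congrArg (th m) hsq
      rw [map_mul, map_pow, map_mul, map_pow, hθ, map_one] at this
      rw [← this]; ring
    rcases mul_eq_zero.1 (show (th m D * th m α * α - 1) * (th m D * th m α * α - 1) = 0 by
      linear_combination h2 + (1 - th m D * th m α * α) * (CharTwo.two_eq_zero (R := F)))
      with h | h <;> exact sub_eq_zero.1 h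
  have hδ' : δ = th m α * α := by
    have : α * δ = α * (th m α * α) := by rw [hαδ, ← ha2]; ring
    exact mul_left_cancel₀ hα0 this
  have hs0 : (D * α)⁻¹ ≠ 0 := inv_ne_zero (mul_ne_zero hD0 hα0)
  refine ⟨Units.mk0 _ hs0, Subtype.ext ?_⟩
  show g.1 = hMat m (D * α)⁻¹
  have hth : th m (D * α)⁻¹ * (D * α)⁻¹ = D⁻¹ := by
    rw [map_inv₀, map_mul, ← mul_inv]
    congr 1
    linear_combination D * hsq'
  rw [hMat, hth, inv_inv, inv_inv]
  have e00 : A = D⁻¹ := eq_inv_of_mul_eq_one_left (by rw [gA]; linear_combination hsq)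
  have e11 : g.1 1 1 = (D * α)⁻¹ := eq_inv_of_mul_eq_one_left (by rw [g11, hδ']; linear_combination hsq)
  ext i j
  fin_cases i <;> fin_cases j <;>
    simp [col0, col3, h31, h32, h12, h21, h01, h02, g22, e00, e11]

/-- The stabiliser of infinity is `U H`. -/
theorem stab_inf (hm : 1 ≤ m) (hF : Fintype.card F = 2 ^ (2 * m + 1))
    {g : Matrix.SpecialLinearGroup (Fin 4) F} (hg : g ∈ Cfsg.Sz F m) (h0 : g • pInf F = pInf F) :
    ∃ a b s, g = tSL m a b * hSL m s := by
  have hθ := thSq_of_card hF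
  rcases mem_ovoid.1 (smul_mem_ovoid hg (mem_ovoid.2 (Or.inr ⟨0, 0, rfl⟩))) with e | ⟨a, b, e⟩
  · exact absurd (MulAction.injective g (e.trans h0.symm)) (pFin_ne_inf 0 0)
  · obtain ⟨s, hs⟩ := stab_two hm hF (mul_mem (inv_mem (tSL_mem hθ a b)) hg)
      (by rw [mul_smul, h0, inv_smul_eq_iff, tSL_smul_inf])
      (by rw [mul_smul, e, inv_smul_eq_iff, tSL_smul hθ]; simp)
    exact ⟨a, b, s, by rw [← hs, mul_inv_cancel_left]⟩

theorem tSL_mul_hSL_inj (h : ThSq F m) {a b a' b' : F} {s s' : Fˣ}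
    (e : tSL m a b * hSL m s = tSL m a' b' * hSL m s') : a = a' ∧ b = b' ∧ s = s' := by
  have hh : ∀ t : Fˣ, hSL m t • pFin m (0 : F) 0 = pFin m 0 0 := fun t => by
    rw [hSL_smul h, mul_zero, mul_zero]
  have e' := congrArg (fun g : Matrix.SpecialLinearGroup (Fin 4) F => g • pFin m (0 : F) 0) e
  simp only [mul_smul, hh, tSL_smul h, zero_add, mul_zero, add_zero] at e'
  obtain ⟨rfl, rfl⟩ := pFin_inj e'
  refine ⟨rfl, rfl, ?_⟩
  have e2 : hMat m (s : F) = hMat m (s' : F) := congrArg (fun g : Matrix.SpecialLinearGroup (Fin 4) F => g.1) (mul_left_cancel e)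
  exact Units.ext (by simpa [hMat] using congrFun (congrFun e2 1) 1)

/-- The order of the Suzuki group. -/
theorem card_sz (hm : 1 ≤ m) (hF : Fintype.card F = 2 ^ (2 * m + 1)) :
    Nat.card (Cfsg.Sz F m) =
      Fintype.card F ^ 2 * (Fintype.card F - 1) * (Fintype.card F ^ 2 + 1) := by
  have hθ := thSq_of_card hF
  have horb : MulAction.orbit (Cfsg.Sz F m) (pInf F) = suzukiOvoid F m := by
    ext p
    constructor
    · rintro ⟨g, rfl⟩
      exact smul_mem_ovoid g.2 (mem_ovoid.2 (Or.inl rfl))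
    · intro hp
      rcases mem_ovoid.1 hp with rfl | ⟨x, y, rfl⟩
      · exact MulAction.mem_orbit_self _
      · refine ⟨⟨tSL m x y * wSL F, mul_mem (tSL_mem hθ x y) (wSL_mem hθ)⟩, ?_⟩
        show (tSL m x y * wSL F) • pInf F = pFin m x y
        rw [mul_smul, wSL_smul_inf, tSL_smul hθ]
        simp
  let f : F × F × Fˣ → MulAction.stabilizer (Cfsg.Sz F m) (pInf F) := fun p =>
    ⟨⟨tSL m p.1 p.2.1 * hSL m p.2.2, mul_mem (tSL_mem hθ _ _) (hSL_mem hθ _)⟩, by
      rw [MulAction.mem_stabilizer_iff]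
      show (tSL m p.1 p.2.1 * hSL m p.2.2) • pInf F = pInf F
      rw [mul_smul, hSL_smul_inf, tSL_smul_inf]⟩
  have hf : Function.Bijective f := by
    constructor
    · intro p q e
      obtain ⟨h1, h2, h3⟩ := tSL_mul_hSL_inj hθ (congrArg (fun g => g.1.1) e)
      exact Prod.ext h1 (Prod.ext h2 h3)
    · rintro ⟨⟨g, hg⟩, hgs⟩
      obtain ⟨a, b, s, e⟩ := stab_inf hm hF hg hgs
      exact ⟨⟨a, b, s⟩, Subtype.ext (Subtype.ext e.symm)⟩
  have h1 := Subgroup.card_mul_index (MulAction.stabilizer (Cfsg.Sz F m) (pInf F))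
  rw [MulAction.index_stabilizer, horb, card_ovoid, ← Nat.card_eq_of_bijective f hf, Nat.card_prod,
    Nat.card_prod, Nat.card_units, Nat.card_eq_fintype_card (α := F)] at h1
  rw [← h1]; ring

end CfsgLib.Suzuki
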