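import Cfsg.Agent.Lib.Suzuki.Tori

/-!
The cyclic cells of a Suzuki group: conjugates of `H` and tori, and their traces on a subgroup.
-/

set_option autoImplicit false
set_option linter.unusedSectionVars false

namespace CfsgLib.Suzuki

open Matrix Cfsg
open scoped Pointwise LinearAlgebra.Projectivization

section Generic

variable {G : Type*} [Group G]

/-- The non-identity elements of `M`-conjugates of `A`. -/
def conjM (M A : Subgroup G) : Set G := {g | g ≠ 1 ∧ ∃ x ∈ M, x * g * x⁻¹ ∈ A}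

theorem ncard_conjM [Finite G] {M A : Subgroup G} (hA : A ≤ M)
    (hTI : ∀ x ∈ M, ∀ a ∈ A, a ≠ 1 → x * a * x⁻¹ ∈ A → x ∈ Subgroup.normalizer (A : Set G)) :
    (conjM M A).ncard * Nat.card (Subgroup.normalizer (A : Set G) ⊓ M : Subgroup G) =
      Nat.card M * (Nat.card A - 1) := by
  set A' := A.subgroupOf M
  have hN : Subgroup.normalizer (A' : Set M) = (Subgroup.normalizer (A : Set G)).subgroupOf M :=
    (Subgroup.subgroupOf_normalizer_eq hA).symm
  have hTI' : ∀ x a : M, a ∈ A' → a ≠ 1 → x * a * x⁻¹ ∈ A' →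
      x ∈ Subgroup.normalizer (A' : Set M) := fun x a ha ha1 hxa => by
    rw [hN]
    exact hTI x x.2 a ha (fun e => ha1 (Subtype.ext e)) hxa
  have himg : conjM M A = Subtype.val '' conjUnion A' := by
    ext g
    constructor
    · rintro ⟨hg, x, hx, hxg⟩
      have hgM : g ∈ M := by
        have := mul_mem (mul_mem (inv_mem hx) (hA hxg)) hx
        simpa [mul_assoc] using this
      exact ⟨⟨g, hgM⟩, ⟨fun e => hg (congrArg Subtype.val e), ⟨x, hx⟩, hxg⟩, rfl⟩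
    · rintro ⟨⟨g, hgM⟩, ⟨hg, x, hx⟩, rfl⟩
      exact ⟨fun e => hg (Subtype.ext e), x.1, x.2, hx⟩
  have h1 := Subgroup.card_mul_index (Subgroup.normalizer (A' : Set M))
  have h2 : Nat.card (Subgroup.normalizer (A' : Set M)) =
      Nat.card (Subgroup.normalizer (A : Set G) ⊓ M : Subgroup G) := by
    rw [hN, ← Subgroup.inf_subgroupOf_right,
      Nat.card_congr (Subgroup.subgroupOfEquivOfLe inf_le_right).toEquiv]
  rw [himg, Set.ncard_image_of_injective _ Subtype.val_injective, ncard_conjUnion hTI', ← h2,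
    Nat.card_congr (Subgroup.subgroupOfEquivOfLe hA).toEquiv, ← h1]
  ring

/-- In an abelian group an automorphism of order two without fixed points is inversion. -/
theorem inverts_of_no_fixed {A : Subgroup G} {t : G} (hcomm : ∀ a ∈ A, ∀ b ∈ A, a * b = b * a)
    (ht : t * t = 1) (hn : ∀ a ∈ A, t * a * t⁻¹ ∈ A) (hfix : ∀ a ∈ A, t * a * t⁻¹ = a → a = 1)
    {a : G} (ha : a ∈ A) : t * a * t⁻¹ = a⁻¹ := by
  refine eq_inv_of_mul_eq_one_left (hfix _ (mul_mem (hn a ha) ha) ?_)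
  have ht' : t⁻¹ = t := inv_eq_of_mul_eq_one_right ht
  calc t * (t * a * t⁻¹ * a) * t⁻¹ = t * t * a * t⁻¹ * a * t⁻¹ := by group
    _ = a * (t * a * t⁻¹) := by rw [ht, ht']; group
    _ = t * a * t⁻¹ * a := hcomm a ha _ (hn a ha)

end Generic

variable {F : Type*} [Field F] [CharP F 2] [Fintype F] {m : ℕ}

/-- A conjugate of `H`. -/
def IsHConj (h : ThSq F m) (A : Subgroup (Cfsg.Sz F m)) : Prop :=
  ∃ k : Cfsg.Sz F m, A = (hSub h).map (MulAut.conj k).toMonoidHom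

/-- A conjugate of `H` or a torus. -/
def IsCell (h : ThSq F m) (A : Subgroup (Cfsg.Sz F m)) : Prop := IsHConj h A ∨ IsTorus A

theorem IsHConj.card {h : ThSq F m} {A : Subgroup (Cfsg.Sz F m)} (hA : IsHConj h A) :
    Nat.card A = Fintype.card F - 1 := by
  obtain ⟨k, rfl⟩ := hA
  rw [Subgroup.card_map_of_injective (MulAut.conj k).injective, card_hSub]

theorem IsCell.isCyclic (hF : Fintype.card F = 2 ^ (2 * m + 1)) {A : Subgroup (Cfsg.Sz F m)}
    (hA : IsCell (thSq_of_card hF) A) : IsCyclic A := by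
  rcases hA with ⟨k, rfl⟩ | hA
  · have := isCyclic_hSub (thSq_of_card hF)
    exact (Subgroup.equivMapOfInjective (hSub (thSq_of_card hF)) _
      (MulAut.conj k).injective).isCyclic.1 inferInstance
  · exact hA.isCyclic hF

theorem IsCell.comm (hF : Fintype.card F = 2 ^ (2 * m + 1)) {A : Subgroup (Cfsg.Sz F m)}
    (hA : IsCell (thSq_of_card hF) A) {a b : Cfsg.Sz F m} (ha : a ∈ A) (hb : b ∈ A) :
    a * b = b * a :=
  congrArg Subtype.val ((hA.isCyclic hF).commGroup.mul_comm ⟨a, ha⟩ ⟨b, hb⟩)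

theorem centralizer_conj (k g : Cfsg.Sz F m) :
    Subgroup.centralizer {k * g * k⁻¹} =
      (Subgroup.centralizer {g}).map (MulAut.conj k).toMonoidHom := by
  ext y
  rw [Subgroup.mem_map_equiv, Subgroup.mem_centralizer_singleton_iff,
    Subgroup.mem_centralizer_singleton_iff, MulAut.conj_symm_apply]
  constructor <;> intro e
  · calc k⁻¹ * y * k * g = k⁻¹ * (y * (k * g * k⁻¹)) * k := by group
      _ = g * (k⁻¹ * y * k) := by rw [e]; group
  · calc y * (k * g * k⁻¹) = k * (k⁻¹ * y * k * g) * k⁻¹ := by group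
      _ = k * g * k⁻¹ * y := by rw [e]; group

theorem IsCell.centralizer_eq (hm : 1 ≤ m) (hF : Fintype.card F = 2 ^ (2 * m + 1))
    {A : Subgroup (Cfsg.Sz F m)} (hA : IsCell (thSq_of_card hF) A) {a : Cfsg.Sz F m} (ha : a ∈ A)
    (ha1 : a ≠ 1) : Subgroup.centralizer {a} = A := by
  rcases hA with ⟨k, rfl⟩ | hA
  · obtain ⟨u, hu, rfl⟩ := ha
    show Subgroup.centralizer {k * u * k⁻¹} = _
    rw [centralizer_conj, centralizer_of_mem_hSub hm hF u hu
      (fun e => ha1 (by rw [e, map_one]))]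
  · exact hA.centralizer_eq hm hF ha ha1

/-- Two elements or a cell. -/
theorem two_or_cell (hm : 1 ≤ m) (hF : Fintype.card F = 2 ^ (2 * m + 1)) (g : Cfsg.Sz F m) :
    (∃ k, k * g * k⁻¹ ∈ uSub (thSq_of_card hF)) ∨
      IsCell (thSq_of_card hF) (Subgroup.centralizer {g}) := by
  rcases conj_cases hm hF g with h1 | h1 | ⟨k, s, hs, hk⟩
  · exact Or.inr (Or.inr (h1.isTorus hm hF))
  · exact Or.inl h1
  · refine Or.inr (Or.inl ⟨k⁻¹, ?_⟩)
    rw [← centralizer_hG hm hF hs, ← hk, centralizer_conj, Subgroup.map_map]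
    ext y
    simp [mul_assoc]

theorem IsCell.eq_of_mem (hm : 1 ≤ m) (hF : Fintype.card F = 2 ^ (2 * m + 1))
    {A B : Subgroup (Cfsg.Sz F m)} (hA : IsCell (thSq_of_card hF) A)
    (hB : IsCell (thSq_of_card hF) B) {a : Cfsg.Sz F m} (haA : a ∈ A) (haB : a ∈ B) (ha1 : a ≠ 1) :
    A = B :=
  (hA.centralizer_eq hm hF haA ha1).symm.trans (hB.centralizer_eq hm hF haB ha1)

theorem IsCell.map_conj (hm : 1 ≤ m) (hF : Fintype.card F = 2 ^ (2 * m + 1))
    {A : Subgroup (Cfsg.Sz F m)} (hA : IsCell (thSq_of_card hF) A) (g : Cfsg.Sz F m) :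
    IsCell (thSq_of_card hF) (A.map (MulAut.conj g).toMonoidHom) := by
  rcases hA with ⟨k, rfl⟩ | hA
  · refine Or.inl ⟨g * k, ?_⟩
    rw [Subgroup.map_map]
    ext y
    simp [mul_assoc]
  · exact Or.inr (hA.map_conj hm hF g)

theorem IsCell.card_mem (hm : 1 ≤ m) (hF : Fintype.card F = 2 ^ (2 * m + 1))
    {A : Subgroup (Cfsg.Sz F m)} (hA : IsCell (thSq_of_card hF) A) :
    Nat.card A ∈ ({2 ^ (2 * m + 1) - 1, 2 ^ (2 * m + 1) + 2 ^ (m + 1) + 1,
      2 ^ (2 * m + 1) - 2 ^ (m + 1) + 1} : Set ℕ) := by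
  rcases hA with hA | hA
  · rw [hA.card, hF]; exact Or.inl rfl
  · rcases (hA.card_mem hm hF).1 with h | h
    · exact Or.inr (Or.inl h)
    · exact Or.inr (Or.inr h)

theorem IsCell.not_two_dvd_card (hm : 1 ≤ m) (hF : Fintype.card F = 2 ^ (2 * m + 1))
    {A : Subgroup (Cfsg.Sz F m)} (hA : IsCell (thSq_of_card hF) A) : ¬ 2 ∣ Nat.card A := by
  have h1 : 2 ∣ 2 ^ (2 * m + 1) := dvd_pow_self 2 (by omega)
  have h2 : 2 ∣ 2 ^ (m + 1) := dvd_pow_self 2 (by omega)
  have h3 : 2 ^ (m + 1) ≤ 2 ^ (2 * m + 1) := Nat.pow_le_pow_right (by norm_num) (by omega)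
  have h4 : 1 ≤ 2 ^ (2 * m + 1) := Nat.one_le_two_pow
  have := hA.card_mem hm hF
  simp only [Set.mem_insert_iff, Set.mem_singleton_iff] at this
  rcases this with hk | hk | hk <;> omega

theorem IsCell.normalizer_card (hm : 1 ≤ m) (hF : Fintype.card F = 2 ^ (2 * m + 1))
    {A : Subgroup (Cfsg.Sz F m)} (hA : IsCell (thSq_of_card hF) A) :
    ∃ d, (d = 2 ∨ d = 4) ∧ (IsHConj (thSq_of_card hF) A → d = 2) ∧
      Nat.card (Subgroup.normalizer (A : Set (Cfsg.Sz F m))) = d * Nat.card A := by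
  by_cases hH : IsHConj (thSq_of_card hF) A
  · obtain ⟨k, rfl⟩ := hH
    refine ⟨2, Or.inl rfl, fun _ => rfl, ?_⟩
    rw [normalizer_map_conj, Subgroup.card_map_of_injective (MulAut.conj k).injective,
      Subgroup.card_map_of_injective (MulAut.conj k).injective, card_normalizer_hSub hm hF, card_hSub]
  · exact ⟨4, Or.inr rfl, fun h => absurd h hH, ((hA.resolve_left hH).card_mem hm hF).2⟩

/-- The numerical facts about the trace of a cell on a subgroup. -/
theorem IsCell.trace (hm : 1 ≤ m) (hF : Fintype.card F = 2 ^ (2 * m + 1))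
    {A : Subgroup (Cfsg.Sz F m)} (hA : IsCell (thSq_of_card hF) A) (M : Subgroup (Cfsg.Sz F m))
    (hne : A ⊓ M ≠ ⊥) :
    5 ≤ Nat.card (A ⊓ M : Subgroup (Cfsg.Sz F m)) ∧
    Subgroup.normalizer ((A ⊓ M : Subgroup (Cfsg.Sz F m)) : Set (Cfsg.Sz F m)) ⊓ M =
      Subgroup.normalizer (A : Set (Cfsg.Sz F m)) ⊓ M ∧
    ∃ n, (n = 1 ∨ n = 2 ∨ n = 4) ∧ (IsHConj (thSq_of_card hF) A → n ≤ 2) ∧
      Nat.card (Subgroup.normalizer (A : Set (Cfsg.Sz F m)) ⊓ M : Subgroup (Cfsg.Sz F m)) =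
        n * Nat.card (A ⊓ M : Subgroup (Cfsg.Sz F m)) ∧
      (conjM M (A ⊓ M)).ncard * (n * Nat.card (A ⊓ M : Subgroup (Cfsg.Sz F m))) =
        Nat.card M * (Nat.card (A ⊓ M : Subgroup (Cfsg.Sz F m)) - 1) := by
  obtain ⟨a, ha, ha1⟩ := (Subgroup.bot_or_exists_ne_one _).resolve_left hne
  have hti : ∀ x b, b ∈ A → b ≠ 1 → x * b * x⁻¹ ∈ A → x ∈ Subgroup.normalizer (A : Set (Cfsg.Sz F m)) :=
    fun x b hb hb1 hxb => ti_of_centralizer (fun c hc hc1 => hA.centralizer_eq hm hF hc hc1) x b hb hb1 hxb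
  have hNeq : Subgroup.normalizer ((A ⊓ M : Subgroup (Cfsg.Sz F m)) : Set (Cfsg.Sz F m)) ⊓ M =
      Subgroup.normalizer (A : Set (Cfsg.Sz F m)) ⊓ M := by
    ext x
    simp only [Subgroup.mem_inf]
    constructor
    · rintro ⟨hx, hxM⟩
      exact ⟨hti x a ha.1 ha1 ((Subgroup.mem_normalizer_iff.1 hx a).1 ha).1, hxM⟩
    · rintro ⟨hx, hxM⟩
      refine ⟨Subgroup.mem_normalizer_iff.2 fun b => ?_, hxM⟩
      simp only [Subgroup.mem_inf]
      rw [← Subgroup.mem_normalizer_iff.1 hx b,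
        show x * b * x⁻¹ ∈ M ↔ b ∈ M from
          ⟨fun hb => by simpa [mul_assoc] using mul_mem (mul_mem (inv_mem hxM) hb) hxM,
            fun hb => mul_mem (mul_mem hxM hb) (inv_mem hxM)⟩]
  obtain ⟨d, hd, hdH, hcard⟩ := hA.normalizer_card hm hF
  set K := Subgroup.normalizer (A : Set (Cfsg.Sz F m)) ⊓ M
  have hAK : A ⊓ M ≤ K := inf_le_inf_right _ Subgroup.le_normalizer
  have hN : (A.subgroupOf (Subgroup.normalizer (A : Set (Cfsg.Sz F m)))).Normal :=
    Subgroup.normal_in_normalizer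
  let f := (QuotientGroup.mk' (A.subgroupOf (Subgroup.normalizer (A : Set (Cfsg.Sz F m))))).comp
    (Subgroup.inclusion (inf_le_left : K ≤ Subgroup.normalizer (A : Set (Cfsg.Sz F m))))
  have hker : f.ker = (A ⊓ M).subgroupOf K := by
    ext x
    rw [MonoidHom.mem_ker, MonoidHom.comp_apply]
    show (QuotientGroup.mk _ : _ ⧸ _) = 1 ↔ _
    rw [QuotientGroup.eq_one_iff, Subgroup.mem_subgroupOf, Subgroup.mem_subgroupOf, Subgroup.mem_inf]
    exact ⟨fun hx => ⟨hx, x.2.2⟩, fun hx => hx.1⟩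
  have h1 := Subgroup.card_mul_index f.ker
  rw [Subgroup.index_ker, hker, Nat.card_congr (Subgroup.subgroupOfEquivOfLe hAK).toEquiv,
    mul_comm] at h1
  have h2 : Nat.card f.range ∣ d := by
    refine (Subgroup.card_subgroup_dvd_card f.range).trans (dvd_of_eq ?_)
    have h3 := Subgroup.card_mul_index (A.subgroupOf (Subgroup.normalizer (A : Set (Cfsg.Sz F m))))
    rw [Nat.card_congr (Subgroup.subgroupOfEquivOfLe Subgroup.le_normalizer).toEquiv, hcard,
      mul_comm d] at h3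
    exact Nat.eq_of_mul_eq_mul_left Nat.card_pos h3
  have hS := ncard_conjM (M := M) (A := A ⊓ M) inf_le_right fun x hx b hb hb1 hxb => by
    have h3 := hti x b hb.1 hb1 hxb.1
    exact (hNeq.symm.le ⟨h3, hx⟩).1
  rw [hNeq, ← h1] at hS
  refine ⟨?_, hNeq, Nat.card f.range, ?_, ?_, h1.symm, hS⟩
  · have h5 : 1 < Nat.card (A ⊓ M : Subgroup (Cfsg.Sz F m)) := by
      rw [Finite.one_lt_card_iff_nontrivial]
      exact ⟨⟨a, ha⟩, 1, fun e => ha1 (congrArg Subtype.val e)⟩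
    have h6 : Nat.card (A ⊓ M : Subgroup (Cfsg.Sz F m)) ∣ Nat.card A :=
      Subgroup.card_dvd_of_le inf_le_left
    have h7 : ¬ 2 ∣ Nat.card (A ⊓ M : Subgroup (Cfsg.Sz F m)) := fun h =>
      hA.not_two_dvd_card hm hF (h.trans h6)
    have h8 : ¬ 3 ∣ Nat.card (A ⊓ M : Subgroup (Cfsg.Sz F m)) := fun h =>
      not_three_dvd_card hm hF (h.trans (Subgroup.card_subgroup_dvd_card _))
    omega
  · have hpos : 0 < Nat.card f.range := Nat.card_pos
    generalize Nat.card f.range = r at h2 hpos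
    rcases hd with rfl | rfl
    · have := Nat.le_of_dvd (by norm_num) h2; omega
    · have := Nat.le_of_dvd (by norm_num) h2
      interval_cases r <;> omega
  · intro hH
    exact Nat.le_of_dvd (by norm_num) (hdH hH ▸ h2)

theorem orderOf_two_power (hF : Fintype.card F = 2 ^ (2 * m + 1)) {g k : Cfsg.Sz F m}
    (hk : k * g * k⁻¹ ∈ uSub (thSq_of_card hF)) : ∃ e, orderOf g = 2 ^ e := by
  have : Fact (Nat.Prime 2) := ⟨Nat.prime_two⟩
  obtain ⟨e, he⟩ := (IsPGroup.iff_orderOf.1 (isPGroup_uSub hF)) ⟨_, hk⟩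
  refine ⟨e, ?_⟩
  rw [← show orderOf (k * g * k⁻¹) = orderOf g from MulEquiv.orderOf_eq (MulAut.conj k) g, ← he]
  exact Subgroup.orderOf_coe (⟨_, hk⟩ : uSub (thSq_of_card hF))

theorem IsCell.not_two_element (hm : 1 ≤ m) (hF : Fintype.card F = 2 ^ (2 * m + 1))
    {A : Subgroup (Cfsg.Sz F m)} (hA : IsCell (thSq_of_card hF) A) {g : Cfsg.Sz F m} (hg : g ∈ A)
    (hg1 : g ≠ 1) (k : Cfsg.Sz F m) : k * g * k⁻¹ ∉ uSub (thSq_of_card hF) := fun hk => by
  obtain ⟨e, he⟩ := orderOf_two_power hF hk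
  have he0 : e ≠ 0 := fun e0 => hg1 (orderOf_eq_one_iff.1 (by rw [he, e0, pow_zero]))
  exact hA.not_two_dvd_card hm hF ((dvd_pow_self 2 he0).trans (he ▸ Subgroup.orderOf_dvd_natCard _ hg))

/-- An involution of `M` normalising the trace of a cell inverts it. -/
theorem IsCell.inverts (hm : 1 ≤ m) (hF : Fintype.card F = 2 ^ (2 * m + 1))
    {A : Subgroup (Cfsg.Sz F m)} (hA : IsCell (thSq_of_card hF) A) {t : Cfsg.Sz F m}
    (ht : t * t = 1) (ht1 : t ≠ 1) (htN : t ∈ Subgroup.normalizer (A : Set (Cfsg.Sz F m)))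
    {a : Cfsg.Sz F m} (ha : a ∈ A) : t * a * t⁻¹ = a⁻¹ := by
  refine inverts_of_no_fixed (fun x hx y hy => hA.comm hF hx hy) ht
    (fun x hx => (Subgroup.mem_normalizer_iff.1 htN x).1 hx) (fun x hx e => ?_) ha
  by_contra hx1
  have htA : t ∈ A := by
    rw [← hA.centralizer_eq hm hF hx hx1, Subgroup.mem_centralizer_singleton_iff]
    calc t * x = t * x * t⁻¹ * t := by group
      _ = x * t := by rw [e]
  have : Fact (Nat.Prime 2) := ⟨Nat.prime_two⟩
  have h2 : orderOf t = 2 := orderOf_eq_prime (by rw [sq]; exact ht) ht1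
  exact hA.not_two_dvd_card hm hF (h2 ▸ Subgroup.orderOf_dvd_natCard _ htA)

/-- A `p`-group, `p` odd, meeting a cell lies in it. -/
theorem IsCell.pGroup_le (hm : 1 ≤ m) (hF : Fintype.card F = 2 ^ (2 * m + 1))
    {A : Subgroup (Cfsg.Sz F m)} (hA : IsCell (thSq_of_card hF) A) {p : ℕ} [Fact p.Prime]
    {R : Subgroup (Cfsg.Sz F m)} (hR : IsPGroup p R) {x : Cfsg.Sz F m} (hxA : x ∈ A)
    (hxR : x ∈ R) (hx1 : x ≠ 1) : R ≤ A := by
  have : Nontrivial R := ⟨⟨x, hxR⟩, 1, fun e => hx1 (congrArg Subtype.val e)⟩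
  have := hR.center_nontrivial
  obtain ⟨z, hz⟩ := exists_ne (1 : Subgroup.center R)
  have hz1 : z.1.1 ≠ 1 := fun e => hz (Subtype.ext (Subtype.ext e))
  have hzc : ∀ r ∈ R, r * z.1.1 = z.1.1 * r := fun r hr =>
    congrArg Subtype.val (Subgroup.mem_center_iff.1 z.2 ⟨r, hr⟩)
  have hzA : z.1.1 ∈ A := by
    rw [← hA.centralizer_eq hm hF hxA hx1, Subgroup.mem_centralizer_singleton_iff]
    exact (hzc x hxR).symm
  intro r hr
  rw [← hA.centralizer_eq hm hF hzA hz1, Subgroup.mem_centralizer_singleton_iff]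
  exact hzc r hr

end CfsgLib.Suzuki
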