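import Mathlib
import Cfsg.Prelude.Def_LieExceptional

/-!
The Suzuki-Tits ovoid: the unipotent, diagonal and Weyl elements of its stabiliser and the
coordinate identities behind them. The field has `2 ^ (2 * m + 1)` elements and `th m` is the
automorphism `x ↦ x ^ (2 ^ (m + 1))`, whose square is squaring.
-/

set_option autoImplicit false

namespace CfsgLib.Suzuki

open Matrix
open scoped Pointwise MatrixGroups

variable {F : Type*} [Field F] [CharP F 2]

/-- The automorphism `x ↦ x ^ (2 ^ (m + 1))`. -/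
def th (m : ℕ) : F →+* F := iterateFrobenius F 2 (m + 1)

theorem th_def (m : ℕ) (x : F) : th m x = x ^ (2 ^ (m + 1)) := iterateFrobenius_def 2 (m + 1) x

/-- The defining property of `th`. -/
def ThSq (F : Type*) [Field F] [CharP F 2] (m : ℕ) : Prop := ∀ x : F, th m (th m x) = x ^ 2

theorem thSq_of_card [Fintype F] {m : ℕ} (hF : Fintype.card F = 2 ^ (2 * m + 1)) : ThSq F m := by
  intro x
  rw [th_def, th_def, ← pow_mul, ← pow_add,
    show m + 1 + (m + 1) = (2 * m + 1) + 1 by omega, pow_succ, ← hF, pow_mul, FiniteField.pow_card]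

variable {m : ℕ}

theorem th_eq_self (h : ThSq F m) {z : F} (hz : th m z = z) : z = 0 ∨ z = 1 := by
  have h1 := h z
  rw [hz, hz] at h1
  rcases eq_or_ne z 0 with h0 | h0
  · exact Or.inl h0
  · right
    have : z * z = z * 1 := by rw [mul_one]; nth_rw 3 [h1]; ring
    exact mul_left_cancel₀ h0 this

theorem th_surjective (h : ThSq F m) [Finite F] : Function.Surjective (th (F := F) m) :=
  Finite.surjective_of_injective (RingHom.injective _)

/-- The coordinate function of the ovoid. -/
def ovF (m : ℕ) (x y : F) : F := x * y + th m x * x ^ 2 + th m y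

theorem ovF_eq (x y : F) :
    ovF m x y = x * y + x ^ (2 ^ (m + 1) + 2) + y ^ (2 ^ (m + 1)) := by
  rw [ovF, th_def, th_def, pow_add x]

/-- The finite points of the ovoid, as vectors. -/
def pv (m : ℕ) (x y : F) : Fin 4 → F := ![ovF m x y, y, x, 1]

theorem pv_ne_zero (x y : F) : pv m x y ≠ 0 := fun h => by
  have := congrFun h 3
  simp [pv] at this

/-- The point at infinity, as a vector. -/
def infV (F : Type*) [Field F] : Fin 4 → F := ![1, 0, 0, 0]

omit [CharP F 2] in
theorem infV_ne_zero : infV F ≠ 0 := fun h => by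
  have := congrFun h 0
  simp [infV] at this

/-- The identity behind the symmetry of the ovoid. -/
theorem ovF_key (h : ThSq F m) (x y : F) :
    x * y * th m (ovF m x y) + th m y * y ^ 2 + th m x * ovF m x y ^ 2 =
      th m (ovF m x y) * ovF m x y := by
  simp only [ovF, map_add, map_mul, map_pow, h x, h y]
  linear_combination (th m x * (x * y * (th m x * x ^ 2) + x * y * th m y + th m x * x ^ 2 * th m y)
    - (x ^ 2 * th m x ^ 2 * th m y)) * (CharTwo.two_eq_zero (R := F))

theorem ovF_eq_zero (h : ThSq F m) {x y : F} : ovF m x y = 0 ↔ x = 0 ∧ y = 0 := by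
  constructor
  · intro h0
    rcases eq_or_ne x 0 with rfl | hx
    · refine ⟨rfl, ?_⟩
      rw [ovF] at h0
      simpa using h0
    exfalso
    have hx2 : th m x * x ≠ 0 := mul_ne_zero (by simpa using hx) hx
    obtain ⟨z, rfl⟩ : ∃ z, y = z * (th m x * x) :=
      ⟨y * (th m x * x)⁻¹, by rw [inv_mul_cancel_right₀ hx2]⟩
    rw [ovF, map_mul, map_mul, h x] at h0
    have h1 : z + 1 + th m z = 0 := by
      have : (th m x * x ^ 2) * (z + 1 + th m z) = 0 := by rw [← h0]; ring
      exact (mul_eq_zero.1 this).resolve_left (mul_ne_zero (by simpa using hx) (pow_ne_zero 2 hx))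
    have h2 := congrArg (th m) h1
    rw [map_add, map_add, map_one, map_zero, h z] at h2
    have hzz : z ^ 2 = z := by
      linear_combination h2 - h1
    have hth : th m z = z + 1 := by
      linear_combination h1 - (z + 1) * (CharTwo.two_eq_zero (R := F))
    rcases mul_eq_zero.1 (show z * (z - 1) = 0 by linear_combination hzz) with h3 | h3
    · rw [h3] at hth; simp at hth
    · rw [sub_eq_zero.1 h3, map_one] at hth; simp at hth
  · rintro ⟨rfl, rfl⟩; simp [ovF]

theorem ovF_inv (h : ThSq F m) {x y : F} (hf : ovF m x y ≠ 0) :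
    ovF m (y / ovF m x y) (x / ovF m x y) = (ovF m x y)⁻¹ := by
  set f := ovF m x y
  have hthf : th m f ≠ 0 := by simpa using hf
  conv_lhs => rw [ovF]
  rw [map_div₀, map_div₀, inv_eq_one_div]
  field_simp
  linear_combination ovF_key h x y

/-- Unipotent elements. -/
def tMat (m : ℕ) (a b : F) : Matrix (Fin 4) (Fin 4) F :=
  !![1, a, b + th m a * a, a * b + th m a * a ^ 2 + th m b;
     0, 1, th m a, b;
     0, 0, 1, a;
     0, 0, 0, 1]

theorem det_tMat (a b : F) : (tMat m a b).det = 1 := by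
  simp [tMat, Matrix.det_succ_row_zero, Fin.sum_univ_succ]

/-- Unipotent elements of the special linear group. -/
def tSL (m : ℕ) (a b : F) : Matrix.SpecialLinearGroup (Fin 4) F := ⟨tMat m a b, det_tMat a b⟩

/-- Diagonal elements. -/
def hMat (m : ℕ) (s : F) : Matrix (Fin 4) (Fin 4) F :=
  diagonal ![th m s * s, s, s⁻¹, (th m s * s)⁻¹]

theorem det_hMat {s : F} (hs : s ≠ 0) : (hMat m s).det = 1 := by
  have : th m s ≠ 0 := by simpa using hs
  simp [hMat, Matrix.det_diagonal, Fin.prod_univ_four]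
  field_simp

/-- Diagonal elements of the special linear group. -/
def hSL (m : ℕ) (s : Fˣ) : Matrix.SpecialLinearGroup (Fin 4) F :=
  ⟨hMat m (s : F), det_hMat s.ne_zero⟩

/-- The Weyl element. -/
def wSL (F : Type*) [Field F] : Matrix.SpecialLinearGroup (Fin 4) F :=
  ⟨!![0, 0, 0, 1; 0, 0, 1, 0; 0, 1, 0, 0; 1, 0, 0, 0], by
    simp [Matrix.det_succ_row_zero, Fin.sum_univ_succ, Fin.succAbove]; norm_num⟩

omit [CharP F 2] in
theorem wSL_mulVec (v : Fin 4 → F) : (wSL F).1 *ᵥ v = ![v 3, v 2, v 1, v 0] := by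
  ext i; fin_cases i <;> simp [wSL, Matrix.mulVec, dotProduct, Fin.sum_univ_four]

omit [CharP F 2] in
theorem wSL_sq : wSL F * wSL F = 1 := by
  apply Subtype.ext
  show (wSL F).1 * (wSL F).1 = 1
  ext i j
  fin_cases i <;> fin_cases j <;> simp [wSL, Matrix.mul_apply, Fin.sum_univ_four]

theorem tMat_mulVec (h : ThSq F m) (a b x y : F) :
    tMat m a b *ᵥ pv m x y = pv m (x + a) (y + b + th m a * x) := by
  ext i
  fin_cases i <;>
    simp [tMat, pv, ovF, Matrix.mulVec, dotProduct, Fin.sum_univ_four, map_add, map_mul, map_pow,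
      h a]
  · apply sub_eq_zero.1; ring_nf; simp [CharTwo.two_eq_zero]
  · ring

theorem tMat_mulVec_inf (a b : F) : tMat m a b *ᵥ infV F = infV F := by
  ext i; fin_cases i <;> simp [tMat, infV, Matrix.mulVec, dotProduct, Fin.sum_univ_four]

theorem tSL_mul (h : ThSq F m) (c d a b : F) :
    tSL m c d * tSL m a b = tSL m (a + c) (b + d + th m c * a) := by
  apply Subtype.ext
  show tMat m c d * tMat m a b = tMat m _ _
  ext i j
  fin_cases i <;> fin_cases j <;>
    simp [tMat, Matrix.mul_apply, Fin.sum_univ_four, map_add, map_mul, map_pow, h c] <;>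
    apply sub_eq_zero.1 <;> ring_nf <;> simp [CharTwo.two_eq_zero]

theorem tSL_zero : tSL m (0 : F) 0 = 1 := by
  apply Subtype.ext
  show tMat m 0 0 = 1
  ext i j; fin_cases i <;> fin_cases j <;> simp [tMat]

theorem tSL_inj {a b c d : F} (e : tSL m a b = tSL m c d) : a = c ∧ b = d := by
  have e' : tMat m a b = tMat m c d := congrArg Subtype.val e
  exact ⟨by simpa [tMat] using congrFun (congrFun e' 0) 1,
    by simpa [tMat] using congrFun (congrFun e' 1) 3⟩

theorem hMat_mulVec (h : ThSq F m) {s : F} (hs : s ≠ 0) (x y : F) :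
    hMat m s *ᵥ pv m x y =
      (th m s * s)⁻¹ • pv m (th m s * x) (th m s * s ^ 2 * y) := by
  have : th m s ≠ 0 := by simpa using hs
  ext i
  fin_cases i <;>
    simp [hMat, pv, ovF, Matrix.mulVec_diagonal, map_mul, map_pow, h s] <;>
    field_simp

theorem hMat_mulVec_inf (s : F) : hMat m s *ᵥ infV F = (th m s * s) • infV F := by
  ext i; fin_cases i <;> simp [hMat, infV, Matrix.mulVec_diagonal]

theorem hSL_mul (s t : Fˣ) : hSL m (s * t) = hSL m s * hSL m t := by
  apply Subtype.ext
  show hMat m _ = hMat m _ * hMat m _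
  rw [hMat, hMat, hMat, Matrix.diagonal_mul_diagonal]
  congr 1
  ext i; fin_cases i <;> simp <;> ring

/-- The diagonal elements as a homomorphism. -/
def hHom (m : ℕ) : Fˣ →* Matrix.SpecialLinearGroup (Fin 4) F := MonoidHom.mk' (hSL m) hSL_mul

theorem hSL_conj (h : ThSq F m) (s : Fˣ) (a b : F) :
    hSL m s * tSL m a b * (hSL m s)⁻¹ = tSL m (th m (s : F) * a) (th m (s : F) * (s : F) ^ 2 * b) := by
  rw [mul_inv_eq_iff_eq_mul]
  apply Subtype.ext
  show hMat m _ * tMat m _ _ = tMat m _ _ * hMat m _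
  have hs : (s : F) ≠ 0 := s.ne_zero
  have : th m (s : F) ≠ 0 := by simpa using hs
  ext i j
  fin_cases i <;> fin_cases j <;>
    simp [hMat, tMat, Matrix.diagonal_mul, Matrix.mul_diagonal, map_mul, map_pow, h (s : F)] <;>
    field_simp

theorem hSL_w (s : Fˣ) : wSL F * hSL m s * (wSL F)⁻¹ = hSL m s⁻¹ := by
  rw [mul_inv_eq_iff_eq_mul]
  apply Subtype.ext
  show (wSL F).1 * hMat m _ = hMat m _ * (wSL F).1
  ext i j
  fin_cases i <;> fin_cases j <;>
    simp [hMat, wSL, Matrix.diagonal_mul, Matrix.mul_diagonal, mul_comm]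

end CfsgLib.Suzuki
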