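import Cfsg.Agent.Lib.Suzuki.Sylow
import Cfsg.Agent.Lib.Suzuki.Count
import Cfsg.Agent.Lib.KnownA.Cores
import Cfsg.Agent.Lib.StructB.StemOfCentral

/-!
A stem extension of the Suzuki group over the field with 8 elements whose kernel has at least 4 elements.
-/

set_option autoImplicit false
set_option linter.unusedSectionVars false

namespace CfsgLib.Suzuki.Eight

open Cfsg CfsgLib.Suzuki
open scoped IsMulCommutative

variable {F : Type*} [Field F]

/-- The two-cocycle of the unipotent group. -/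
def coc (a b c _d : F) : F := b * c ^ 2 + b ^ 2 * c ^ 4 + a ^ 5 * c ^ 2 + a * c ^ 6

theorem coc_rule [CharP F 2] (h8 : ∀ x : F, x ^ 8 = x) (a1 b1 a2 b2 a3 b3 : F) :
    coc a1 b1 a2 b2 + coc (a1 + a2) (b1 + b2 + a1 ^ 4 * a2) a3 b3 =
      coc a2 b2 a3 b3 + coc a1 b1 (a2 + a3) (b2 + b3 + a2 ^ 4 * a3) := by
  simp only [coc]
  have h2 := CharTwo.two_eq_zero (R := F)
  have h4 : (4 : F) = 0 := by linear_combination 2 * h2
  have h6 : (6 : F) = 0 := by linear_combination 3 * h2
  have h10 : (10 : F) = 0 := by linear_combination 5 * h2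
  have h20 : (20 : F) = 0 := by linear_combination 10 * h2
  apply sub_eq_zero.1
  ring_nf
  simp [h2, h4, h6, h10, h20, h8]
  linear_combination (-7 * a2 ^ 2 * a1 * a3 ^ 4) * h2

/-- The central extension of the unipotent group by the additive group of the field. -/
@[ext] structure Ext8 (F : Type*) [Field F] [CharP F 2] (h8 : ∀ x : F, x ^ 8 = x) where
  z : F
  a : F
  b : F

variable [CharP F 2] {h8 : ∀ x : F, x ^ 8 = x}

instance : Mul (Ext8 F h8) :=
  ⟨fun x y => ⟨x.z + y.z + coc x.a x.b y.a y.b, x.a + y.a, x.b + y.b + x.a ^ 4 * y.a⟩⟩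

instance : One (Ext8 F h8) := ⟨⟨0, 0, 0⟩⟩

instance : Inv (Ext8 F h8) :=
  ⟨fun x => ⟨x.z + coc x.a (x.b + x.a ^ 4 * x.a) x.a x.b, x.a, x.b + x.a ^ 4 * x.a⟩⟩

@[simp] theorem mul_z (x y : Ext8 F h8) : (x * y).z = x.z + y.z + coc x.a x.b y.a y.b := rfl
@[simp] theorem mul_a (x y : Ext8 F h8) : (x * y).a = x.a + y.a := rfl
@[simp] theorem mul_b (x y : Ext8 F h8) : (x * y).b = x.b + y.b + x.a ^ 4 * y.a := rfl
@[simp] theorem one_z : (1 : Ext8 F h8).z = 0 := rfl
@[simp] theorem one_a : (1 : Ext8 F h8).a = 0 := rfl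
@[simp] theorem one_b : (1 : Ext8 F h8).b = 0 := rfl
@[simp] theorem inv_z (x : Ext8 F h8) :
    x⁻¹.z = x.z + coc x.a (x.b + x.a ^ 4 * x.a) x.a x.b := rfl
@[simp] theorem inv_a (x : Ext8 F h8) : x⁻¹.a = x.a := rfl
@[simp] theorem inv_b (x : Ext8 F h8) : x⁻¹.b = x.b + x.a ^ 4 * x.a := rfl

instance : Group (Ext8 F h8) :=
  Group.ofLeftAxioms
    (fun x y w => Ext8.ext
      (by
        simp only [mul_z, mul_a, mul_b]
        linear_combination coc_rule h8 x.a x.b y.a y.b w.a w.b)
      (by simp [add_assoc])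
      (by
        simp only [mul_a, mul_b]
        linear_combination (2 * x.a ^ 3 * y.a + 3 * x.a ^ 2 * y.a ^ 2 + 2 * x.a * y.a ^ 3) * w.a *
          CharTwo.two_eq_zero (R := F)))
    (fun x => Ext8.ext (by simp [coc]) (by simp) (by simp))
    (fun x => Ext8.ext
      (by
        simp only [mul_z, inv_z, inv_a, inv_b, one_z]
        linear_combination (x.z + coc x.a (x.b + x.a ^ 4 * x.a) x.a x.b) * CharTwo.two_eq_zero (R := F))
      (by simp [CharTwo.add_self_eq_zero])
      (by
        simp only [mul_b, inv_a, inv_b, one_b]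
        linear_combination (x.b + x.a ^ 4 * x.a) * CharTwo.two_eq_zero (R := F)))

instance [Finite F] : Finite (Ext8 F h8) :=
  Finite.of_injective (fun x => (x.z, x.a, x.b)) fun x y e => by
    simp only [Prod.mk.injEq] at e
    exact Ext8.ext e.1 e.2.1 e.2.2

variable [Fintype F]

theorem pow_eight (hF : Fintype.card F = 8) (x : F) : x ^ 8 = x := hF ▸ FiniteField.pow_card x

theorem th_one (x : F) : th 1 x = x ^ 4 := th_def 1 x

/-- The projection onto the unipotent group. -/
def proj (h : ThSq F 1) : Ext8 F h8 →* Cfsg.Sz F 1 :=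
  MonoidHom.mk' (fun x => tG h x.a x.b) fun x y => by
    rw [tG_mul, mul_a, mul_b, th_one]
    congr 1
    · exact add_comm _ _
    · ring

theorem proj_apply (h : ThSq F 1) (x : Ext8 F h8) : proj h x = tG h x.a x.b := rfl

theorem proj_range (h : ThSq F 1) : (proj (h8 := h8) h).range = uSub h := by
  ext g
  constructor
  · rintro ⟨x, rfl⟩; exact ⟨_, _, rfl⟩
  · rintro ⟨a, b, rfl⟩; exact ⟨⟨0, a, b⟩, rfl⟩

theorem mem_ker_proj {h : ThSq F 1} {x : Ext8 F h8} : x ∈ (proj h).ker ↔ x.a = 0 ∧ x.b = 0 := by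
  rw [MonoidHom.mem_ker, proj_apply, tG_eq_one]

theorem ker_proj_le_center (h : ThSq F 1) : (proj (h8 := h8) h).ker ≤ Subgroup.center _ := by
  intro x hx
  obtain ⟨ha, hb⟩ := mem_ker_proj.1 hx
  refine Subgroup.mem_center_iff.2 fun y => Ext8.ext ?_ ?_ ?_ <;>
    simp [coc, ha, hb, add_comm]

/-- The image of an element `v` in the kernel. -/
def kz (h : ThSq F 1) (v : F) : (proj (h8 := h8) h).ker := ⟨⟨v, 0, 0⟩, mem_ker_proj.2 ⟨rfl, rfl⟩⟩

theorem kz_injective (h : ThSq F 1) : Function.Injective (kz (h8 := h8) h) := fun v w e =>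
  congrArg (fun k : (proj (h8 := h8) h).ker => (k : Ext8 F h8).z) e

theorem kz_mul (h : ThSq F 1) (v w : F) :
    kz (h8 := h8) h v * kz h w = kz h (v + w) := Subtype.ext (Ext8.ext (by simp [kz, coc]) (by simp [kz])
      (by simp [kz]))

/-- A four-element subgroup of the kernel consists of commutators of the corestriction. -/
theorem exists_stem_four.{u} {F : Type u} [Field F] [CharP F 2] [Fintype F] (hF : Fintype.card F = 8) :
    ∃ (Γ : Type u) (_ : Group Γ) (_ : Finite Γ) (τ : Γ →* Cfsg.Sz F 1),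
      Cfsg.IsStemExtension τ ∧ 4 ≤ Nat.card τ.ker := by
  classical
  have hF' : Fintype.card F = 2 ^ (2 * 1 + 1) := hF
  set h := thSq_of_card hF'
  have hm : (1 : ℕ) ≤ 1 := le_rfl
  let π : Ext8 F (pow_eight hF) →* Cfsg.Sz F 1 := proj h
  let U := uSub h
  let I := Cfsg.Sz F 1 ⧸ U
  letI : Fintype I := Fintype.ofFinite I
  have hπU : π.range = U := proj_range h
  -- a coset moved by one element of `U` is moved by all of them
  have hfree : ∀ (i : I) (u : Cfsg.Sz F 1), u ∈ U → u ≠ 1 → u • i = i → ∀ v ∈ U, v • i = i := by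
    intro i u hu hu1 hfix v hv
    obtain ⟨g, rfl⟩ := QuotientGroup.mk_surjective i
    have h1 : g⁻¹ * u * g⁻¹⁻¹ ∈ U := by
      have := QuotientGroup.eq.1 (show ((u * g : Cfsg.Sz F 1) : I) = g from hfix)
      have := inv_mem this
      simpa [mul_assoc] using this
    have hg : g ∈ bSub F 1 :=
      inv_mem_iff.1 (mem_bSub_of_conj hu hu1 (uSub_le_bSub h h1))
    refine (QuotientGroup.eq (s := U)).2 ?_
    have := conj_mem_uSub hm hF' (inv_mem hg) (inv_mem hv)
    simpa [mul_assoc, smul_eq_mul] using this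
  let P : I → Prop := fun i => ∀ v ∈ U, v • i = i
  -- representatives compatible with the free orbits
  let rep : I → I := fun i => (Quotient.mk (MulAction.orbitRel U I) i).out
  have hrep : ∀ i, ∃ u : U, u • rep i = i := fun i => by
    have hh : rep i ∈ MulAction.orbit U i := Quotient.mk_out (s := MulAction.orbitRel U I) i
    obtain ⟨u, hu⟩ := hh
    exact ⟨u⁻¹, by rw [← hu]; exact inv_smul_smul u i⟩
  have hrepU : ∀ (u : U) i, rep (u • i) = rep i := fun u i =>
    congrArg Quotient.out (Quotient.sound (s := MulAction.orbitRel U I) (MulAction.mem_orbit i u))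
  choose ρ hρ using hrep
  let t : I → Cfsg.Sz F 1 := fun i => if P i then i.out else (ρ i : Cfsg.Sz F 1) * (rep i).out
  have htmk : ∀ i, ((t i : Cfsg.Sz F 1) : I) = i := fun i => by
    by_cases hi : P i
    · simp only [t, if_pos hi, QuotientGroup.out_eq']
    · simp only [t, if_neg hi]
      conv_rhs => rw [← hρ i]
      show (((ρ i : Cfsg.Sz F 1) * (rep i).out : Cfsg.Sz F 1) : I) = (ρ i : Cfsg.Sz F 1) • rep i
      conv_rhs => rw [← QuotientGroup.out_eq' (rep i)]
      rfl
  have hPu : ∀ {i} (u : U), P i → P (u • i) := fun {i} u hi => by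
    rw [show u • i = i from hi u u.2]; exact hi
  have htfree : ∀ i, ¬ P i → ∀ u : U, t (u • i) = (u : Cfsg.Sz F 1) * t i := by
    intro i hi u
    have hi' : ¬ P (u • i) := fun h' => hi (by
      have := hPu u⁻¹ h'
      rwa [inv_smul_smul] at this)
    have hr : ¬ P (rep i) := fun h' => hi (by
      have := hPu (ρ i) h'
      rwa [hρ] at this)
    have he : ρ (u • i) = u * ρ i := by
      have e1 := hρ (u • i)
      rw [hrepU] at e1
      by_contra hne
      apply hr
      refine hfree (rep i) _ ((ρ (u • i))⁻¹ * (u * ρ i)).2 (fun e => hne ?_) ?_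
      · exact inv_mul_eq_one.1 (Subtype.ext e)
      · show ((ρ (u • i))⁻¹ * (u * ρ i)) • rep i = rep i
        rw [mul_smul, mul_smul, hρ, inv_smul_eq_iff, e1]
    simp only [t, if_neg hi, if_neg hi', hrepU, he, Subgroup.coe_mul, mul_assoc]
  have htrange : ∀ g i, (t i)⁻¹ * g * t (g⁻¹ • i) ∈ π.range := by
    intro g i
    have e : ((g * t (g⁻¹ • i) : Cfsg.Sz F 1) : I) = i := by
      show g • ((t (g⁻¹ • i) : Cfsg.Sz F 1) : I) = i
      rw [htmk, smul_inv_smul]
    rw [hπU, mul_assoc]
    exact QuotientGroup.eq.1 ((htmk i).trans e.symm)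
  obtain ⟨E', _, _, σ', ι, hsurj, hcen, hinj, hrange, hcores⟩ :=
    KnownA.Cores.exists_cores ((1 : Cfsg.Sz F 1) : I) π (ker_proj_le_center h) t htrange
  -- the commutator of the lifts
  have hcomm : ∀ v, ι (kz h (v + v ^ 2)) ∈ commutator E' := by
    intro v
    set x := tG h (1 : F) 0
    set y := tG h (0 : F) v
    have hxU : x ∈ U := ⟨_, _, rfl⟩
    have hyU : y ∈ U := ⟨_, _, rfl⟩
    have hfix : ∀ i, P i → ∃ a b d : F, (t i)⁻¹ * x * t i = tG h a b ∧
        (t i)⁻¹ * y * t i = tG h 0 d ∧ a ^ 2 * d = v := by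
      intro i hi
      have hg : t i ∈ bSub F 1 := by
        have h1 : ((x * t i : Cfsg.Sz F 1) : I) = ((t i : Cfsg.Sz F 1) : I) := by
          show x • ((t i : Cfsg.Sz F 1) : I) = _
          rw [htmk]; exact hi x hxU
        have h2 := inv_mem (QuotientGroup.eq.1 h1)
        exact inv_mem_iff.1 (mem_bSub_of_conj hxU (fun e => one_ne_zero ((tG_eq_one h).1 e).1)
          (uSub_le_bSub h (by simpa [mul_assoc] using h2)))
      obtain ⟨a₀, b₀, s, e⟩ := exists_of_mem_bSub hm hF' hg
      have hxe : (tG h a₀ b₀)⁻¹ * x * tG h a₀ b₀ = tG h 1 (a₀ + a₀ ^ 4) := by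
        rw [tG_inv, tG_mul, tG_mul]
        congr 1
        · linear_combination a₀ * CharTwo.two_eq_zero (R := F)
        · simp only [map_add, th_one, one_pow]
          linear_combination (b₀ + a₀ ^ 5) * CharTwo.two_eq_zero (R := F)
      have hye : (tG h a₀ b₀)⁻¹ * y * tG h a₀ b₀ = y := by
        rw [mul_assoc, ← zSub_comm_uSub (z := y) ⟨v, rfl⟩ (⟨a₀, b₀, rfl⟩ : tG h a₀ b₀ ∈ uSub h),
          inv_mul_cancel_left]
      set r := s⁻¹
      refine ⟨th 1 (r : F) * 1, th 1 (r : F) * (r : F) ^ 2 * (a₀ + a₀ ^ 4),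
        th 1 (r : F) * (r : F) ^ 2 * v, ?_, ?_, ?_⟩
      · calc (t i)⁻¹ * x * t i = hG h r * ((tG h a₀ b₀)⁻¹ * x * tG h a₀ b₀) * (hG h r)⁻¹ := by
              rw [e, map_inv]; group
          _ = _ := by rw [hxe, hG_conj]
      · calc (t i)⁻¹ * y * t i = hG h r * ((tG h a₀ b₀)⁻¹ * y * tG h a₀ b₀) * (hG h r)⁻¹ := by
              rw [e, map_inv]; group
          _ = _ := by rw [hye, hG_conj, mul_zero]
      · have h7 : ((r : F)) ^ 7 = 1 := by
          have := FiniteField.pow_card_sub_one_eq_one (r : F) r.ne_zero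
          rwa [hF] at this
        rw [th_one]
        linear_combination v * ((r : F) ^ 7 + 1) * h7
    choose! a b d ha hd hv using hfix
    let X : I → Ext8 F (pow_eight hF) := fun i => if P i then ⟨0, a i, b i⟩ else 1
    let Y : I → Ext8 F (pow_eight hF) := fun i => if P i then ⟨0, 0, d i⟩ else 1
    let ζ : I → π.ker := fun i => if P i then kz h (v + v ^ 2) else 1
    have hmove : ∀ u ∈ U, ∀ i, u⁻¹ • i = if P i then i else u⁻¹ • i := fun u hu i => by
      by_cases hi : P i
      · rw [if_pos hi]; exact hi _ (inv_mem hu)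
      · rw [if_neg hi]
    have hlift : ∀ u ∈ U, ∀ i, ¬ P i → (t i)⁻¹ * u * t (u⁻¹ • i) = 1 := fun u hu i hi => by
      have := htfree i hi ⟨u⁻¹, inv_mem hu⟩
      rw [show t (u⁻¹ • i) = u⁻¹ * t i from this]
      group
    have hPinv : ∀ u ∈ U, ∀ i, ¬ P i → ¬ P (u⁻¹ • i) := fun u hu i hi h' => hi (by
      have h'' := hPu ⟨u, hu⟩ h'
      rwa [show (⟨u, hu⟩ : U) • (u⁻¹ • i) = i from smul_inv_smul u i] at h'')
    have hodd : Odd (Finset.univ.filter P).card := by
      have : Fact (Nat.Prime 2) := ⟨Nat.prime_two⟩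
      have h1 := (isPGroup_uSub hF').card_modEq_card_fixedPoints I
      have h2 : Nat.card I = U.index := rfl
      have h3 : Nat.card (MulAction.fixedPoints U I) = (Finset.univ.filter P).card := by
        rw [← Nat.card_eq_finsetCard]
        refine Nat.card_congr (Equiv.subtypeEquivRight fun i => ?_)
        simp only [MulAction.mem_fixedPoints, Finset.mem_filter, Finset.mem_univ, true_and, P]
        exact ⟨fun hh v hv => hh ⟨v, hv⟩, fun hh v => hh v v.2⟩
      rw [h2, h3] at h1
      have h4 := not_dvd_index_uSub hm hF'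
      rw [Nat.odd_iff]
      change ¬ 2 ∣ U.index at h4
      unfold Nat.ModEq at h1
      omega
    refine hcores x y ((zSub_comm_uSub (z := y) ⟨v, rfl⟩ hxU)) X Y ζ (fun i => ?_) (fun i => ?_)
      (fun i => ?_) (kz h (v + v ^ 2)) ?_
    · by_cases hi : P i
      · simp only [X, if_pos hi, π, proj_apply, hi _ (inv_mem hxU), ha i hi]
      · simp only [X, if_neg hi, map_one, hlift x hxU i hi]
    · by_cases hi : P i
      · simp only [Y, if_pos hi, π, proj_apply, hi _ (inv_mem hyU), hd i hi]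
      · simp only [Y, if_neg hi, map_one, hlift y hyU i hi]
    · by_cases hi : P i
      · simp only [X, Y, ζ, if_pos hi, hi _ (inv_mem hxU), hi _ (inv_mem hyU), kz]
        refine Ext8.ext ?_ (by simp) (by simp [add_comm])
        simp only [mul_z, mul_a, mul_b, coc]
        linear_combination (-(v + v ^ 2)) * CharTwo.two_eq_zero (R := F) -
          (1 + a i ^ 2 * d i + v) * hv i hi
      · simp only [X, Y, ζ, if_neg hi, if_neg (hPinv x hxU i hi), if_neg (hPinv y hyU i hi),
          OneMemClass.coe_one, mul_one]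
    · obtain ⟨n, hn⟩ := hodd
      rw [show (fun i => (⟨(ζ i : Ext8 F (pow_eight hF)), ker_proj_le_center h (ζ i).2⟩ :
          Subgroup.center (Ext8 F (pow_eight hF)))) =
          fun i => if P i then ⟨_, ker_proj_le_center h (kz h (v + v ^ 2)).2⟩ else 1 from
        funext fun i => by by_cases hi : P i <;> simp [ζ, hi] <;> rfl,
        ← Finset.prod_filter, Finset.prod_const, hn, pow_succ, pow_mul]
      have : (⟨_, ker_proj_le_center h (kz h (v + v ^ 2)).2⟩ :
          Subgroup.center (Ext8 F (pow_eight hF))) ^ 2 = 1 := by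
        rw [sq]
        refine Subtype.ext ?_
        show (kz h (v + v ^ 2) * kz h (v + v ^ 2) : π.ker).1 = 1
        rw [kz_mul, CharTwo.add_self_eq_zero]
        rfl
      rw [this, one_pow, one_mul]
  obtain ⟨Γ, _, _, τ, hτ, ψ, hψ⟩ := StructB.exists_stem_of_central σ' hsurj hcen
  refine ⟨Γ, inferInstance, inferInstance, τ, hτ, ?_⟩
  let χ : F →+ F := AddMonoidHom.mk' (fun v => v + v ^ 2) fun v w => by
    simp only [CharTwo.add_sq]; ring
  have hχker : Nat.card χ.ker ≤ 2 := by
    rw [← SetLike.coe_sort_coe, Nat.card_coe_set_eq]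
    refine (Set.ncard_le_ncard (t := ({0, 1} : Set F)) (fun v hv => ?_)).trans
      (le_trans (Set.ncard_insert_le _ _) (by simp))
    rcases mul_eq_zero.1 (show v * (1 + v) = 0 by
      have : v + v ^ 2 = 0 := hv
      linear_combination this) with h' | h'
    · exact Or.inl h'
    · exact Or.inr (CharTwo.add_eq_zero.1 h').symm
  have hχrange : 4 ≤ Nat.card χ.range := by
    have e := χ.ker.card_eq_card_quotient_mul_card_addSubgroup
    rw [Nat.card_congr (QuotientAddGroup.quotientKerEquivRange χ).toEquiv, Nat.card_eq_fintype_card, hF] at e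
    nlinarith [Nat.mul_le_mul_left (Nat.card χ.range) hχker]
  refine le_trans ?_ (Nat.le_of_dvd Nat.card_pos (Subgroup.card_range_dvd ψ))
  refine hχrange.trans (Nat.card_le_card_of_injective
    (fun v => (⟨⟨ι (kz h v), hrange ⟨_, rfl⟩⟩, hψ _ (by
      obtain ⟨w, hw⟩ := v.2
      show ι (kz h (v : F)) ∈ _
      rw [← hw]; exact hcomm w)⟩ : ψ.range)) fun v w e => ?_)
  exact Subtype.ext (kz_injective h (hinj (congrArg (fun k : ψ.range => ((k : σ'.ker) : E')) e)))

end CfsgLib.Suzuki.Eight
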