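import Cfsg.Agent.Lib.Suzuki.Schur
import Cfsg.Agent.Lib.KnownA.AltMult.General

/-!
Stem extensions of the Suzuki group over the field with 8 elements: the kernel is a quotient of a four-group.
-/

set_option autoImplicit false
set_option linter.unusedSectionVars false

namespace CfsgLib.Suzuki.Eight

open Matrix Cfsg CfsgLib.Suzuki
open scoped commutatorElement

section Central

variable {Γ G : Type*} [Group Γ] [Group G] {σ : Γ →* G} (hc : σ.ker ≤ Subgroup.center Γ)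

include hc

theorem cen_mul {z : Γ} (hz : σ z = 1) (g : Γ) : g * z = z * g := Subgroup.mem_center_iff.1 (hc hz) g

/-- Commutators depend on the images only. -/
theorem comm_congr {x x' y y' : Γ} (ex : σ x = σ x') (ey : σ y = σ y') : ⁅x, y⁆ = ⁅x', y'⁆ := by
  have hlift : ∀ {x x' : Γ}, σ x = σ x' → ∃ z, σ z = 1 ∧ x = x' * z := fun {x x'} e =>
    ⟨x'⁻¹ * x, by rw [map_mul, map_inv, e, inv_mul_cancel], by group⟩
  obtain ⟨z, hz, rfl⟩ := hlift ex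
  obtain ⟨w, hw, rfl⟩ := hlift ey
  simp only [commutatorElement_def, _root_.mul_inv_rev]
  calc x' * z * (y' * w) * (z⁻¹ * x'⁻¹) * (w⁻¹ * y'⁻¹)
      = x' * (z * (y' * w)) * z⁻¹ * x'⁻¹ * w⁻¹ * y'⁻¹ := by group
    _ = x' * y' * (w * x'⁻¹) * w⁻¹ * y'⁻¹ := by rw [← cen_mul hc hz (y' * w)]; group
    _ = x' * y' * x'⁻¹ * y'⁻¹ := by rw [← cen_mul hc hw x'⁻¹]; group

theorem comm_conj (T x y : Γ) (e : σ ⁅x, y⁆ = 1) : ⁅T * x * T⁻¹, T * y * T⁻¹⁆ = ⁅x, y⁆ := by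
  calc ⁅T * x * T⁻¹, T * y * T⁻¹⁆ = T * ⁅x, y⁆ * T⁻¹ := by simp only [commutatorElement_def]; group
    _ = ⁅x, y⁆ := by rw [cen_mul hc e T, mul_inv_cancel_right]

theorem comm_mul_left (x x' y : Γ) (e : σ ⁅x', y⁆ = 1) : ⁅x * x', y⁆ = ⁅x, y⁆ * ⁅x', y⁆ := by
  calc ⁅x * x', y⁆ = x * ⁅x', y⁆ * x⁻¹ * ⁅x, y⁆ := by simp only [commutatorElement_def]; group
    _ = ⁅x', y⁆ * ⁅x, y⁆ := by rw [cen_mul hc e x, mul_inv_cancel_right]
    _ = ⁅x, y⁆ * ⁅x', y⁆ := (cen_mul hc e _).symm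

theorem comm_mul_right (x y y' : Γ) (e : σ ⁅x, y'⁆ = 1) : ⁅x, y * y'⁆ = ⁅x, y⁆ * ⁅x, y'⁆ := by
  calc ⁅x, y * y'⁆ = ⁅x, y⁆ * (y * ⁅x, y'⁆ * y⁻¹) := by simp only [commutatorElement_def]; group
    _ = ⁅x, y⁆ * ⁅x, y'⁆ := by rw [cen_mul hc e y, mul_inv_cancel_right]

/-- The commutator of two elements translated by commuting elements with central commutators. -/
theorem comm_mul_mul (u w y z : Γ) (hyw : σ ⁅y, w⁆ = 1) (huz : σ ⁅u, z⁆ = 1) (huw : u * w = w * u)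
    (huc : u * ⁅y, z⁆ = ⁅y, z⁆ * u) (hwc : w * ⁅y, z⁆ = ⁅y, z⁆ * w) :
    ⁅u * y, w * z⁆ = ⁅y, w⁆ * ⁅u, z⁆ * ⁅y, z⁆ := by
  set c := ⁅y, z⁆ with hc'
  set g := ⁅y, w⁆ with hg
  set d := ⁅u, z⁆ with hd
  have h1 : y * w = g * (w * y) := by rw [hg, commutatorElement_def]; group
  have h2 : z * u⁻¹ * z⁻¹ = d * u⁻¹ := by
    calc z * u⁻¹ * z⁻¹ = u⁻¹ * d := by rw [hd, commutatorElement_def]; group
      _ = _ := cen_mul hc huz _
  have h3 : u * w * c * u⁻¹ * w⁻¹ = c := by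
    rw [huw, mul_assoc w u c, huc, ← mul_assoc w c u, mul_inv_cancel_right, hwc, mul_inv_cancel_right]
  calc ⁅u * y, w * z⁆ = u * (y * w) * (z * y⁻¹ * z⁻¹) * (z * u⁻¹ * z⁻¹) * w⁻¹ := by
        simp only [commutatorElement_def]; group
    _ = (u * g) * (w * y) * (z * y⁻¹ * z⁻¹) * (d * u⁻¹) * w⁻¹ := by rw [h1, h2]; group
    _ = g * (u * w * c * d) * u⁻¹ * w⁻¹ := by
        rw [cen_mul hc hyw u, hc', commutatorElement_def]; group
    _ = g * (d * (u * w * c)) * u⁻¹ * w⁻¹ := by rw [cen_mul hc huz (u * w * c)]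
    _ = g * d * (u * w * c * u⁻¹ * w⁻¹) := by group
    _ = _ := by rw [h3]

end Central

section Stem

variable {F : Type*} [Field F] [CharP F 2] [Fintype F] {m : ℕ}
variable {Γ : Type*} [Group Γ] [Finite Γ] {σ : Γ →* Cfsg.Sz F m}

/-- `stem_uSub` under the hypothesis that the preimage of the centre is central in that of `U`. -/
theorem stem_uSub_of (hm1 : 1 ≤ m) (hF : Fintype.card F = 2 ^ (2 * m + 1))
    (hσ : Cfsg.IsStemExtension σ)
    (hZA' : ∀ x y b a, σ x = tG (thSq_of_card hF) 0 b → σ y = tG (thSq_of_card hF) a 0 → ⁅x, y⁆ = 1) :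
    ∀ x ∈ σ.ker, x ∈ ⁅(uSub (thSq_of_card hF)).comap σ, (uSub (thSq_of_card hF)).comap σ⁆ → x = 1 := by
  set h := thSq_of_card hF
  choose sec hsec using hσ.1
  have cen : ∀ z : Γ, σ z = 1 → ∀ g : Γ, g * z = z * g := fun z hz g =>
    Subgroup.mem_center_iff.1 (hσ.2.1 hz) g
  have hlift : ∀ {x x' : Γ}, σ x = σ x' → ∃ z, σ z = 1 ∧ x = x' * z := fun {x x'} e =>
    ⟨x'⁻¹ * x, by rw [map_mul, map_inv, e, inv_mul_cancel], by group⟩
  -- commutators only depend on images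
  have hwell : ∀ {x x' y y' : Γ}, σ x = σ x' → σ y = σ y' → ⁅x, y⁆ = ⁅x', y'⁆ := by
    intro x x' y y' ex ey
    obtain ⟨z, hz, rfl⟩ := hlift ex
    obtain ⟨w, hw, rfl⟩ := hlift ey
    simp only [commutatorElement_def, _root_.mul_inv_rev]
    calc x' * z * (y' * w) * (z⁻¹ * x'⁻¹) * (w⁻¹ * y'⁻¹)
        = x' * (z * (y' * w)) * z⁻¹ * x'⁻¹ * w⁻¹ * y'⁻¹ := by group
      _ = x' * y' * (w * x'⁻¹) * w⁻¹ * y'⁻¹ := by rw [← cen z hz (y' * w)]; group
      _ = x' * y' * x'⁻¹ * y'⁻¹ := by rw [← cen w hw x'⁻¹]; group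
  have hconjc : ∀ (T x y : Γ), σ ⁅x, y⁆ = 1 → ⁅T * x * T⁻¹, T * y * T⁻¹⁆ = ⁅x, y⁆ := by
    intro T x y e
    calc ⁅T * x * T⁻¹, T * y * T⁻¹⁆ = T * ⁅x, y⁆ * T⁻¹ := by simp only [commutatorElement_def]; group
      _ = ⁅x, y⁆ := by rw [cen _ e T, mul_inv_cancel_right]
  have hmulL : ∀ (x x' y : Γ), σ ⁅x', y⁆ = 1 → ⁅x * x', y⁆ = ⁅x, y⁆ * ⁅x', y⁆ := by
    intro x x' y e
    calc ⁅x * x', y⁆ = x * ⁅x', y⁆ * x⁻¹ * ⁅x, y⁆ := by simp only [commutatorElement_def]; group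
      _ = ⁅x', y⁆ * ⁅x, y⁆ := by rw [cen _ e x, mul_inv_cancel_right]
      _ = ⁅x, y⁆ * ⁅x', y⁆ := (cen _ e _).symm
  have hmulR : ∀ (x y y' : Γ), σ ⁅x, y'⁆ = 1 → ⁅x, y * y'⁆ = ⁅x, y⁆ * ⁅x, y'⁆ := by
    intro x y y' e
    calc ⁅x, y * y'⁆ = ⁅x, y⁆ * (y * ⁅x, y'⁆ * y⁻¹) := by simp only [commutatorElement_def]; group
      _ = ⁅x, y⁆ * ⁅x, y'⁆ := by rw [cen _ e y, mul_inv_cancel_right]
  let Z : F → Γ := fun b => sec (tG h 0 b)
  let A : F → Γ := fun a => sec (tG h a 0)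
  let T : Fˣ → Γ := fun s => sec (hG h s)
  have hσZ : ∀ b, σ (Z b) = tG h 0 b := fun b => hsec _
  have hσA : ∀ a, σ (A a) = tG h a 0 := fun a => hsec _
  have hσT : ∀ s, σ (T s) = hG h s := fun s => hsec _
  have hTZ : ∀ s b, σ (T s * Z b * (T s)⁻¹) = tG h 0 (th m (s : F) * (s : F) ^ 2 * b) := fun s b => by
    rw [map_mul, map_mul, map_inv, hσT, hσZ, hG_conj_zero]
  have hTA : ∀ s a, σ (T s * A a * (T s)⁻¹) = tG h (th m (s : F) * a) 0 := fun s a => by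
    rw [map_mul, map_mul, map_inv, hσT, hσA, hG_conj, mul_zero]
  have hZadd : ∀ b b', σ (Z b * Z b') = tG h 0 (b + b') := fun b b' => by
    rw [map_mul, hσZ, hσZ, tG_mul, map_zero, zero_mul, add_zero, add_zero, add_comm]
  -- the preimage of the centre is abelian
  have hZkerU : ∀ b u, u ∈ uSub h → ∀ x, σ x = u → σ ⁅Z b, x⁆ = 1 := fun b u hu x hx => by
    rw [map_commutatorElement, hσZ, hx, commutatorElement_eq_one_iff_mul_comm]
    exact (zSub_comm_uSub ⟨b, rfl⟩ hu).symm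
  obtain ⟨t, ht0, ht1, ht3⟩ := exists_no_cube_root hF hm1
  have hZZ : ∀ b b', ⁅Z b, Z b'⁆ = 1 := by
    refine pairing_self_eq_one (fun b b' => ⁅Z b, Z b'⁆) ?_ ?_ ?_ ht0 ht1 ht3
    · intro a a' b
      rw [← hmulL _ _ _ (hZkerU a' _ ⟨_, _, rfl⟩ _ (hσZ b))]
      exact hwell (by rw [hσZ, hZadd]) rfl
    · intro a b b'
      rw [← hmulR _ _ _ (hZkerU a _ ⟨_, _, rfl⟩ _ (hσZ b'))]
      exact hwell rfl (by rw [hσZ, hZadd])
    · intro μ a b hμ
      obtain ⟨s, hs⟩ := exists_th_sq h hμ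
      rw [← hconjc (T s) (Z a) (Z b) (hZkerU a _ ⟨_, _, rfl⟩ _ (hσZ b))]
      exact hwell (by rw [hσZ, hTZ, hs]) (by rw [hσZ, hTZ, hs])
  have hZA : ∀ b a, ⁅Z b, A a⁆ = 1 := fun b a => hZA' _ _ b a (hσZ b) (hσA a)
  set P := (uSub h).comap σ
  set P₀ := (zSub h).comap σ
  have hdecomp : ∀ x ∈ P, ∃ a b, σ x = σ (A a * Z b) := fun x hx => by
    obtain ⟨a, b, e⟩ := (Subgroup.mem_comap.1 hx : σ x ∈ uSub h)
    exact ⟨a, b, by rw [map_mul, hσA, hσZ, e, tG_mul, mul_zero, add_zero, add_zero, zero_add]⟩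
  have hP₀P : ∀ v ∈ P₀, ∀ x ∈ P, v * x = x * v := by
    intro v hv x hx
    obtain ⟨b, hb⟩ := (Subgroup.mem_comap.1 hv : σ v ∈ zSub h)
    obtain ⟨a, b', e⟩ := hdecomp x hx
    rw [← commutatorElement_eq_one_iff_mul_comm, hwell (x' := Z b) (by rw [hb, hσZ]) e,
      hmulR _ _ _ (hZkerU b _ ⟨_, _, rfl⟩ _ (hσZ b')), hZA, hZZ, one_mul]
  -- the complement in the preimage of the centre
  obtain ⟨s₀, hs₀⟩ := exists_unit_ne_one hm1 hF
  have hT₀ : ∀ v ∈ P₀, T s₀ * v * (T s₀)⁻¹ * v⁻¹ ∈ P₀ := by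
    intro v hv
    obtain ⟨b, hb⟩ := (Subgroup.mem_comap.1 hv : σ v ∈ zSub h)
    refine Subgroup.mem_comap.2 ?_
    rw [map_mul, map_mul, map_mul, map_inv, map_inv, hσT, hb, hG_conj_zero]
    exact mul_mem ⟨_, rfl⟩ (inv_mem ⟨_, rfl⟩)
  let ψ : P₀ →* Γ :=
    { toFun := fun v => T s₀ * v.1 * (T s₀)⁻¹ * v.1⁻¹
      map_one' := by simp
      map_mul' := fun v w => by
        have hPP : ∀ {u}, u ∈ P₀ → u ∈ P := fun {u} hu => zSub_le h hu
        calc T s₀ * (v.1 * w.1) * (T s₀)⁻¹ * (v.1 * w.1)⁻¹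
            = T s₀ * v.1 * (T s₀)⁻¹ * ((T s₀ * w.1 * (T s₀)⁻¹ * w.1⁻¹) * v.1⁻¹) := by group
          _ = T s₀ * v.1 * (T s₀)⁻¹ * (v.1⁻¹ * (T s₀ * w.1 * (T s₀)⁻¹ * w.1⁻¹)) := by
              rw [hP₀P _ (hT₀ _ w.2) _ (hPP (inv_mem v.2))]
          _ = T s₀ * v.1 * (T s₀)⁻¹ * v.1⁻¹ * (T s₀ * w.1 * (T s₀)⁻¹ * w.1⁻¹) := by group }
  set W := ψ.range
  have hψ : ∀ v : P₀, ψ v = T s₀ * v.1 * (T s₀)⁻¹ * v.1⁻¹ := fun v => rfl
  have hWP₀ : W ≤ P₀ := by rintro _ ⟨v, rfl⟩; exact hT₀ _ v.2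
  have hWker : ∀ x ∈ W, σ x = 1 → x = 1 := by
    rintro _ ⟨v, rfl⟩ hx
    obtain ⟨b, hb⟩ := (Subgroup.mem_comap.1 v.2 : σ v.1 ∈ zSub h)
    have e : tG h 0 (th m (s₀ : F) * (s₀ : F) ^ 2 * b) = tG h 0 b := by
      rw [← hG_conj_zero, ← mul_inv_eq_one, ← hb, ← hσT, ← map_inv, ← map_inv, ← map_mul,
        ← map_mul, ← map_mul]
      exact hx
    have hb0 : b = 0 := by
      by_contra hb0
      exact th_sq_ne_one h hs₀ (mul_right_cancel₀ hb0 (by rw [one_mul]; exact (tG_inj h e).2))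
    have hv : σ v.1 = 1 := by rw [hb, hb0, tG_zero]
    rw [hψ, cen _ hv (T s₀), mul_inv_cancel_right, mul_inv_cancel]
  have hWnorm : ∀ s x, x ∈ W → T s * x * (T s)⁻¹ ∈ W := by
    rintro s _ ⟨v, rfl⟩
    obtain ⟨b, hb⟩ := (Subgroup.mem_comap.1 v.2 : σ v.1 ∈ zSub h)
    obtain ⟨z, hz, e⟩ := hlift (show σ (T s * T s₀) = σ (T s₀ * T s) by
      rw [map_mul, map_mul, hσT, hσT, ← map_mul, ← map_mul, mul_comm])
    refine ⟨⟨T s * v.1 * (T s)⁻¹, Subgroup.mem_comap.2 ?_⟩, ?_⟩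
    · rw [map_mul, map_mul, map_inv, hσT, hb, hG_conj_zero]; exact ⟨_, rfl⟩
    · rw [hψ, hψ]
      symm
      calc T s * (T s₀ * v.1 * (T s₀)⁻¹ * v.1⁻¹) * (T s)⁻¹
          = (T s * T s₀) * v.1 * (T s * T s₀)⁻¹ * (T s * v.1 * (T s)⁻¹)⁻¹ := by group
        _ = T s₀ * T s * (z * v.1) * z⁻¹ * (T s₀ * T s)⁻¹ * (T s * v.1 * (T s)⁻¹)⁻¹ := by
            rw [e]; group
        _ = _ := by rw [← cen z hz v.1]; group
  have hWcover : ∀ v ∈ P₀, ∃ w ∈ W, σ w = σ v := by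
    intro v hv
    obtain ⟨b, hb⟩ := (Subgroup.mem_comap.1 hv : σ v ∈ zSub h)
    have hne : th m (s₀ : F) * (s₀ : F) ^ 2 + 1 ≠ 0 := fun e => th_sq_ne_one h hs₀
      (by linear_combination e - CharTwo.two_eq_zero (R := F))
    refine ⟨_, ⟨⟨Z (b / (th m (s₀ : F) * (s₀ : F) ^ 2 + 1)),
      Subgroup.mem_comap.2 (by rw [hσZ]; exact ⟨_, rfl⟩)⟩, rfl⟩, ?_⟩
    rw [hψ, map_mul, map_inv, hTZ, hσZ, hb, tG_inv, tG_mul, map_zero, zero_mul, add_zero, add_zero,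
      add_zero]
    congr 1
    field_simp
    ring
  -- conjugation acts trivially modulo `W`
  have hmod : ∀ s, ∀ v ∈ P₀, T s * v * (T s)⁻¹ * v⁻¹ ∈ W := by
    intro s v hv
    obtain ⟨w, hw, e⟩ := hWcover v hv
    obtain ⟨z, hz, rfl⟩ := hlift e.symm
    rw [show T s * (w * z) * (T s)⁻¹ * (w * z)⁻¹ =
      T s * w * (z * (T s)⁻¹) * z⁻¹ * w⁻¹ by group, ← cen z hz,
      show T s * w * ((T s)⁻¹ * z) * z⁻¹ * w⁻¹ = T s * w * (T s)⁻¹ * w⁻¹ by group]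
    exact mul_mem (hWnorm s w hw) (inv_mem hw)
  have hAAmem : ∀ a a', ⁅A a, A a'⁆ ∈ P₀ := fun a a' => by
    refine Subgroup.mem_comap.2 ?_
    rw [map_commutatorElement, hσA, hσA, commutatorElement_def, tG_commutator]
    exact ⟨_, rfl⟩
  have hP₀comm : ∀ v w : P₀, v * w = w * v := fun v w =>
    Subtype.ext (hP₀P _ v.2 _ (zSub_le h w.2))
  have hnormal : (W.subgroupOf P₀).Normal := ⟨fun w hw v => by
    rwa [hP₀comm v w, mul_inv_cancel_right]⟩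
  have hAsum : ∀ a a', σ (A a * A a' * Z (th m a * a')) = σ (A (a + a')) := fun a a' => by
    rw [map_mul, map_mul, hσA, hσA, hσA, hσZ, tG_mul, tG_mul, mul_zero, add_zero]
    congr 1
    · rw [zero_add, add_comm]
    · linear_combination (th m a * a') * (CharTwo.two_eq_zero (R := F))
  have hAA : ∀ a a', ⁅A a, A a'⁆ ∈ W := by
    have hcenP : ∀ {c}, c ∈ P₀ → ∀ a, A a * c * (A a)⁻¹ = c := fun {c} hc a => by
      rw [← hP₀P c hc (A a) (Subgroup.mem_comap.2 (by rw [hσA]; exact ⟨_, _, rfl⟩)), mul_inv_cancel_right]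
    have hL : ∀ a a' b, ⁅A (a + a'), A b⁆ = ⁅A a, A b⁆ * ⁅A a', A b⁆ := fun a a' b => by
      have hZ1 : ⁅Z (th m a * a'), A b⁆ = 1 := hZA _ _
      rw [← hwell (hAsum a a') rfl, hmulL _ _ _ (by rw [hZ1, map_one]), hZ1, mul_one]
      calc ⁅A a * A a', A b⁆ = A a * ⁅A a', A b⁆ * (A a)⁻¹ * ⁅A a, A b⁆ := by
            simp only [commutatorElement_def]; group
        _ = ⁅A a', A b⁆ * ⁅A a, A b⁆ := by rw [hcenP (hAAmem a' b)]
        _ = _ := hP₀P _ (hAAmem a' b) _ (zSub_le h (hAAmem a b))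
    have hR : ∀ a b b', ⁅A a, A (b + b')⁆ = ⁅A a, A b⁆ * ⁅A a, A b'⁆ := fun a b b' => by
      rw [← commutatorElement_inv, hL b b' a, _root_.mul_inv_rev, commutatorElement_inv, commutatorElement_inv]
      exact hP₀P _ (hAAmem a b') _ (zSub_le h (hAAmem a b))
    intro a a'
    have key := pairing_self_eq_one (K := P₀ ⧸ W.subgroupOf P₀)
      (fun a a' => QuotientGroup.mk' _ (⟨⁅A a, A a'⁆, hAAmem a a'⟩ : P₀)) ?_ ?_ ?_ ht0 ht1 ht3 a a'
    · rw [QuotientGroup.mk'_apply, QuotientGroup.eq_one_iff] at key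
      exact key
    · intro a a' b
      rw [← map_mul]
      exact congrArg _ (Subtype.ext (hL a a' b))
    · intro a b b'
      rw [← map_mul]
      exact congrArg _ (Subtype.ext (hR a b b'))
    · intro μ a b hμ
      obtain ⟨s₁, rfl⟩ := th_surjective h μ
      have hs₁ : s₁ ≠ 0 := fun e => hμ (by rw [e, map_zero])
      refine ((QuotientGroup.eq_iff_div_mem).2 ?_)
      rw [Subgroup.mem_subgroupOf]
      show ⁅A (th m s₁ * a), A (th m s₁ * b)⁆ / ⁅A a, A b⁆ ∈ W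
      have e1 : ⁅A (th m s₁ * a), A (th m s₁ * b)⁆ =
          T (Units.mk0 s₁ hs₁) * ⁅A a, A b⁆ * (T (Units.mk0 s₁ hs₁))⁻¹ := by
        calc ⁅A (th m s₁ * a), A (th m s₁ * b)⁆
            = ⁅T (Units.mk0 s₁ hs₁) * A a * (T (Units.mk0 s₁ hs₁))⁻¹,
                T (Units.mk0 s₁ hs₁) * A b * (T (Units.mk0 s₁ hs₁))⁻¹⁆ :=
              hwell (by rw [hσA, hTA, Units.val_mk0]) (by rw [hσA, hTA, Units.val_mk0])
          _ = _ := by simp only [commutatorElement_def]; group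
      rw [e1, div_eq_mul_inv]
      exact hmod _ _ (hAAmem a b)
  intro x hx hxP
  refine hWker x ?_ hx
  refine (Subgroup.commutator_le.2 fun y hy y' hy' => ?_) hxP
  obtain ⟨a, b, e⟩ := hdecomp y hy
  obtain ⟨a', b', e'⟩ := hdecomp y' hy'
  rw [hwell e e']
  have hPA : ∀ a, A a ∈ P := fun a => Subgroup.mem_comap.2 (by rw [hσA]; exact ⟨_, _, rfl⟩)
  have hZP₀ : ∀ b, Z b ∈ P₀ := fun b => Subgroup.mem_comap.2 (by rw [hσZ]; exact ⟨_, rfl⟩)
  have c1 := hP₀P _ (hZP₀ b) _ (mul_mem (hPA a') (zSub_le h (hZP₀ b')))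
  have c2 := hP₀P _ (hZP₀ b') _ (hPA a)
  rw [show ⁅A a * Z b, A a' * Z b'⁆ =
      A a * (Z b * (A a' * Z b')) * (Z b)⁻¹ * (A a)⁻¹ * (A a' * Z b')⁻¹ by
    simp only [commutatorElement_def]; group, c1,
    show A a * (A a' * Z b' * Z b) * (Z b)⁻¹ * (A a)⁻¹ * (A a' * Z b')⁻¹ =
      A a * A a' * (Z b' * (A a)⁻¹) * (Z b')⁻¹ * (A a')⁻¹ by group,
    hP₀P _ (hZP₀ b') _ (inv_mem (hPA a)),
    show A a * A a' * ((A a)⁻¹ * Z b') * (Z b')⁻¹ * (A a')⁻¹ = ⁅A a, A a'⁆ by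
      simp only [commutatorElement_def]; group]
  exact hAA a a'

end Stem

section Eight

variable {F : Type*} [Field F] [CharP F 2] [Fintype F]
variable {Γ : Type*} [Group Γ] [Finite Γ] {σ : Γ →* Cfsg.Sz F 1}

/-- The commutators of lifts of the centre of `U` with lifts of `U`. -/
theorem exists_comm_map (hF : Fintype.card F = 2 ^ (2 * 1 + 1)) (hσ : Cfsg.IsStemExtension σ) :
    ∃ f : F → Γ, (∀ x y, f (x + y) = f x * f y) ∧ (∀ x, f x ∈ σ.ker) ∧ f 1 = 1 ∧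
      ∀ x y b a, σ x = tG (thSq_of_card hF) 0 b → σ y = tG (thSq_of_card hF) a 0 →
        ⁅x, y⁆ = f (a ^ 2 * b) := by
  set h := thSq_of_card hF
  have hc := hσ.2.1
  choose sec hsec using hσ.1
  have hpow : ∀ x : F, x ^ 8 = x := fun x => by
    have := FiniteField.pow_card x
    rwa [hF] at this
  have hth : ∀ x : F, th 1 x = x ^ 4 := fun x => th_def 1 x
  let Z : F → Γ := fun b => sec (tG h 0 b)
  let A : F → Γ := fun a => sec (tG h a 0)
  let T : Fˣ → Γ := fun s => sec (hG h s)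
  have hσZ : ∀ b, σ (Z b) = tG h 0 b := fun b => hsec _
  have hσA : ∀ a, σ (A a) = tG h a 0 := fun a => hsec _
  have hσT : ∀ s, σ (T s) = hG h s := fun s => hsec _
  have hTZ : ∀ s b, σ (T s * Z b * (T s)⁻¹) = tG h 0 (th 1 (s : F) * (s : F) ^ 2 * b) := fun s b => by
    rw [map_mul, map_mul, map_inv, hσT, hσZ, hG_conj_zero]
  have hTA : ∀ s a, σ (T s * A a * (T s)⁻¹) = tG h (th 1 (s : F) * a) 0 := fun s a => by
    rw [map_mul, map_mul, map_inv, hσT, hσA, hG_conj, mul_zero]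
  have hZadd : ∀ b b', σ (Z b * Z b') = tG h 0 (b + b') := fun b b' => by
    rw [map_mul, hσZ, hσZ, tG_mul, map_zero, zero_mul, add_zero, add_zero, add_comm]
  have hZU : ∀ b u, u ∈ uSub h → ∀ x, σ x = u → σ ⁅Z b, x⁆ = 1 := fun b u hu x hx => by
    rw [map_commutatorElement, hσZ, hx, commutatorElement_eq_one_iff_mul_comm]
    exact (zSub_comm_uSub ⟨b, rfl⟩ hu).symm
  obtain ⟨t, ht0, ht1, ht3⟩ := exists_no_cube_root hF le_rfl
  have hZZ : ∀ b b', ⁅Z b, Z b'⁆ = 1 := by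
    refine pairing_self_eq_one (fun b b' => ⁅Z b, Z b'⁆) ?_ ?_ ?_ ht0 ht1 ht3
    · intro a a' b
      rw [← comm_mul_left hc _ _ _ (hZU a' _ ⟨_, _, rfl⟩ _ (hσZ b))]
      exact comm_congr hc (by rw [hσZ, hZadd]) rfl
    · intro a b b'
      rw [← comm_mul_right hc _ _ _ (hZU a _ ⟨_, _, rfl⟩ _ (hσZ b'))]
      exact comm_congr hc rfl (by rw [hσZ, hZadd])
    · intro μ a b hμ
      obtain ⟨s, hs⟩ := exists_th_sq h hμ
      rw [← comm_conj hc (T s) (Z a) (Z b) (hZU a _ ⟨_, _, rfl⟩ _ (hσZ b))]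
      exact comm_congr hc (by rw [hσZ, hTZ, hs]) (by rw [hσZ, hTZ, hs])
  have hcomm : ∀ {u w : Γ} {b b' : F}, σ u = tG h 0 b → σ w = tG h 0 b' → u * w = w * u :=
    fun {u w b b'} hu hw => by
      rw [← commutatorElement_eq_one_iff_mul_comm,
        comm_congr hc (x' := Z b) (y' := Z b') (by rw [hu, hσZ]) (by rw [hw, hσZ]), hZZ]
  let β : F → F → Γ := fun b a => ⁅Z b, A a⁆
  have hl : ∀ b b' a, β (b + b') a = β b a * β b' a := fun b b' a => by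
    show _ = ⁅Z b, A a⁆ * ⁅Z b', A a⁆
    rw [← comm_mul_left hc _ _ _ (hZU b' _ ⟨_, _, rfl⟩ _ (hσA a))]
    exact comm_congr hc (by rw [hσZ, hZadd]) rfl
  have hinv : ∀ μ b a, μ ≠ 0 → β (μ * th 1 μ * b) (μ * a) = β b a := by
    intro μ b a hμ
    obtain ⟨s₀, rfl⟩ := th_surjective h μ
    have hs₀ : s₀ ≠ 0 := fun e => hμ (by rw [e, map_zero])
    show _ = ⁅Z b, A a⁆
    rw [← comm_conj hc (T (Units.mk0 s₀ hs₀)) (Z b) (A a) (hZU b _ ⟨_, _, rfl⟩ _ (hσA a))]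
    exact comm_congr hc (by rw [hσZ, hTZ, Units.val_mk0, h s₀]) (by rw [hσA, hTA, Units.val_mk0])
  let f : F → Γ := fun v => β v 1
  have hf0 : f 0 = 1 := by
    have := hl 0 0 1
    rw [add_zero, left_eq_mul] at this
    exact this
  have hβ : ∀ b a, β b a = f (a ^ 2 * b) := by
    intro b a
    rcases eq_or_ne a 0 with rfl | ha
    · rw [show (0 : F) ^ 2 * b = 0 by ring, hf0]
      show ⁅Z b, A 0⁆ = 1
      rw [comm_congr hc (x' := Z b) (y' := 1) rfl (by rw [hσA, tG_zero, map_one]), commutatorElement_one_right]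
    · have h7 : a ^ 7 = 1 := mul_left_cancel₀ ha (by linear_combination hpow a)
      have := hinv a (a ^ 2 * b) 1 ha
      rw [mul_one, show a * th 1 a * (a ^ 2 * b) = b by rw [hth]; linear_combination b * h7] at this
      exact this
  have hgen : ∀ x y b a, σ x = tG h 0 b → σ y = tG h a 0 → ⁅x, y⁆ = f (a ^ 2 * b) := fun x y b a hx hy => by
    rw [← hβ]
    exact comm_congr hc (by rw [hx, hσZ]) (by rw [hy, hσA])
  have hker : ∀ v, f v ∈ σ.ker := fun v => hZU v _ ⟨_, _, rfl⟩ _ (hσA 1)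
  have hinv1 : ∀ v, (f v)⁻¹ = f v := fun v => inv_eq_of_mul_eq_one_right (by
    rw [← hl, CharTwo.add_self_eq_zero]; exact hf0)
  refine ⟨f, fun v w => hl v w 1, hker, ?_, hgen⟩
  -- the identity of Hall and Witt
  have hAA : ∀ a a', σ ⁅A a, A a'⁆ = tG h 0 (a ^ 4 * a' + a' ^ 4 * a) := fun a a' => by
    rw [map_commutatorElement, hσA, hσA, commutatorElement_def, tG_commutator, hth, hth]
  have key : ∀ a1 a2 a3 : F, f (a1 ^ 2 * (a2 ^ 4 * a3 + a3 ^ 4 * a2) +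
      a2 ^ 2 * (a1 ^ 4 * a3 + a3 ^ 4 * a1) + a3 ^ 2 * (a1 ^ 4 * a2 + a2 ^ 4 * a1)) = 1 := by
    intro a1 a2 a3
    set x := A a1
    set y := A a2
    set z := A a3
    have hcyz : σ ⁅y, z⁆ = tG h 0 (a2 ^ 4 * a3 + a3 ^ 4 * a2) := hAA _ _
    have hu : σ ⁅x, y⁆ = tG h 0 (a1 ^ 4 * a2 + a2 ^ 4 * a1) := hAA _ _
    have hw : σ ⁅x, z⁆ = tG h 0 (a1 ^ 4 * a3 + a3 ^ 4 * a1) := hAA _ _
    have e1 := hgen _ _ _ _ hcyz (hσA a1)
    have e2 := hgen _ _ _ _ hw (hσA a2)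
    have e3 := hgen _ _ _ _ hu (hσA a3)
    have e1' : ⁅x, ⁅y, z⁆⁆ = f (a1 ^ 2 * (a2 ^ 4 * a3 + a3 ^ 4 * a2)) := by
      rw [← commutatorElement_inv, e1, hinv1]
    have e2' : ⁅y, ⁅x, z⁆⁆ = f (a2 ^ 2 * (a1 ^ 4 * a3 + a3 ^ 4 * a1)) := by
      rw [← commutatorElement_inv, e2, hinv1]
    have k2 : σ ⁅y, ⁅x, z⁆⁆ = 1 := by rw [e2']; exact hker _
    have k3 : σ ⁅⁅x, y⁆, z⁆ = 1 := by rw [e3]; exact hker _
    have e : x * ⁅y, z⁆ * x⁻¹ = ⁅⁅x, y⁆ * y, ⁅x, z⁆ * z⁆ := by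
      simp only [commutatorElement_def]; group
    rw [comm_mul_mul hc _ _ _ _ k2 k3 (hcomm hu hw) (hcomm hu hcyz) (hcomm hw hcyz)] at e
    have e' : ⁅x, ⁅y, z⁆⁆ = ⁅y, ⁅x, z⁆⁆ * ⁅⁅x, y⁆, z⁆ := by
      rw [commutatorElement_def, e, mul_inv_cancel_right]
    rw [e1', e2', e3, ← hl] at e'
    show β _ 1 = 1
    rw [add_assoc, hl, ← e', ← hl, CharTwo.add_self_eq_zero]
    exact hf0
  have h7 : t ^ 7 = 1 := mul_left_cancel₀ ht0 (by linear_combination hpow t)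
  have hsum : 1 + t + t ^ 2 + t ^ 3 + t ^ 4 + t ^ 5 + t ^ 6 = 0 :=
    (mul_eq_zero.1 (show (t - 1) * (1 + t + t ^ 2 + t ^ 3 + t ^ 4 + t ^ 5 + t ^ 6) = 0 by
      linear_combination h7)).resolve_left (sub_ne_zero.2 ht1)
  have := key 1 t (t ^ 2)
  rwa [show (1 : F) ^ 2 * (t ^ 4 * t ^ 2 + (t ^ 2) ^ 4 * t) + t ^ 2 * (1 ^ 4 * t ^ 2 + (t ^ 2) ^ 4 * 1) +
      (t ^ 2) ^ 2 * (1 ^ 4 * t + t ^ 4 * 1) = 1 by
    linear_combination (t ^ 2 + t ^ 3 + t) * h7 + hsum - CharTwo.two_eq_zero (R := F)] at this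

/-- Every kernel element is a value of the commutator map. -/
theorem stem_eight (hF : Fintype.card F = 2 ^ (2 * 1 + 1)) (hσ : Cfsg.IsStemExtension σ) :
    ∃ f : F → Γ, (∀ x y, f (x + y) = f x * f y) ∧ (∀ x, f x ∈ σ.ker) ∧ f 1 = 1 ∧
      ∀ z ∈ σ.ker, ∃ v, f v = z := by
  obtain ⟨f, hadd, hker, h1, hgen⟩ := exists_comm_map hF hσ
  refine ⟨f, hadd, hker, h1, fun z hz => ?_⟩
  set h := thSq_of_card hF
  let F' : Multiplicative F →* Γ := MonoidHom.mk' (fun v => f v.toAdd) fun v w => hadd _ _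
  let C := F'.range
  have hCker : C ≤ σ.ker := by rintro _ ⟨v, rfl⟩; exact hker _
  haveI : C.Normal := ⟨fun c hc g => by
    rwa [Subgroup.mem_center_iff.1 (hσ.2.1 (hCker hc)) g, mul_inv_cancel_right]⟩
  let σC := QuotientGroup.lift C σ hCker
  have hσC : Cfsg.IsStemExtension σC := by
    refine ⟨QuotientGroup.lift_surjective_of_surjective _ _ hσ.1 hCker, fun x hx => ?_, fun x hx => ?_⟩
    · obtain ⟨g, rfl⟩ := QuotientGroup.mk_surjective x
      refine Subgroup.mem_center_iff.2 fun y => ?_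
      obtain ⟨k, rfl⟩ := QuotientGroup.mk_surjective y
      rw [← QuotientGroup.mk_mul, ← QuotientGroup.mk_mul,
        Subgroup.mem_center_iff.1 (hσ.2.1 (show g ∈ σ.ker from hx)) k]
    · obtain ⟨g, rfl⟩ := QuotientGroup.mk_surjective x
      have := Subgroup.mem_map_of_mem (QuotientGroup.mk' C) (hσ.2.2 (show g ∈ σ.ker from hx))
      rw [commutator_def, Subgroup.map_commutator] at this
      exact Subgroup.commutator_mono le_top le_top this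
  have hU := stem_uSub_of le_rfl hF hσC (fun x y b a hx hy => by
    obtain ⟨x', rfl⟩ := QuotientGroup.mk_surjective x
    obtain ⟨y', rfl⟩ := QuotientGroup.mk_surjective y
    rw [← QuotientGroup.mk'_apply, ← QuotientGroup.mk'_apply, ← map_commutatorElement,
      hgen x' y' b a hx hy]
    exact (QuotientGroup.eq_one_iff _).2 ⟨Multiplicative.ofAdd _, rfl⟩)
  -- the order of `z` is a power of 2
  have hm1 : (1 : ℕ) ≤ 1 := le_rfl
  have hcyc : ∀ N : Subgroup (Cfsg.Sz F 1), IsCyclic N → z ^ N.index = 1 := by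
    intro N hN
    refine KnownA.stem_pow_index_eq_one hσ N (fun x _ hx => ?_) z hz
    suffices e : ⁅N.comap σ, N.comap σ⁆ = ⊥ by rw [e] at hx; exact hx
    rw [eq_bot_iff, Subgroup.commutator_le]
    intro x hx y hy
    obtain ⟨g, hg⟩ := hN.exists_generator
    obtain ⟨t, ht⟩ := hσ.1 g.1
    obtain ⟨i, hi⟩ := hg ⟨σ x, hx⟩
    obtain ⟨j, hj⟩ := hg ⟨σ y, hy⟩
    have key : ∀ (x : Γ) (i : ℤ), (g : Cfsg.Sz F 1) ^ i = σ x → σ x = σ (t ^ i) :=
      fun x i e => by rw [map_zpow, ht, e]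
    rw [Subgroup.mem_bot, comm_congr hσ.2.1 (key x i (by simpa using congrArg Subtype.val hi))
      (key y j (by simpa using congrArg Subtype.val hj)), commutatorElement_eq_one_iff_mul_comm]
    exact (Commute.zpow_zpow (Commute.refl t) i j).eq
  have hd : ∀ N : Subgroup (Cfsg.Sz F 1), IsCyclic N → orderOf z * Nat.card N ∣ 64 * 7 * 65 := fun N hN => by
    have e := card_sz hm1 hF
    rw [hF] at e
    rw [show 64 * 7 * 65 = Nat.card (Cfsg.Sz F 1) from e.symm, ← Subgroup.index_mul_card N]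
    exact mul_dvd_mul_right (orderOf_dvd_of_pow_eq_one (hcyc N hN)) _
  obtain ⟨A₁, hA₁, hA₁k⟩ := exists_torus_of_card hm1 hF (k := 13) (Or.inl rfl)
  obtain ⟨A₂, hA₂, hA₂k⟩ := exists_torus_of_card hm1 hF (k := 5) (Or.inr rfl)
  have d1 := hd _ (isCyclic_hSub h)
  have d2 := hd _ (hA₁.isCyclic hF)
  have d3 := hd _ (hA₂.isCyclic hF)
  rw [card_hSub, hF] at d1
  rw [hA₁k] at d2
  rw [hA₂k] at d3
  have f1 : orderOf z ∣ 4160 := Nat.dvd_of_mul_dvd_mul_right (by norm_num : 0 < 7) d1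
  have f2 : orderOf z ∣ 2240 := Nat.dvd_of_mul_dvd_mul_right (by norm_num : 0 < 13) d2
  have f3 : orderOf z ∣ 5824 := Nat.dvd_of_mul_dvd_mul_right (by norm_num : 0 < 5) d3
  have h64 : z ^ 64 = 1 := orderOf_dvd_iff_pow_eq_one.1 (by
    have := Nat.dvd_gcd (Nat.dvd_gcd f1 f2) f3
    exact this)
  have hidx : (uSub h).index = 455 := by
    have e := Subgroup.card_mul_index (uSub h)
    rw [card_uSub, Nat.card_eq_fintype_card, card_sz hm1 hF, hF] at e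
    omega
  -- the image in the quotient is trivial
  have h455 : (QuotientGroup.mk z : Γ ⧸ C) ^ 455 = 1 := by
    rw [← hidx]
    exact KnownA.stem_pow_index_eq_one hσC _ hU _ hz
  have hz' : (QuotientGroup.mk z : Γ ⧸ C) = 1 := by
    rw [← orderOf_eq_one_iff]
    refine Nat.eq_one_of_dvd_coprimes (show Nat.Coprime 64 455 by norm_num) ?_ (orderOf_dvd_of_pow_eq_one h455)
    refine orderOf_dvd_of_pow_eq_one ?_
    rw [← QuotientGroup.mk_pow, h64]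
    rfl
  obtain ⟨v, hv⟩ := (QuotientGroup.eq_one_iff z).1 hz'
  exact ⟨v.toAdd, hv⟩

/-- The kernel of a stem extension is a quotient of a four-group. -/
theorem exists_surjective (hF : Fintype.card F = 2 ^ (2 * 1 + 1)) (hσ : Cfsg.IsStemExtension σ) :
    ∃ π : Multiplicative (ZMod 2 × ZMod 2) →* σ.ker, Function.Surjective π := by
  obtain ⟨f, hadd, hker, h1, hsurj⟩ := stem_eight hF hσ
  classical
  obtain ⟨t, ht0, ht1⟩ := exists_ne_zero_one le_rfl hF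
  obtain ⟨u, hu⟩ : ∃ u : F, u ∉ ({0, 1, t, 1 + t} : Finset F) := by
    by_contra! hall
    have := Finset.card_le_card (show (Finset.univ : Finset F) ⊆ {0, 1, t, 1 + t} from fun x _ => hall x)
    rw [Finset.card_univ, hF] at this
    have := this.trans Finset.card_le_four
    norm_num at this
  simp only [Finset.mem_insert, Finset.mem_singleton, not_or] at hu
  obtain ⟨hu0, hu1, hut, hu1t⟩ := hu
  have hf0 : f 0 = 1 := by
    have := hadd 0 0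
    rw [add_zero, left_eq_mul] at this
    exact this
  let g : F → σ.ker := fun v => ⟨f v, hker v⟩
  have hg : ∀ v w, g v * g w = g (v + w) := fun v w => Subtype.ext (hadd v w).symm
  have hg0 : g 0 = 1 := Subtype.ext hf0
  let π : Multiplicative (ZMod 2 × ZMod 2) →* σ.ker :=
    MonoidHom.mk' (fun p => g (((p.toAdd.1.val : ℕ) : F) * t + ((p.toAdd.2.val : ℕ) : F) * u)) fun p q => by
      rw [hg]
      congr 1
      have e : ∀ a b : ZMod 2, (((a + b).val : ℕ) : F) = (a.val : F) + (b.val : F) := by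
        intro a b
        rw [ZMod.val_add, ← Nat.cast_add]
        conv_rhs => rw [← Nat.mod_add_div (a.val + b.val) 2]
        simp [CharTwo.two_eq_zero]
      rw [toAdd_mul, Prod.fst_add, Prod.snd_add, e, e]
      ring
  let S : AddSubgroup F :=
    { carrier := {v | g v ∈ π.range}
      zero_mem' := by show g 0 ∈ π.range; rw [hg0]; exact one_mem _
      add_mem' := fun {v w} hv hw => by show g (v + w) ∈ π.range; rw [← hg]; exact mul_mem hv hw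
      neg_mem' := fun {v} hv => by show g (-v) ∈ π.range; rw [CharTwo.neg_eq]; exact hv }
  have hS1 : (1 : F) ∈ S := by
    show g 1 ∈ π.range
    rw [show g 1 = 1 from Subtype.ext h1]
    exact one_mem _
  have hSt : t ∈ S := ⟨Multiplicative.ofAdd (1, 0), by simp [π, g]⟩
  have hSu : u ∈ S := ⟨Multiplicative.ofAdd (0, 1), by simp [π, g]⟩
  have htop : S = ⊤ := by
    refine AddSubgroup.eq_top_of_card_eq _ ?_
    have hd := S.card_addSubgroup_dvd_card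
    rw [Nat.card_eq_fintype_card (α := F), hF] at hd ⊢
    have h5 : 5 ≤ Nat.card S := by
      have hle : ((({0, 1, t, 1 + t, u} : Finset F) : Set F)) ⊆ (S : Set F) := by
        intro x hx
        simp only [Finset.coe_insert, Finset.coe_singleton, Set.mem_insert_iff, Set.mem_singleton_iff] at hx
        rcases hx with rfl | rfl | rfl | rfl | rfl
        exacts [S.zero_mem, hS1, hSt, S.add_mem hS1 hSt, hSu]
      have h1t : 1 + t ≠ 0 := fun e => ht1 (CharTwo.add_eq_zero.1 e).symm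
      have hc : ({0, 1, t, 1 + t, u} : Finset F).card = 5 := by
        simp [Ne.symm ht0, Ne.symm ht1, Ne.symm h1t, ht0, Ne.symm hu0, Ne.symm hu1, Ne.symm hut,
          Ne.symm hu1t]
      rw [← hc, ← Set.ncard_coe_finset, ← SetLike.coe_sort_coe, Nat.card_coe_set_eq]
      exact Set.ncard_le_ncard hle
    rcases (Nat.dvd_prime_pow Nat.prime_two).1 hd with ⟨k, hk, hk'⟩
    interval_cases k <;> omega
  refine ⟨π, fun k => ?_⟩
  obtain ⟨v, hv⟩ := hsurj k k.2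
  obtain ⟨p, hp⟩ := (show v ∈ S from htop ▸ AddSubgroup.mem_top v)
  exact ⟨p, hp.trans (Subtype.ext hv)⟩

end Eight

end CfsgLib.Suzuki.Eight
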