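import Cfsg.Agent.Lib.Suzuki.Action

/-!
The Suzuki group as a group of its own: the subgroups `U`, `H`, `B`, perfectness and simplicity.
-/

set_option autoImplicit false

namespace CfsgLib.Suzuki

open Matrix Cfsg
open scoped Pointwise LinearAlgebra.Projectivization

section Defs

variable {F : Type*} [Field F] [CharP F 2] [Finite F] {m : ℕ}

/-- The unipotent elements, in the group. -/
def tG (h : ThSq F m) (a b : F) : Cfsg.Sz F m := ⟨tSL m a b, tSL_mem h a b⟩

/-- The diagonal elements, in the group. -/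
def hG (h : ThSq F m) : Fˣ →* Cfsg.Sz F m := (hHom m).codRestrict _ fun s => hSL_mem h s

/-- The Weyl element, in the group. -/
def wG (h : ThSq F m) : Cfsg.Sz F m := ⟨wSL F, wSL_mem h⟩

@[simp] theorem coe_tG (h : ThSq F m) (a b : F) : (tG h a b).1 = tSL m a b := rfl

@[simp] theorem coe_hG (h : ThSq F m) (s : Fˣ) : (hG h s).1 = hSL m s := rfl

@[simp] theorem coe_wG (h : ThSq F m) : (wG (m := m) h).1 = wSL F := rfl

theorem tG_mul (h : ThSq F m) (c d a b : F) :
    tG h c d * tG h a b = tG h (a + c) (b + d + th m c * a) :=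
  Subtype.ext (tSL_mul h c d a b)

theorem tG_zero (h : ThSq F m) : tG h (0 : F) 0 = 1 := Subtype.ext tSL_zero

theorem tG_inj (h : ThSq F m) {a b c d : F} (e : tG h a b = tG h c d) : a = c ∧ b = d :=
  tSL_inj (congrArg Subtype.val e)

theorem tG_eq_one (h : ThSq F m) {a b : F} : tG h a b = 1 ↔ a = 0 ∧ b = 0 :=
  ⟨fun e => tG_inj h (e.trans (tG_zero h).symm), by rintro ⟨rfl, rfl⟩; exact tG_zero h⟩

theorem tG_inv (h : ThSq F m) (a b : F) : (tG h a b)⁻¹ = tG h a (b + th m a * a) := by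
  refine inv_eq_of_mul_eq_one_right ?_
  rw [tG_mul, CharTwo.add_self_eq_zero,
    show b + th m a * a + b + th m a * a = 0 by
      linear_combination (b + th m a * a) * (CharTwo.two_eq_zero (R := F)), tG_zero]

theorem hG_injective (h : ThSq F m) : Function.Injective (hG h : Fˣ → Cfsg.Sz F m) := fun s t e => by
  have e2 : hMat m (s : F) = hMat m (t : F) :=
    congrArg (fun g : Cfsg.Sz F m => g.1.1) e
  exact Units.ext (by simpa [hMat] using congrFun (congrFun e2 1) 1)

theorem hG_conj (h : ThSq F m) (s : Fˣ) (a b : F) :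
    hG h s * tG h a b * (hG h s)⁻¹ =
      tG h (th m (s : F) * a) (th m (s : F) * (s : F) ^ 2 * b) :=
  Subtype.ext (hSL_conj h s a b)

theorem wG_sq (h : ThSq F m) : wG (m := m) h * wG h = 1 := Subtype.ext wSL_sq

theorem hG_w (h : ThSq F m) (s : Fˣ) : wG h * hG h s * (wG h)⁻¹ = hG h s⁻¹ := Subtype.ext (hSL_w s)

/-- The subgroup of unipotent elements. -/
def uSub (h : ThSq F m) : Subgroup (Cfsg.Sz F m) where
  carrier := {g | ∃ a b, g = tG h a b}
  mul_mem' := by rintro _ _ ⟨a, b, rfl⟩ ⟨c, d, rfl⟩; exact ⟨_, _, tG_mul h a b c d⟩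
  one_mem' := ⟨0, 0, (tG_zero h).symm⟩
  inv_mem' := by rintro _ ⟨a, b, rfl⟩; exact ⟨_, _, tG_inv h a b⟩

theorem mem_uSub {h : ThSq F m} {g : Cfsg.Sz F m} : g ∈ uSub h ↔ ∃ a b, g = tG h a b := Iff.rfl

theorem card_uSub (h : ThSq F m) : Nat.card (uSub h) = Nat.card F ^ 2 := by
  rw [sq, ← Nat.card_prod]
  refine (Nat.card_eq_of_bijective (fun p : F × F => (⟨tG h p.1 p.2, _, _, rfl⟩ : uSub h)) ⟨?_, ?_⟩).symm
  · intro p q e
    exact Prod.ext (tG_inj h (congrArg Subtype.val e)).1 (tG_inj h (congrArg Subtype.val e)).2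
  · rintro ⟨_, a, b, rfl⟩
    exact ⟨(a, b), rfl⟩

/-- The stabiliser of the point at infinity. -/
def bSub (F : Type*) [Field F] (m : ℕ) : Subgroup (Cfsg.Sz F m) :=
  MulAction.stabilizer (Cfsg.Sz F m) (pInf F)

omit [CharP F 2] [Finite F] in
theorem mem_bSub {g : Cfsg.Sz F m} : g ∈ bSub F m ↔ g.1 • pInf F = pInf F := Iff.rfl

theorem tG_mem_bSub (h : ThSq F m) (a b : F) : tG h a b ∈ bSub F m := tSL_smul_inf a b

theorem hG_mem_bSub (h : ThSq F m) (s : Fˣ) : hG h s ∈ bSub F m := hSL_smul_inf s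

theorem uSub_le_bSub (h : ThSq F m) : uSub h ≤ bSub F m := by
  rintro _ ⟨a, b, rfl⟩; exact tG_mem_bSub h a b

end Defs

section Fintype

set_option linter.unusedSectionVars false

variable {F : Type*} [Field F] [CharP F 2] [Fintype F] {m : ℕ}

theorem two_lt_card (hm : 1 ≤ m) (hF : Fintype.card F = 2 ^ (2 * m + 1)) : 2 < Fintype.card F := by
  rw [hF]
  calc 2 < 2 ^ 3 := by norm_num
    _ ≤ 2 ^ (2 * m + 1) := Nat.pow_le_pow_right (by norm_num) (by omega)

theorem exists_unit_ne_one (hm : 1 ≤ m) (hF : Fintype.card F = 2 ^ (2 * m + 1)) :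
    ∃ s : Fˣ, s ≠ 1 := by
  have h2 := two_lt_card hm hF
  have : Nontrivial Fˣ := Finite.one_lt_card_iff_nontrivial.1 (by
    rw [Nat.card_units, Nat.card_eq_fintype_card]; omega)
  exact exists_ne 1

theorem exists_of_mem_bSub (hm : 1 ≤ m) (hF : Fintype.card F = 2 ^ (2 * m + 1))
    {g : Cfsg.Sz F m} (hg : g ∈ bSub F m) :
    ∃ a b s, g = tG (thSq_of_card hF) a b * hG (thSq_of_card hF) s := by
  obtain ⟨a, b, s, e⟩ := stab_inf hm hF g.2 hg
  exact ⟨a, b, s, Subtype.ext e⟩

/-- The torus part of a triangular element. -/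
def bHom (hm : 1 ≤ m) (hF : Fintype.card F = 2 ^ (2 * m + 1)) : bSub F m →* F where
  toFun g := g.1.1.1 1 1
  map_one' := by simp
  map_mul' := by
    rintro ⟨g, hg⟩ ⟨g', hg'⟩
    obtain ⟨a, b, s, rfl⟩ := exists_of_mem_bSub hm hF hg
    obtain ⟨a', b', s', rfl⟩ := exists_of_mem_bSub hm hF hg'
    show ((tMat m a b * hMat m (s : F)) * (tMat m a' b' * hMat m (s' : F))) 1 1 =
      (tMat m a b * hMat m (s : F)) 1 1 * (tMat m a' b' * hMat m (s' : F)) 1 1
    rw [Matrix.mul_apply]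
    simp [tMat, hMat, Matrix.mul_diagonal, Fin.sum_univ_four]

theorem bHom_apply (hm : 1 ≤ m) (hF : Fintype.card F = 2 ^ (2 * m + 1)) (h : ThSq F m)
    (a b : F) (s : Fˣ) (hg : tG h a b * hG h s ∈ bSub F m) :
    bHom hm hF ⟨_, hg⟩ = (s : F) := by
  show (tMat m a b * hMat m (s : F)) 1 1 = _
  simp [tMat, hMat, Matrix.mul_diagonal]

theorem mem_uSub_of_bHom (hm : 1 ≤ m) (hF : Fintype.card F = 2 ^ (2 * m + 1)) {g : bSub F m}
    (hg : bHom hm hF g = 1) : g.1 ∈ uSub (thSq_of_card hF) := by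
  obtain ⟨g, hg'⟩ := g
  obtain ⟨a, b, s, rfl⟩ := exists_of_mem_bSub hm hF hg'
  rw [bHom_apply hm hF] at hg
  obtain rfl : s = 1 := Units.ext hg
  exact ⟨a, b, by show tG _ a b * hG _ 1 = _; rw [map_one, mul_one]⟩

theorem isPGroup_uSub (hF : Fintype.card F = 2 ^ (2 * m + 1)) :
    IsPGroup 2 (uSub (thSq_of_card hF)) :=
  IsPGroup.of_card (n := (2 * m + 1) * 2)
    (by rw [card_uSub, Nat.card_eq_fintype_card, hF, ← pow_mul])

theorem isSolvable_bSub (hm : 1 ≤ m) (hF : Fintype.card F = 2 ^ (2 * m + 1)) :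
    Group.IsSolvable (bSub F m) := by
  have : Group.IsNilpotent (uSub (thSq_of_card hF)) := (isPGroup_uSub hF).isNilpotent
  refine Group.isSolvable_of_ker_le_range (Subgroup.inclusion (uSub_le_bSub (thSq_of_card hF)))
    (bHom hm hF).toHomUnits ?_
  intro g hg
  have : bHom hm hF g = 1 := by
    simpa using congrArg Units.val (MonoidHom.mem_ker.1 hg)
  exact ⟨⟨g.1, mem_uSub_of_bHom hm hF this⟩, rfl⟩

theorem exists_sz_two_point (hF : Fintype.card F = 2 ^ (2 * m + 1))
    {p q : Projectivization F (Fin 4 → F)} (hp : p ∈ suzukiOvoid F m) (hq : q ∈ suzukiOvoid F m)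
    (hpq : p ≠ q) : ∃ g : Cfsg.Sz F m, g • p = pInf F ∧ g • q = pFin m (0 : F) 0 := by
  obtain ⟨g, hg, h1, h2⟩ := exists_two_point (thSq_of_card hF) hp hq hpq
  exact ⟨⟨g, hg⟩, h1, h2⟩

theorem exists_fixed_point {g : Cfsg.Sz F m} (hg : g * g = 1) :
    ∃ p ∈ suzukiOvoid F m, g • p = p := by
  classical
  have : Fact (Nat.Prime 2) := ⟨Nat.prime_two⟩
  have : Fintype ↥(suzukiOvoid F m) := Fintype.ofFinite _
  let f : Equiv.Perm ↥(suzukiOvoid F m) := MulAction.toPerm g
  have hf : f ^ 2 ^ 1 = 1 := by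
    rw [pow_one, sq]
    refine Equiv.ext fun p => ?_
    show g • g • p = p
    rw [← mul_smul, hg, one_smul]
  have hodd : ¬ 2 ∣ Fintype.card ↥(suzukiOvoid F m) := by
    rw [← Nat.card_eq_fintype_card, Nat.card_coe_set_eq, card_ovoid]
    have h2 : 2 ∣ Nat.card F := by
      obtain ⟨n, _, hn⟩ := FiniteField.card F 2
      rw [Nat.card_eq_fintype_card, hn]
      exact dvd_pow_self 2 n.pos.ne'
    intro h
    have h3 : 2 ∣ Nat.card F ^ 2 := dvd_pow h2 two_ne_zero
    omega
  obtain ⟨p, hp⟩ := Equiv.Perm.exists_fixed_point_of_prime hodd hf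
  exact ⟨p.1, p.2, congrArg Subtype.val hp⟩

/-- The Suzuki group is perfect. -/
theorem commutator_eq_top (hm : 1 ≤ m) (hF : Fintype.card F = 2 ^ (2 * m + 1)) :
    commutator (Cfsg.Sz F m) = ⊤ := by
  set h := thSq_of_card hF
  set D := commutator (Cfsg.Sz F m)
  have hD : D.Normal := inferInstance
  have hcomm : ∀ x y : Cfsg.Sz F m, x * y * x⁻¹ * y⁻¹ ∈ D := fun x y =>
    Subgroup.commutator_mem_commutator (Subgroup.mem_top x) (Subgroup.mem_top y)
  obtain ⟨s, hs⟩ := exists_unit_ne_one hm hF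
  have hs1 : th m (s : F) ≠ 1 := fun e => hs (Units.ext (by
    exact RingHom.injective (th m) (e.trans (map_one _).symm)))
  have hs2 : th m (s : F) * (s : F) ^ 2 ≠ 1 := fun e => by
    have := congrArg (th m) e
    rw [map_mul, map_pow, h, map_one] at this
    have e2 : th m (s : F) * (s : F) = 1 := by
      have hsq : (th m (s : F) * (s : F)) ^ 2 = 1 := by rw [← this]; ring
      rcases mul_eq_zero.1 (show (th m (s : F) * (s : F) - 1) * (th m (s : F) * (s : F) - 1) = 0 by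
        linear_combination hsq + (1 - th m (s : F) * (s : F)) * (CharTwo.two_eq_zero (R := F)))
        with h' | h' <;> exact sub_eq_zero.1 h'
    exact hs (Units.ext (by rw [Units.val_one]; linear_combination e - (s : F) * e2))
  have hU : ∀ a b : F, tG h a b ∈ D := by
    have hz : ∀ b : F, tG h 0 b ∈ D := fun b => by
      have := hcomm (hG h s) (tG h 0 (b * (th m (s : F) * (s : F) ^ 2 + 1)⁻¹))
      rw [hG_conj, tG_inv, tG_mul, mul_zero, map_zero, zero_mul, add_zero, add_zero] at this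
      convert this using 2
      have h0 : th m (s : F) * (s : F) ^ 2 + 1 ≠ 0 := by
        rw [← CharTwo.sub_eq_add]; exact sub_ne_zero.2 hs2
      field_simp
      ring
    intro a b
    have h0 : th m (s : F) + 1 ≠ 0 := by
      rw [← CharTwo.sub_eq_add]; exact sub_ne_zero.2 hs1
    obtain ⟨a', ha'⟩ : ∃ a', a' + th m (s : F) * a' = a :=
      ⟨a * (th m (s : F) + 1)⁻¹, by field_simp; ring⟩
    have h1 := hcomm (hG h s) (tG h a' 0)
    rw [hG_conj, tG_inv, tG_mul, ha'] at h1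
    obtain ⟨c, hc⟩ : ∃ c, tG h a c ∈ D := ⟨_, h1⟩
    have := mul_mem (hz (b + c)) hc
    rw [tG_mul, map_zero, zero_mul, add_zero, add_zero,
      show c + (b + c) = b by linear_combination c * (CharTwo.two_eq_zero (R := F))] at this
    exact this
  have hH : ∀ t : Fˣ, hG h t ∈ D := fun t => by
    obtain ⟨u, hu⟩ : ∃ u : Fˣ, u ^ 2 = t⁻¹ := by
      have hc : (Nat.card Fˣ).Coprime 2 := by
        rw [Nat.coprime_comm, Nat.prime_two.coprime_iff_not_dvd, Nat.card_units,
          Nat.card_eq_fintype_card, hF, pow_succ]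
        have : 1 ≤ 2 ^ (2 * m) := Nat.one_le_two_pow
        omega
      exact ⟨_, Equiv.apply_symm_apply (powCoprime hc) t⁻¹⟩
    have := hcomm (wG h) (hG h u)
    rwa [hG_w, ← map_inv, ← map_mul, ← sq, inv_pow, hu, inv_inv] at this
  have hB : bSub F m ≤ D := fun g hg => by
    obtain ⟨a, b, t, rfl⟩ := exists_of_mem_bSub hm hF hg
    exact mul_mem (hU a b) (hH t)
  have hw : wG h ∈ D := by
    obtain ⟨p, hp, hwp⟩ := exists_fixed_point (wG_sq h)
    obtain ⟨q, hq, hpq⟩ : ∃ q ∈ suzukiOvoid F m, p ≠ q := by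
      by_cases e : p = pInf F
      · exact ⟨pFin m 0 0, mem_ovoid.2 (Or.inr ⟨0, 0, rfl⟩), e ▸ (pFin_ne_inf 0 0).symm⟩
      · exact ⟨pInf F, mem_ovoid.2 (Or.inl rfl), e⟩
    obtain ⟨g, hg, -⟩ := exists_sz_two_point hF hp hq hpq
    have : g * wG h * g⁻¹ ∈ D := hB (by
      show (g * wG h * g⁻¹) • pInf F = pInf F
      rw [mul_smul, mul_smul, inv_smul_eq_iff.2 hg.symm, hwp, hg])
    simpa [mul_assoc] using hD.conj_mem _ this g⁻¹
  rw [eq_top_iff]
  intro g _
  rcases mem_ovoid.1 (smul_mem_ovoid g.2 (mem_ovoid.2 (Or.inl rfl))) with e | ⟨x, y, e⟩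
  · exact hB e
  · have hmem : (tG h x y * wG h)⁻¹ * g ∈ bSub F m := by
      show ((tG h x y * wG h)⁻¹ * g) • pInf F = pInf F
      rw [mul_smul, inv_smul_eq_iff, mul_smul]
      show g.1 • pInf F = tSL m x y • wSL F • pInf F
      rw [e, wSL_smul_inf, tSL_smul h]
      simp
    have h' := mul_mem (mul_mem (hU x y) hw) (hB hmem)
    rwa [mul_inv_cancel_left] at h'

/-- The Suzuki group is doubly transitive on the ovoid. -/
theorem two_transitive (hF : Fintype.card F = 2 ^ (2 * m + 1)) :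
    MulAction.IsMultiplyPretransitive (Cfsg.Sz F m) ↥(suzukiOvoid F m) 2 := by
  rw [MulAction.is_two_pretransitive_iff]
  intro a b c d hab hcd
  obtain ⟨g, hga, hgb⟩ := exists_sz_two_point hF a.2 b.2 (fun e => hab (Subtype.ext e))
  obtain ⟨g', hgc, hgd⟩ := exists_sz_two_point hF c.2 d.2 (fun e => hcd (Subtype.ext e))
  refine ⟨g'⁻¹ * g, Subtype.ext ?_, Subtype.ext ?_⟩
  · show (g'⁻¹ * g) • (a : Projectivization F (Fin 4 → F)) = c
    rw [mul_smul, inv_smul_eq_iff, hga, hgc]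
  · show (g'⁻¹ * g) • (b : Projectivization F (Fin 4 → F)) = d
    rw [mul_smul, inv_smul_eq_iff, hgb, hgd]

theorem three_fixed (hm : 1 ≤ m) (hF : Fintype.card F = 2 ^ (2 * m + 1)) {g : Cfsg.Sz F m}
    {a b c : Projectivization F (Fin 4 → F)} (ha : a ∈ suzukiOvoid F m) (hb : b ∈ suzukiOvoid F m)
    (hc : c ∈ suzukiOvoid F m) (hab : a ≠ b) (hbc : b ≠ c) (hac : a ≠ c)
    (h1 : g • a = a) (h2 : g • b = b) (h3 : g • c = c) : g = 1 := by
  set h := thSq_of_card hF
  obtain ⟨k, hka, hkb⟩ := exists_sz_two_point hF ha hb hab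
  obtain ⟨s, hs⟩ := stab_two hm hF (k * g * k⁻¹).2
    (by show (k * g * k⁻¹) • pInf F = pInf F
        rw [mul_smul, mul_smul, inv_smul_eq_iff.2 hka.symm, h1, hka])
    (by show (k * g * k⁻¹) • pFin m (0 : F) 0 = pFin m 0 0
        rw [mul_smul, mul_smul, inv_smul_eq_iff.2 hkb.symm, h2, hkb])
  have hk : k * g * k⁻¹ = 1 := by
    rcases mem_ovoid.1 (smul_mem_ovoid k.2 hc) with e | ⟨x, y, e⟩
    · exact absurd (MulAction.injective k (hka.trans e.symm)) hac
    have hfix : hSL m s • pFin m x y = pFin m x y := by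
      rw [← hs, ← e]
      show (k * g * k⁻¹) • k • c = k • c
      rw [mul_smul, mul_smul, inv_smul_smul, h3]
    rw [hSL_smul h] at hfix
    obtain ⟨hx, hy⟩ := pFin_inj hfix
    have hs1 : (s : F) = 1 := by
      by_cases hx0 : x = 0
      · have hy0 : y ≠ 0 := fun hy0 => by
          subst hx0 hy0
          exact hbc (MulAction.injective k (hkb.trans e.symm))
        have e1 : th m (s : F) * (s : F) ^ 2 = 1 := by
          apply mul_right_cancel₀ hy0; rw [one_mul]; exact hy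
        have := congrArg (th m) e1
        rw [map_mul, map_pow, h, map_one] at this
        have hsq : (th m (s : F) * (s : F) - 1) * (th m (s : F) * (s : F) - 1) = 0 := by
          linear_combination this + (1 - th m (s : F) * (s : F)) * (CharTwo.two_eq_zero (R := F))
        rcases mul_eq_zero.1 hsq with h' | h' <;>
          linear_combination e1 - (s : F) * h'
      · refine RingHom.injective (th m) ?_
        rw [map_one]
        apply mul_right_cancel₀ hx0; rw [one_mul]; exact hx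
    apply Subtype.ext
    rw [hs, show s = 1 from Units.ext hs1]
    exact map_one (hHom m)
  simpa [mul_inv_eq_one] using hk

theorem faithful (hm : 1 ≤ m) (hF : Fintype.card F = 2 ^ (2 * m + 1)) :
    FaithfulSMul (Cfsg.Sz F m) ↥(suzukiOvoid F m) := by
  refine ⟨fun {g g'} hgg => inv_mul_eq_one.1 ?_ |>.symm⟩
  have key : ∀ p ∈ suzukiOvoid F m, (g'⁻¹ * g) • p = p := fun p hp => by
    rw [mul_smul, inv_smul_eq_iff]
    exact congrArg Subtype.val (hgg ⟨p, hp⟩)
  refine three_fixed hm hF (a := pInf F) (b := pFin m 0 0) (c := pFin m 1 0) ?_ ?_ ?_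
    (pFin_ne_inf 0 0).symm (fun e => zero_ne_one (pFin_inj e).1) (pFin_ne_inf 1 0).symm
    (key _ ?_) (key _ ?_) (key _ ?_)
  all_goals first
    | exact mem_ovoid.2 (Or.inl rfl)
    | exact mem_ovoid.2 (Or.inr ⟨_, _, rfl⟩)

/-- The Suzuki group is simple. -/
theorem isSimpleGroup_sz (hm : 1 ≤ m) (hF : Fintype.card F = 2 ^ (2 * m + 1)) :
    IsSimpleGroup (Cfsg.Sz F m) := by
  set h := thSq_of_card hF
  have : Nontrivial (Cfsg.Sz F m) := ⟨wG h, 1, fun e => by
    have := congrArg (fun g : Cfsg.Sz F m => g.1.1 0 0) e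
    simp [wSL] at this⟩
  have := two_transitive (F := F) hF
  have := faithful (F := F) hm hF
  refine ⟨fun N hN => ?_⟩
  rcases eq_or_ne N ⊥ with h1 | h1
  · exact Or.inl h1
  right
  have : MulAction.IsPreprimitive (Cfsg.Sz F m) ↥(suzukiOvoid F m) :=
    MulAction.isPreprimitive_of_is_two_pretransitive (two_transitive hF)
  have hnf : MulAction.fixedPoints N ↥(suzukiOvoid F m) ≠ Set.univ := fun e => h1 <| by
    rw [Subgroup.eq_bot_iff_forall]
    intro x hx
    refine FaithfulSMul.eq_of_smul_eq_smul (α := ↥(suzukiOvoid F m)) fun p => ?_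
    rw [one_smul]
    exact (e ▸ Set.mem_univ p : p ∈ MulAction.fixedPoints N ↥(suzukiOvoid F m)) ⟨x, hx⟩
  have : MulAction.IsPretransitive N ↥(suzukiOvoid F m) :=
    MulAction.IsQuasiPreprimitive.isPretransitive_of_normal hnf
  have := hN
  have := isSolvable_bSub hm hF
  let f : bSub F m →* (Cfsg.Sz F m) ⧸ N := (QuotientGroup.mk' N).comp (bSub F m).subtype
  have hf : Function.Surjective f := fun q => by
    obtain ⟨g, rfl⟩ := QuotientGroup.mk'_surjective N q
    obtain ⟨n, hn⟩ := MulAction.exists_smul_eq N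
      (⟨g • pInf F, smul_mem_ovoid g.2 (mem_ovoid.2 (Or.inl rfl))⟩ : ↥(suzukiOvoid F m))
      ⟨pInf F, mem_ovoid.2 (Or.inl rfl)⟩
    refine ⟨⟨n.1 * g, ?_⟩, ?_⟩
    · show (n.1 * g) • pInf F = pInf F
      rw [mul_smul]
      exact congrArg Subtype.val hn
    · show QuotientGroup.mk' N (n.1 * g) = QuotientGroup.mk' N g
      rw [map_mul, show QuotientGroup.mk' N n.1 = 1 from (QuotientGroup.eq_one_iff _).2 n.2, one_mul]
  have : Group.IsSolvable ((Cfsg.Sz F m) ⧸ N) := Group.isSolvable_of_surjective hf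
  by_contra hne
  have : Nontrivial ((Cfsg.Sz F m) ⧸ N) := QuotientGroup.nontrivial_iff.2 hne
  have hlt := Group.IsSolvable.commutator_lt_top_of_nontrivial ((Cfsg.Sz F m) ⧸ N)
  refine hlt.ne ?_
  rw [_root_.commutator_def, ← MonoidHom.range_eq_top.2 (QuotientGroup.mk'_surjective N),
    MonoidHom.range_eq_map, ← Subgroup.map_commutator, ← _root_.commutator_def,
    commutator_eq_top hm hF]

end Fintype

end CfsgLib.Suzuki
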